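import Cfsg.Prelude.Def_LocalStructure
import Cfsg.Agent.Lib.PCore.Basic

/-!
Tools for the `Large` library (helper62): conjugates of subgroups, `p`-elements and `p'`-elements,
the coprime stabilizer lemma, the `P × Q` lemma in an ambient group, characteristic `p` criteria.
-/

set_option autoImplicit false

namespace CfsgLib.Large

open Cfsg Subgroup

variable {p : ℕ} {G : Type*} [Group G]

/-! ### Conjugates -/

theorem mem_cj {Q : Subgroup G} {g x : G} :
    x ∈ Q.map (MulAut.conj g).toMonoidHom ↔ g⁻¹ * x * g ∈ Q := by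
  constructor
  · rintro ⟨y, hy, rfl⟩
    simpa [mul_assoc] using hy
  · intro h
    exact ⟨g⁻¹ * x * g, h, by simp [mul_assoc]⟩

theorem cj_cj (Q : Subgroup G) (g h : G) :
    (Q.map (MulAut.conj h).toMonoidHom).map (MulAut.conj g).toMonoidHom =
      Q.map (MulAut.conj (g * h)).toMonoidHom := by
  ext x; simp only [mem_cj]; simp [mul_assoc]

theorem cj_one (Q : Subgroup G) : Q.map (MulAut.conj (1 : G)).toMonoidHom = Q := by
  ext x; simp only [mem_cj]; simp

theorem cj_inv_cj (Q : Subgroup G) (g : G) :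
    (Q.map (MulAut.conj g).toMonoidHom).map (MulAut.conj g⁻¹).toMonoidHom = Q := by
  rw [cj_cj, inv_mul_cancel, cj_one]

theorem cj_le_iff {Q R : Subgroup G} {g : G} :
    Q.map (MulAut.conj g).toMonoidHom ≤ R ↔ ∀ x ∈ Q, g * x * g⁻¹ ∈ R := by
  simp [SetLike.le_def]

theorem mem_normalizer_iff_cj {Q : Subgroup G} {g : G} :
    g ∈ normalizer (Q : Set G) ↔ Q.map (MulAut.conj g).toMonoidHom = Q :=
  Subgroup.mem_normalizer_iff_map_conj_eq

theorem cj_eq_of_mem_normalizer {Q : Subgroup G} {g : G} (h : g ∈ normalizer (Q : Set G)) :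
    Q.map (MulAut.conj g).toMonoidHom = Q :=
  mem_normalizer_iff_cj.1 h

theorem mem_normalizer_of_conj_mem [Finite G] {Q : Subgroup G} {g : G}
    (h : ∀ x ∈ Q, g * x * g⁻¹ ∈ Q) : g ∈ normalizer (Q : Set G) := by
  rw [mem_normalizer_iff_cj]
  exact Subgroup.eq_of_le_of_card_ge (cj_le_iff.2 h)
    (Subgroup.card_map_of_injective (MulAut.conj g).injective).ge

theorem conj_mem_of_normalizer {Q : Subgroup G} {g x : G} (hg : g ∈ normalizer (Q : Set G))
    (hx : x ∈ Q) : g * x * g⁻¹ ∈ Q :=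
  (mem_normalizer_iff.1 hg x).1 hx

theorem centralizer_le_normalizer (Q : Subgroup G) :
    centralizer (Q : Set G) ≤ normalizer (Q : Set G) := by
  intro g hg
  rw [mem_normalizer_iff]
  intro x
  constructor
  · intro hx
    rw [show g * x * g⁻¹ = x by rw [← hg x hx, mul_inv_cancel_right]]
    exact hx
  · intro hx
    have h1 : g * x * g⁻¹ * g = g * (g * x * g⁻¹) := hg _ hx
    have h2 : x = g * x * g⁻¹ :=
      mul_left_cancel (a := g) (by rw [← h1, inv_mul_cancel_right])
    rwa [h2]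

theorem conj_mem_centralizer_of_normalizer {Q : Subgroup G} {g c : G}
    (hg : g ∈ normalizer (Q : Set G)) (hc : c ∈ centralizer (Q : Set G)) :
    g * c * g⁻¹ ∈ centralizer (Q : Set G) := by
  intro x hx
  have h1 : g⁻¹ * x * g ∈ Q := by simpa using conj_mem_of_normalizer (inv_mem hg) hx
  have h2 := hc _ h1
  calc x * (g * c * g⁻¹) = g * (g⁻¹ * x * g * c) * g⁻¹ := by group
    _ = g * (c * (g⁻¹ * x * g)) * g⁻¹ := by rw [h2]
    _ = g * c * g⁻¹ * x := by group

theorem normalizer_le_normalizer_centralizer [Finite G] (Q : Subgroup G) :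
    normalizer (Q : Set G) ≤ normalizer (centralizer (Q : Set G) : Set G) :=
  fun _ hg => mem_normalizer_of_conj_mem fun _ hc => conj_mem_centralizer_of_normalizer hg hc

theorem normalizer_le_normalizer_inf {A B : Subgroup G} :
    normalizer (A : Set G) ⊓ normalizer (B : Set G) ≤ normalizer ((A ⊓ B : Subgroup G) : Set G) := by
  intro g hg
  rw [mem_normalizer_iff]
  intro x
  exact and_congr (mem_normalizer_iff.1 hg.1 x) (mem_normalizer_iff.1 hg.2 x)

theorem centralizer_singleton_le_iff {y : G} {K : Subgroup G} :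
    K ≤ centralizer ({y} : Set G) ↔ ∀ k ∈ K, y * k = k * y := by
  constructor
  · intro h k hk; exact h hk y rfl
  · intro h k hk z hz
    rw [Set.mem_singleton_iff] at hz; subst hz; exact h k hk

/-! ### p-groups and p'-elements -/

/-- A subgroup whose only element of order prime to `p` is `1` is a `p`-group. -/
theorem isPGroup_of_coprime_eq_one [Finite G] [hp : Fact p.Prime] {K : Subgroup G}
    (h : ∀ x ∈ K, (orderOf x).Coprime p → x = 1) : IsPGroup p K := by
  rw [IsPGroup.iff_card]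
  refine ⟨(Nat.card K).primeFactorsList.length,
    Nat.eq_prime_pow_of_unique_prime_dvd Nat.card_pos.ne' ?_⟩
  intro q hq hqd
  have := Fact.mk hq
  obtain ⟨x, hx⟩ := exists_prime_orderOf_dvd_card' (G := K) q hqd
  by_contra hne
  have h1 : orderOf (x : G) = q := by rw [Subgroup.orderOf_coe]; exact hx
  have h2 := h x x.2 (by rw [h1]; exact (Nat.coprime_primes hq hp.out).2 hne)
  rw [h2, orderOf_one] at h1
  exact hq.ne_one h1.symm

theorem eq_one_of_mem_pgroup [Fact p.Prime] {P : Subgroup G} (hP : IsPGroup p P) {x : G}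
    (hx : x ∈ P) (hc : (orderOf x).Coprime p) : x = 1 := by
  obtain ⟨k, hk⟩ := hP ⟨x, hx⟩
  have hk' : x ^ p ^ k = 1 := by simpa using congrArg Subtype.val hk
  have h1 : orderOf x = 1 :=
    Nat.Coprime.eq_one_of_dvd (Nat.Coprime.pow_right k hc) (orderOf_dvd_of_pow_eq_one hk')
  exact orderOf_eq_one_iff.1 h1

theorem isPGroup_of_le {A B : Subgroup G} (hB : IsPGroup p B) (h : A ≤ B) : IsPGroup p A :=
  hB.to_le h

theorem isPGroup_sup {A B : Subgroup G} (hA : IsPGroup p A) (hB : IsPGroup p B)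
    (h : A ≤ normalizer (B : Set G)) : IsPGroup p (A ⊔ B : Subgroup G) :=
  hA.to_sup_of_normal_right' hB h

theorem eq_one_of_pow_coprime [Finite G] [Fact p.Prime] {P : Subgroup G} (hP : IsPGroup p P)
    {c : G} (hc : c ∈ P) {n : ℕ} (hn : n.Coprime p) (h : c ^ n = 1) : c = 1 :=
  eq_one_of_mem_pgroup hP hc (Nat.Coprime.coprime_dvd_left (orderOf_dvd_of_pow_eq_one h) hn)

/-- If `x * a * x⁻¹ = a * c` with `c` in a `p`-group, `c` fixed by the `p'`-element `x`, then `c = 1`. -/
theorem eq_one_of_coprime_step [Finite G] [Fact p.Prime] {P : Subgroup G} (hP : IsPGroup p P)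
    {x a c : G} (hx : (orderOf x).Coprime p) (hc : c ∈ P) (hxc : x * c = c * x)
    (h : x * a * x⁻¹ = a * c) : c = 1 := by
  have key : ∀ n : ℕ, x ^ n * a * (x ^ n)⁻¹ = a * c ^ n := by
    intro n
    induction n with
    | zero => simp
    | succ n ih =>
      have h1 : x * c ^ n * x⁻¹ = c ^ n := by
        rw [(show Commute x (c ^ n) from (show Commute x c from hxc).pow_right n).eq,
          mul_inv_cancel_right]
      rw [pow_succ', show x * x ^ n * a * (x * x ^ n)⁻¹ = x * (x ^ n * a * (x ^ n)⁻¹) * x⁻¹ by group,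
        ih, show x * (a * c ^ n) * x⁻¹ = x * a * x⁻¹ * (x * c ^ n * x⁻¹) by group, h, h1, pow_succ',
        mul_assoc]
  have h2 := key (orderOf x)
  rw [pow_orderOf_eq_one] at h2
  have h3 : c ^ orderOf x = 1 := mul_left_cancel (a := a) (by simpa using h2.symm)
  exact eq_one_of_pow_coprime hP hc hx h3

/-- A `p'`-element centralizing `P₀ ≤ P` and `P` modulo `P₀` centralizes the `p`-group `P`. -/
theorem commute_of_stabilizes [Finite G] [Fact p.Prime] {P P₀ : Subgroup G} (hP₀ : IsPGroup p P₀)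
    {x : G} (hx : (orderOf x).Coprime p) (h₀ : ∀ b ∈ P₀, x * b = b * x)
    (h₁ : ∀ a ∈ P, a⁻¹ * (x * a * x⁻¹) ∈ P₀) : ∀ a ∈ P, x * a = a * x := by
  intro a ha
  have h := eq_one_of_coprime_step hP₀ hx (h₁ a ha) (h₀ _ (h₁ a ha)) (a := a) (by group)
  exact mul_inv_eq_iff_eq_mul.1 (inv_mul_eq_one.1 h).symm

/-- Thompson's `A × B` lemma: a `p'`-element `x` commuting with a `p`-group `A`, both normalizing the
`p`-group `P`, centralizes `P` as soon as it centralizes `C_P(A)`. -/
theorem commute_of_commute_centralizer [Finite G] [Fact p.Prime] {P A : Subgroup G}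
    (hP : IsPGroup p P) (hA : IsPGroup p A) (hAP : A ≤ normalizer (P : Set G)) {x : G}
    (hx : (orderOf x).Coprime p) (hxP : x ∈ normalizer (P : Set G))
    (hxA : ∀ a ∈ A, x * a = a * x) (hxC : ∀ b ∈ P ⊓ centralizer (A : Set G), x * b = b * x) :
    ∀ b ∈ P, x * b = b * x := by
  have hPA : IsPGroup p (A ⊔ P : Subgroup G) := isPGroup_sup hA hP hAP
  set H : Subgroup G := A ⊔ P with hH
  set W : Subgroup G := H ⊓ centralizer ({x} : Set G) with hW
  have hAW : A ≤ W := le_inf le_sup_left (centralizer_singleton_le_iff.2 hxA)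
  have hWle : W ≤ H := inf_le_left
  -- elements of `P` normalizing `W` commute with `x`
  have hN : ∀ b ∈ P, b ∈ normalizer (W : Set G) → x * b = b * x := by
    intro b hb hbW
    have he : b⁻¹ * (x * b * x⁻¹) ∈ P := mul_mem (inv_mem hb) (conj_mem_of_normalizer hxP hb)
    have hcomm : b⁻¹ * (x * b * x⁻¹) ∈ centralizer (A : Set G) := by
      intro w hw
      have hw' : b * w * b⁻¹ ∈ W := conj_mem_of_normalizer hbW (hAW hw)
      have hc : x * (b * w * b⁻¹) = (b * w * b⁻¹) * x := hw'.2 x rfl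
      have hxw := hxA w hw
      have hxw' : x⁻¹ * w = w * x⁻¹ :=
        (show Commute x⁻¹ w from (show Commute x w from hxw).inv_left).eq
      calc w * (b⁻¹ * (x * b * x⁻¹)) = b⁻¹ * ((b * w * b⁻¹) * x) * b * x⁻¹ := by group
        _ = b⁻¹ * (x * (b * w * b⁻¹)) * b * x⁻¹ := by rw [hc]
        _ = b⁻¹ * x * b * (w * x⁻¹) := by group
        _ = b⁻¹ * x * b * (x⁻¹ * w) := by rw [hxw']
        _ = b⁻¹ * (x * b * x⁻¹) * w := by group
    have h1 := eq_one_of_coprime_step hP hx he (hxC _ ⟨he, hcomm⟩) (a := b) (by group)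
    exact mul_inv_eq_iff_eq_mul.1 (inv_mul_eq_one.1 h1).symm
  have hWeq : W = H := by
    by_contra hne
    have hlt : W < H := lt_of_le_of_ne hWle hne
    have := hPA.isNilpotent
    have hnc := Group.normalizerCondition_of_isNilpotent (G := ↥H) (W.subgroupOf H)
      (lt_top_iff_ne_top.2 fun he => hne (le_antisymm hWle (subgroupOf_eq_top.1 he)))
    obtain ⟨⟨g, hg⟩, hgN, hgW⟩ := SetLike.exists_of_lt hnc
    refine hgW ?_
    rw [mem_subgroupOf]
    have hgN' : g ∈ normalizer (W : Set G) := by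
      refine mem_normalizer_of_conj_mem fun w hw => ?_
      have h2 : (⟨g, hg⟩ * ⟨w, hWle hw⟩ * ⟨g, hg⟩⁻¹ : ↥H) ∈ W.subgroupOf H :=
        conj_mem_of_normalizer hgN (mem_subgroupOf.2 hw)
      exact h2
    have hg' : g ∈ (↑(A ⊔ P) : Set G) := hg
    rw [coe_mul_of_left_le_normalizer_right A P hAP] at hg'
    obtain ⟨a, ha, b, hb, rfl⟩ := hg'
    have hbN : b ∈ normalizer (W : Set G) := by
      have : a⁻¹ * (a * b) ∈ normalizer (W : Set G) :=
        mul_mem (inv_mem (le_normalizer (hAW ha))) hgN'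
      simpa using this
    refine mul_mem (hAW ha) ⟨(le_sup_right : P ≤ H) hb, ?_⟩
    intro z hz
    rw [Set.mem_singleton_iff] at hz; subst hz
    exact hN b hb hbN
  intro b hb
  have : b ∈ W := by rw [hWeq]; exact (le_sup_right : P ≤ H) hb
  exact this.2 x rfl

/-! ### `O_p` of a subgroup and characteristic `p` -/

theorem pCoreOf_le (K : Subgroup G) : pCoreOf p K ≤ K := map_subtype_le _

theorem isPGroup_pCoreOf [Finite G] (K : Subgroup G) : IsPGroup p (pCoreOf p K) :=
  (PCore.pCore_isPGroup (p := p) (G := ↥K)).map _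

theorem subgroupOf_pCoreOf (K : Subgroup G) : (pCoreOf p K).subgroupOf K = pCore p K :=
  Subgroup.comap_map_eq_self_of_injective K.subtype_injective _

theorem le_normalizer_pCoreOf [Finite G] (K : Subgroup G) :
    K ≤ normalizer (pCoreOf p K : Set G) := by
  intro g hg
  refine mem_normalizer_of_conj_mem ?_
  rintro _ ⟨z, hz, rfl⟩
  exact ⟨⟨g, hg⟩ * z * ⟨g, hg⟩⁻¹, (pCore_normal p ↥K).conj_mem z hz ⟨g, hg⟩, rfl⟩

theorem le_pCoreOf [Finite G] {K N : Subgroup G} (hNK : N ≤ K)
    (hn : K ≤ normalizer (N : Set G)) (hp : IsPGroup p N) : N ≤ pCoreOf p K := by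
  intro x hx
  refine ⟨⟨x, hNK hx⟩, PCore.le_pCore (N := N.subgroupOf K) ?_
    (hp.comap_of_injective _ K.subtype_injective) hx, rfl⟩
  constructor
  intro a ha b
  exact mem_subgroupOf.2 (conj_mem_of_normalizer (hn b.2) (mem_subgroupOf.1 ha))

theorem normalizer_le_normalizer_pCoreOf [Finite G] (K : Subgroup G) :
    normalizer (K : Set G) ≤ normalizer (pCoreOf p K : Set G) := by
  intro g hg
  refine mem_normalizer_iff_cj.2 (Subgroup.eq_of_le_of_card_ge ?_
    (Subgroup.card_map_of_injective (MulAut.conj g).injective).ge)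
  refine le_pCoreOf ?_ ?_ ((isPGroup_pCoreOf K).map _)
  · exact (map_mono (pCoreOf_le K)).trans_eq (cj_eq_of_mem_normalizer hg)
  · intro k hk
    refine mem_normalizer_of_conj_mem ?_
    intro x hx
    rw [mem_cj] at hx ⊢
    have hk' : g⁻¹ * k * g ∈ K := by simpa using conj_mem_of_normalizer (inv_mem hg) hk
    have h1 := conj_mem_of_normalizer (le_normalizer_pCoreOf K hk') hx
    simpa [mul_assoc] using h1

/-- A subgroup of `K` normalized by `L` meets `L` in a part of `O_p(L)` if it is a `p`-group. -/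
theorem inf_le_pCoreOf [Finite G] {P L : Subgroup G} (hP : IsPGroup p P)
    (hn : L ≤ normalizer (P : Set G)) : P ⊓ L ≤ pCoreOf p L :=
  le_pCoreOf inf_le_right
    ((le_inf hn le_normalizer).trans normalizer_le_normalizer_inf) hP.to_inf_left

/-- `K` has characteristic `p`: internal and ambient form. -/
theorem charP_iff [Finite G] (K : Subgroup G) :
    centralizer (pCore p ↥K : Set ↥K) ≤ pCore p ↥K ↔
      K ⊓ centralizer (pCoreOf p K : Set G) ≤ pCoreOf p K := by
  constructor
  · intro h x hx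
    refine ⟨⟨x, hx.1⟩, h ?_, rfl⟩
    intro y hy
    exact Subtype.ext (hx.2 _ ⟨y, hy, rfl⟩)
  · intro h x hx
    have h1 : (x : G) ∈ pCoreOf p K := h ⟨x.2, by
      rintro _ ⟨y, hy, rfl⟩
      exact congrArg Subtype.val (hx y hy)⟩
    rwa [← subgroupOf_pCoreOf, mem_subgroupOf]

/-- Criterion: every `p'`-element of `K` centralizing `O_p(K)` is trivial. -/
theorem charP_of_forall [Finite G] [Fact p.Prime] {K : Subgroup G}
    (h : ∀ x ∈ K, (orderOf x).Coprime p → (∀ b ∈ pCoreOf p K, x * b = b * x) → x = 1) :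
    centralizer (pCore p ↥K : Set ↥K) ≤ pCore p ↥K := by
  rw [charP_iff]
  refine le_pCoreOf inf_le_left ?_ (isPGroup_of_coprime_eq_one fun x hx hc =>
    h x hx.1 hc fun b hb => (hx.2 b hb).symm)
  exact (le_inf le_normalizer ((le_normalizer_pCoreOf K).trans
    (normalizer_le_normalizer_centralizer _))).trans normalizer_le_normalizer_inf

theorem eq_one_of_charP [Finite G] [Fact p.Prime] {K : Subgroup G}
    (h : centralizer (pCore p ↥K : Set ↥K) ≤ pCore p ↥K) {x : G} (hx : x ∈ K)
    (hc : (orderOf x).Coprime p) (hcent : ∀ b ∈ pCoreOf p K, x * b = b * x) : x = 1 :=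
  eq_one_of_mem_pgroup (isPGroup_pCoreOf K)
    ((charP_iff K).1 h ⟨hx, fun b hb => (hcent b hb).symm⟩) hc

/-- The `p'`-elements centralizing a `p`-subgroup `A` and `O_p` of the centralizer of `A` in a
subgroup `K` of characteristic `p` are trivial. -/
theorem charP_centralizer [Finite G] [Fact p.Prime] {K : Subgroup G}
    (h : centralizer (pCore p ↥K : Set ↥K) ≤ pCore p ↥K) {A : Subgroup G} (hA : IsPGroup p A)
    (hAK : A ≤ normalizer (pCoreOf p K : Set G)) :
    centralizer (pCore p ↥(K ⊓ centralizer (A : Set G)) : Set ↥(K ⊓ centralizer (A : Set G))) ≤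
      pCore p ↥(K ⊓ centralizer (A : Set G)) := by
  refine charP_of_forall fun x hx hc hcent => eq_one_of_charP h hx.1 hc ?_
  refine commute_of_commute_centralizer (isPGroup_pCoreOf K) hA hAK hc
    (le_normalizer_pCoreOf K hx.1) (fun a ha => (hx.2 a ha).symm) ?_
  intro b hb
  refine hcent b (inf_le_pCoreOf (P := pCoreOf p K) (isPGroup_pCoreOf K)
    ((inf_le_left : K ⊓ centralizer (A : Set G) ≤ K).trans (le_normalizer_pCoreOf K)) ?_)
  exact ⟨hb.1, pCoreOf_le K hb.1, hb.2⟩

/-- Characteristic `p` is inherited by a subgroup containing `O_p`. -/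
theorem charP_of_pCoreOf_le [Finite G] [Fact p.Prime] {K L : Subgroup G}
    (h : centralizer (pCore p ↥K : Set ↥K) ≤ pCore p ↥K) (hLK : L ≤ K)
    (hPL : pCoreOf p K ≤ L) : centralizer (pCore p ↥L : Set ↥L) ≤ pCore p ↥L := by
  refine charP_of_forall fun x hx hc hcent => eq_one_of_charP h (hLK hx) hc fun b hb => ?_
  exact hcent b (le_pCoreOf hPL (hLK.trans (le_normalizer_pCoreOf K)) (isPGroup_pCoreOf K) hb)

theorem inf_centralizer_ne_bot [Finite G] [hp : Fact p.Prime] {R Q : Subgroup G} (hR : IsPGroup p R)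
    (hQ : IsPGroup p Q) (hR1 : R ≠ ⊥) (hQR : Q ≤ normalizer (R : Set G)) :
    R ⊓ centralizer (Q : Set G) ≠ ⊥ := by
  let act : MulAction ↥Q ↥R :=
    { smul := fun q r => ⟨q * r * (q : G)⁻¹, conj_mem_of_normalizer (hQR q.2) r.2⟩
      one_smul := fun r => Subtype.ext (by
        show ((1 : ↥Q) : G) * r * ((1 : ↥Q) : G)⁻¹ = r; simp)
      mul_smul := fun a b r => Subtype.ext (by
        show ((a * b : ↥Q) : G) * r * ((a * b : ↥Q) : G)⁻¹ = a * (b * r * (b : G)⁻¹) * (a : G)⁻¹
        simp [mul_assoc]) }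
  have hcard : p ∣ Nat.card ↥R := by
    obtain ⟨n, hn⟩ := IsPGroup.iff_card.1 hR
    rcases n with _ | n
    · exact absurd ((Subgroup.card_eq_one).1 (by simpa using hn)) hR1
    · rw [hn]; exact dvd_pow_self p n.succ_ne_zero
  have h1 : (1 : ↥R) ∈ MulAction.fixedPoints ↥Q ↥R := fun q => Subtype.ext (by
    show (q : G) * ((1 : ↥R) : G) * (q : G)⁻¹ = ((1 : ↥R) : G); simp)
  obtain ⟨b, hb, hne⟩ := hQ.exists_fixed_point_of_prime_dvd_card_of_fixed_point ↥R hcard h1
  intro hbot
  have h2 : (b : G) ∈ R ⊓ centralizer (Q : Set G) := by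
    refine ⟨b.2, fun q hq => ?_⟩
    have h3 : q * (b : G) * q⁻¹ = b := congrArg Subtype.val (hb ⟨q, hq⟩)
    exact mul_inv_eq_iff_eq_mul.1 h3
  rw [hbot, mem_bot] at h2
  exact hne (Subtype.ext h2.symm)

end CfsgLib.Large
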