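import Mathlib

/-!
`SL₂(3)` from generators of a quaternion group permuted by an element of order three (helper62).
-/

set_option autoImplicit false

namespace CfsgLib.Large.SLTwoThree

/-- the relations -/
structure Rel {U : Type*} [Group U] (I J W : U) : Prop where
  four : I ^ 4 = 1
  sq : J * J = I ^ 2
  ji : J * I = I ^ 3 * J
  three : W ^ 3 = 1
  wi : W * I = J * W
  wj : W * J = I * J * W

variable {U : Type*} [Group U] {I J W : U}

/-- normal form -/
def nf (I J W : U) (t : Fin 4 × Fin 2 × Fin 3) : U :=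
  I ^ (t.1 : ℕ) * J ^ (t.2.1 : ℕ) * W ^ (t.2.2 : ℕ)

/-- left multiplication by `I` -/
def lI (t : Fin 4 × Fin 2 × Fin 3) : Fin 4 × Fin 2 × Fin 3 := (t.1 + 1, t.2)

/-- left multiplication by `J` -/
def lJ (t : Fin 4 × Fin 2 × Fin 3) : Fin 4 × Fin 2 × Fin 3 :=
  (if t.2.1 = 0 then 3 * t.1 else 3 * t.1 + 2, t.2.1 + 1, t.2.2)

/-- left multiplication by `W` -/
def lW (t : Fin 4 × Fin 2 × Fin 3) : Fin 4 × Fin 2 × Fin 3 :=
  match t.1, t.2.1 with
  | 0, 0 => (0, 0, t.2.2 + 1)
  | 1, 0 => (0, 1, t.2.2 + 1)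
  | 2, 0 => (2, 0, t.2.2 + 1)
  | 3, 0 => (2, 1, t.2.2 + 1)
  | 0, 1 => (1, 1, t.2.2 + 1)
  | 1, 1 => (1, 0, t.2.2 + 1)
  | 2, 1 => (3, 1, t.2.2 + 1)
  | 3, 1 => (3, 0, t.2.2 + 1)

theorem pow_congr_four (h : Rel I J W) {a b : ℕ} (e : a % 4 = b % 4) : I ^ a = I ^ b := by
  rw [pow_eq_pow_mod a h.four, pow_eq_pow_mod b h.four, e]

theorem mul_I (h : Rel I J W) (t : Fin 4 × Fin 2 × Fin 3) : I * nf I J W t = nf I J W (lI t) := by
  obtain ⟨a, b, c⟩ := t
  simp only [nf, lI]
  rw [← mul_assoc, ← mul_assoc, ← pow_succ']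
  congr 2
  exact pow_congr_four h (by revert a; decide)

theorem J_pow (h : Rel I J W) (n : ℕ) : J * I ^ n = I ^ (3 * n) * J := by
  induction n with
  | zero => simp
  | succ n ih =>
    rw [pow_succ, ← mul_assoc, ih, mul_assoc, h.ji, ← mul_assoc, ← pow_add, mul_add, mul_one]

theorem mul_J (h : Rel I J W) (t : Fin 4 × Fin 2 × Fin 3) : J * nf I J W t = nf I J W (lJ t) := by
  obtain ⟨a, b, c⟩ := t
  simp only [nf, lJ]
  rw [← mul_assoc, ← mul_assoc, J_pow h]
  congr 1
  fin_cases b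
  · simp only [Fin.zero_eta, Fin.val_zero, pow_zero, mul_one, if_true, zero_add, Fin.val_one, pow_one]
    congr 1
    exact pow_congr_four h (by revert a; decide)
  · simp only [Fin.mk_one, Fin.val_one, pow_one, one_ne_zero, if_false, mul_assoc, h.sq, ← pow_add]
    rw [show (((1 : Fin 2) + 1 : Fin 2) : ℕ) = 0 from rfl, pow_zero, mul_one]
    exact pow_congr_four h (by revert a; decide)

theorem mul_W (h : Rel I J W) (t : Fin 4 × Fin 2 × Fin 3) : W * nf I J W t = nf I J W (lW t) := by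
  obtain ⟨a, b, c⟩ := t
  have hc : W * W ^ (c : ℕ) = W ^ ((c + 1 : Fin 3) : ℕ) := by
    rw [← pow_succ', pow_eq_pow_mod _ h.three, pow_eq_pow_mod ((c + 1 : Fin 3) : ℕ) h.three]
    congr 1
    revert c; decide
  have w1 : ∀ x : U, W * (I * x) = J * (W * x) := fun x => by rw [← mul_assoc, h.wi, mul_assoc]
  have w2 : ∀ x : U, W * (J * x) = I * (J * (W * x)) := fun x => by
    rw [← mul_assoc, h.wj, mul_assoc, mul_assoc]
  have j1 : ∀ x : U, J * (I * x) = I * (I * (I * (J * x))) := fun x => by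
    rw [← mul_assoc, h.ji, pow_succ, pow_two]; simp only [mul_assoc]
  have j2 : ∀ x : U, J * (J * x) = I * (I * x) := fun x => by
    rw [← mul_assoc, h.sq, pow_two, mul_assoc]
  have i4 : ∀ x : U, I * (I * (I * (I * x))) = x := fun x => by
    have e : I * (I * (I * I)) = 1 := by rw [← h.four]; simp [pow_succ, mul_assoc]
    rw [← mul_assoc I I, ← mul_assoc (I * I) I, ← mul_assoc (I * I * I) I,
      show I * I * I * I = 1 by rw [← e]; simp only [mul_assoc], one_mul]
  fin_cases a <;> fin_cases b <;>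
    simp only [nf, lW, pow_succ, pow_zero, one_mul, mul_one, mul_assoc] <;>
    simp [w1, w2, j1, j2, i4, hc, pow_succ, mul_assoc]

/-- the generators in `SL₂(3)` -/
def gI : Matrix.SpecialLinearGroup (Fin 2) (ZMod 3) := ⟨!![0, 2; 1, 0], by decide⟩
/-- the generators in `SL₂(3)` -/
def gJ : Matrix.SpecialLinearGroup (Fin 2) (ZMod 3) := ⟨!![1, 1; 1, 2], by decide⟩
/-- the generators in `SL₂(3)` -/
def gW : Matrix.SpecialLinearGroup (Fin 2) (ZMod 3) := ⟨!![1, 1; 0, 1], by decide⟩

theorem rel_sl : Rel gI gJ gW :=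
  ⟨by decide +kernel, by decide +kernel, by decide +kernel, by decide +kernel, by decide +kernel,
    by decide +kernel⟩

theorem nf_surjective : ∀ x : Matrix.SpecialLinearGroup (Fin 2) (ZMod 3),
    ∃ t, nf gI gJ gW t = x := by decide +kernel

theorem nf_injective : ∀ s t, nf gI gJ gW s = nf gI gJ gW t → s = t := by decide +kernel

theorem card_sl : Nat.card (Matrix.SpecialLinearGroup (Fin 2) (ZMod 3)) = 24 := by
  rw [← Nat.card_eq_of_bijective (nf gI gJ gW) ⟨fun s t => nf_injective s t, nf_surjective⟩]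
  simp

/-- a group with `24` elements and these relations, whose normal form map is onto -/
theorem nonempty_equiv (h : Rel I J W) [Finite U] (hcard : Nat.card U = 24)
    (hgen : ∀ H : Subgroup U, I ∈ H → J ∈ H → W ∈ H → H = ⊤) :
    Nonempty (U ≃* Matrix.SpecialLinearGroup (Fin 2) (ZMod 3)) := by
  let f : Matrix.SpecialLinearGroup (Fin 2) (ZMod 3) → U := fun x =>
    nf I J W (nf_surjective x).choose
  have hf : ∀ t, f (nf gI gJ gW t) = nf I J W t := fun t => by
    show nf I J W _ = _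
    rw [nf_injective _ _ (nf_surjective (nf gI gJ gW t)).choose_spec]
  have sI : ∀ x, f (gI * x) = I * f x := fun x => by
    obtain ⟨t, rfl⟩ := nf_surjective x
    rw [mul_I rel_sl, hf, hf, mul_I h]
  have sJ : ∀ x, f (gJ * x) = J * f x := fun x => by
    obtain ⟨t, rfl⟩ := nf_surjective x
    rw [mul_J rel_sl, hf, hf, mul_J h]
  have sW : ∀ x, f (gW * x) = W * f x := fun x => by
    obtain ⟨t, rfl⟩ := nf_surjective x
    rw [mul_W rel_sl, hf, hf, mul_W h]
  have pI : ∀ (n : ℕ) x, f (gI ^ n * x) = I ^ n * f x := fun n => by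
    induction n with
    | zero => simp
    | succ n ih => intro x; rw [pow_succ', mul_assoc, sI, ih, pow_succ', mul_assoc]
  have pJ : ∀ (n : ℕ) x, f (gJ ^ n * x) = J ^ n * f x := fun n => by
    induction n with
    | zero => simp
    | succ n ih => intro x; rw [pow_succ', mul_assoc, sJ, ih, pow_succ', mul_assoc]
  have pW : ∀ (n : ℕ) x, f (gW ^ n * x) = W ^ n * f x := fun n => by
    induction n with
    | zero => simp
    | succ n ih => intro x; rw [pow_succ', mul_assoc, sW, ih, pow_succ', mul_assoc]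
  have hmul : ∀ x y, f (x * y) = f x * f y := fun x y => by
    obtain ⟨t, rfl⟩ := nf_surjective x
    rw [hf]
    simp only [nf, mul_assoc]
    rw [pI, pJ, pW]
  let F : Matrix.SpecialLinearGroup (Fin 2) (ZMod 3) →* U := MonoidHom.mk' f hmul
  have h1 : f 1 = 1 := F.map_one
  have hsurj : Function.Surjective F := by
    rw [← MonoidHom.range_eq_top]
    refine hgen _ ⟨gI, ?_⟩ ⟨gJ, ?_⟩ ⟨gW, ?_⟩
    · show f gI = I
      rw [← mul_one gI, sI, h1, mul_one]
    · show f gJ = J
      rw [← mul_one gJ, sJ, h1, mul_one]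
    · show f gW = W
      rw [← mul_one gW, sW, h1, mul_one]
  refine ⟨(MulEquiv.ofBijective F ((Nat.bijective_iff_surjective_and_card F).2 ⟨hsurj, ?_⟩)).symm⟩
  rw [card_sl, hcard]

end CfsgLib.Large.SLTwoThree
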