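import Cfsg.Agent.Lib.PGroup.Extraspecial

/-!
Number of elements of order four in an extraspecial 2-group of plus type (helper62).
-/

set_option autoImplicit false

namespace CfsgLib.Large.PlusType

open Cfsg Subgroup
open scoped Classical commutatorElement

theorem card_orderOf_four {E : Type*} [Group E] [Finite E] (m : ℕ)
    (hE : Cfsg.IsExtraspecial 2 E) (hcard : Nat.card E = 2 ^ (2 * m + 1)) (A : Subgroup E)
    (hA : Cfsg.IsElementaryAbelian 2 A) (hAcard : Nat.card A = 2 ^ (m + 1)) :
    Nat.card {x : E // orderOf x = 4} = 2 ^ (2 * m) - 2 ^ m := by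
  have : Fact (Nat.Prime 2) := ⟨Nat.prime_two⟩
  have := Fintype.ofFinite E
  have hAc : A ≤ centralizer (A : Set E) := le_centralizer_iff_isMulCommutative.2 hA.1
  have hself : ∀ x ∈ centralizer (A : Set E), x ∈ A := by
    intro x hx
    have hxA : zpowers x ≤ centralizer (A : Set E) := zpowers_le.2 hx
    have hB : A ⊔ zpowers x ≤ centralizer ((A ⊔ zpowers x : Subgroup E) : Set E) :=
      sup_le (le_centralizer_iff.1 (sup_le hAc hxA))
        (le_centralizer_iff.1 (sup_le (le_centralizer_iff.1 hxA) (le_centralizer _)))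
    have h1 := PGroup.extraspecial_abelian_card hE _ (le_centralizer_iff_isMulCommutative.1 hB)
    have h2 : Nat.card ↥(A ⊔ zpowers x) ≤ Nat.card A := by
      refine Nat.mul_self_le_mul_self_iff.1 (h1.trans_eq ?_)
      rw [hcard, hAcard, ← pow_add, ← pow_succ']
      congr 1; omega
    rw [Subgroup.eq_of_le_of_card_ge (le_sup_left : A ≤ A ⊔ zpowers x) h2]
    exact (le_sup_right : zpowers x ≤ A ⊔ zpowers x) (mem_zpowers x)
  have hz2 : ∀ z w : E, z ∈ center E → w ∈ center E → z ≠ 1 → w ≠ 1 → z = w := by
    intro z w hz hw hz1 hw1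
    have h := Nat.card_eq_two_iff' (1 : center E) |>.1 hE.2
    obtain ⟨u, -, hu⟩ := h
    have e1 := hu ⟨z, hz⟩ fun e => hz1 (congrArg Subtype.val e)
    have e2 := hu ⟨w, hw⟩ fun e => hw1 (congrArg Subtype.val e)
    exact congrArg Subtype.val (e1.trans e2.symm)
  have hsqc : ∀ x : E, x ^ 2 ∈ center E := PGroup.extraspecial_pow_mem_center hE
  have hz1 : ∀ {z : E}, z ∈ center E → z ^ 2 = 1 := fun hz =>
    PGroup.extraspecial_center_pow_eq_one hE hz
  have h4 : ∀ x : E, orderOf x = 4 ↔ x ^ 2 ≠ 1 := by
    intro x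
    constructor
    · intro h e
      have := orderOf_dvd_of_pow_eq_one e
      rw [h] at this
      norm_num at this
    · intro h
      refine orderOf_eq_prime_pow (p := 2) (n := 1) (by simpa using h) ?_
      rw [show (2 : ℕ) ^ (1 + 1) = 2 * 2 from rfl, pow_mul]
      exact hz1 (hsqc x)
  -- outside `A`, multiplying by a non-commuting element of `A` switches the square
  have hflip : ∀ x a : E, a ∈ A → x * a ≠ a * x → ((x * a) ^ 2 = 1 ↔ x ^ 2 ≠ 1) := by
    intro x a ha hne
    have hc : (x⁻¹ * a * x * a) ∈ center E := by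
      have h := PGroup.extraspecial_comm_mem_center hE x⁻¹ a
      have ha' : a⁻¹ = a := inv_eq_of_mul_eq_one_left (by rw [← pow_two]; exact hA.2 a ha)
      rwa [commutatorElement_def, inv_inv, ha'] at h
    have hc1 : x⁻¹ * a * x * a ≠ 1 := by
      intro e
      refine hne ?_
      calc x * a = x * a * 1 := (mul_one _).symm
        _ = x * a * (x⁻¹ * a * x * a)⁻¹ := by rw [e, inv_one]
        _ = a⁻¹ * x := by group
        _ = a * x := by rw [inv_eq_of_mul_eq_one_left (by rw [← pow_two]; exact hA.2 a ha)]
    have e : (x * a) ^ 2 = x ^ 2 * (x⁻¹ * a * x * a) := by rw [pow_two, pow_two]; group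
    rw [e]
    constructor
    · intro h h2
      rw [h2, one_mul] at h
      exact hc1 h
    · intro h
      rw [hz2 (x ^ 2) _ (hsqc x) hc h hc1, ← pow_two]
      exact hz1 hc
  have hcomm : ∀ x : E, x ∉ A →
      2 * (Finset.univ.filter fun a : E => a ∈ A ∧ x * a ≠ a * x).card = Nat.card A := by
    intro x hx
    obtain ⟨b, hb, hbx⟩ : ∃ b ∈ A, x * b ≠ b * x := by
      by_contra hall
      push Not at hall
      exact hx (hself x fun a ha => (hall a ha).symm)
    set s := Finset.univ.filter fun a : E => a ∈ A ∧ x * a ≠ a * x with hs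
    set t := Finset.univ.filter fun a : E => a ∈ A ∧ x * a = a * x with ht
    have hst : s.card + t.card = Nat.card A := by
      rw [Nat.card_eq_fintype_card, Fintype.card_subtype,
        ← Finset.card_filter_add_card_filter_not (s := Finset.univ.filter fun a : E => a ∈ A)
          (fun a => x * a ≠ a * x), hs, ht, Finset.filter_filter, Finset.filter_filter]
      simp only [not_not, ne_eq]
    have hts : t.card = s.card := by
      refine Finset.card_bij' (fun a _ => b * a) (fun a _ => b * a) ?_ ?_ ?_ ?_
      · intro a ha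
        simp only [ht, Finset.mem_filter, Finset.mem_univ, true_and] at ha
        simp only [hs, Finset.mem_filter, Finset.mem_univ, true_and]
        refine ⟨mul_mem hb ha.1, fun e => hbx ?_⟩
        calc x * b = x * (b * a) * a⁻¹ := by group
          _ = b * (a * x) * a⁻¹ := by rw [e]; group
          _ = b * x := by rw [← ha.2]; group
      · intro a ha
        simp only [hs, Finset.mem_filter, Finset.mem_univ, true_and] at ha
        simp only [ht, Finset.mem_filter, Finset.mem_univ, true_and]
        refine ⟨mul_mem hb ha.1, ?_⟩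
        -- two nontrivial central commutators agree
        have k1 : b * x ≠ x * b := fun e => hbx e.symm
        have c1 : ⁅x, b⁆ ∈ center E := PGroup.extraspecial_comm_mem_center hE x b
        have c2 : ⁅x, a⁆ ∈ center E := PGroup.extraspecial_comm_mem_center hE x a
        have e1 : ⁅x, b⁆ = ⁅x, a⁆ := hz2 _ _ c1 c2
          (fun e => hbx (commutatorElement_eq_one_iff_mul_comm.1 e))
          (fun e => ha.2 (commutatorElement_eq_one_iff_mul_comm.1 e))
        refine commutatorElement_eq_one_iff_mul_comm.1 ?_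
        calc ⁅x, b * a⁆ = ⁅x, b⁆ * (b * ⁅x, a⁆ * b⁻¹) := by group
          _ = ⁅x, a⁆ * ⁅x, a⁆ := by rw [mem_center_iff.1 c2 b, mul_inv_cancel_right, e1]
          _ = 1 := by rw [← pow_two]; exact hz1 c2
      all_goals
        intro a ha
        simp only [← mul_assoc, show b * b = 1 by rw [← pow_two]; exact hA.2 b hb, one_mul]
    omega
  set S4 := Finset.univ.filter fun x : E => x ∉ A ∧ x ^ 2 ≠ 1 with hS4
  set S2 := Finset.univ.filter fun x : E => x ∉ A ∧ x ^ 2 = 1 with hS2
  set pairs := fun S : Finset E => S.sigma fun x => Finset.univ.filter fun a : E => a ∈ A ∧ x * a ≠ a * x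
  have hpairs : ∀ S : Finset E, (∀ x ∈ S, x ∉ A) → 2 * (pairs S).card = S.card * Nat.card A := by
    intro S hS
    rw [Finset.card_sigma, Finset.mul_sum, Finset.sum_const_nat fun x hx => hcomm x (hS x hx)]
  have hbij : (pairs S4).card = (pairs S2).card := by
    refine Finset.card_bij' (fun q _ => ⟨q.1 * q.2, q.2⟩) (fun q _ => ⟨q.1 * q.2, q.2⟩) ?_ ?_ ?_ ?_
    · rintro ⟨x, a⟩ hq
      simp only [pairs, hS4, hS2, Finset.mem_sigma, Finset.mem_filter, Finset.mem_univ, true_and] at hq ⊢
      refine ⟨⟨fun h => hq.1.1 (by simpa using mul_mem h (inv_mem hq.2.1)),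
        (hflip x a hq.2.1 hq.2.2).2 hq.1.2⟩, hq.2.1, fun e => hq.2.2 ?_⟩
      exact mul_right_cancel (e.trans (mul_assoc _ _ _).symm)
    · rintro ⟨x, a⟩ hq
      simp only [pairs, hS4, hS2, Finset.mem_sigma, Finset.mem_filter, Finset.mem_univ, true_and] at hq ⊢
      refine ⟨⟨fun h => hq.1.1 (by simpa using mul_mem h (inv_mem hq.2.1)), fun h =>
        (hflip x a hq.2.1 hq.2.2).1 h hq.1.2⟩, hq.2.1, fun e => hq.2.2 ?_⟩
      exact mul_right_cancel (e.trans (mul_assoc _ _ _).symm)
    all_goals
      rintro ⟨x, a⟩ hq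
      simp only [pairs, hS4, hS2, Finset.mem_sigma, Finset.mem_filter, Finset.mem_univ, true_and] at hq ⊢
      simp only [mul_assoc, show a * a = 1 by rw [← pow_two]; exact hA.2 a hq.2.1, mul_one]
  have heq : S4.card = S2.card := by
    refine Nat.eq_of_mul_eq_mul_right (Nat.card_pos (α := A)) ?_
    rw [← hpairs S4 fun x hx => (Finset.mem_filter.1 hx).2.1,
      ← hpairs S2 fun x hx => (Finset.mem_filter.1 hx).2.1, hbij]
  have htot : S4.card + S2.card + Nat.card A = Nat.card E := by
    rw [Nat.card_eq_fintype_card, Nat.card_eq_fintype_card (α := E), ← Finset.card_univ (α := E),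
      ← Finset.card_filter_add_card_filter_not (s := (Finset.univ : Finset E)) (fun x => x ∉ A)]
    congr 1
    · rw [← Finset.card_filter_add_card_filter_not (s := Finset.univ.filter fun x : E => x ∉ A)
        (fun x => x ^ 2 ≠ 1), hS4, hS2, Finset.filter_filter, Finset.filter_filter]
      simp only [not_not, ne_eq]
    · rw [Fintype.card_subtype]
      simp only [not_not]
  have hres : Nat.card {x : E // orderOf x = 4} = S4.card := by
    rw [Nat.card_eq_fintype_card, Fintype.card_subtype, hS4]
    congr 1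
    ext x
    simp only [Finset.mem_filter, Finset.mem_univ, true_and, h4]
    exact ⟨fun h => ⟨fun hx => h (hA.2 x hx), h⟩, fun h => h.2⟩
  rw [hres]
  rw [hcard, hAcard, pow_succ, pow_succ] at htot
  omega

end CfsgLib.Large.PlusType
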