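import Cfsg.Agent.Lib.Large.Tools

/-!
Weakly closed and large subgroups (helper62).
-/

set_option autoImplicit false

namespace CfsgLib.Large

open Cfsg Subgroup
open scoped commutatorElement

variable {p : ℕ} {G : Type*} [Group G] [Finite G] [Fact p.Prime]

theorem sylow_cj_eq (T : Sylow p G) (g : G) :
    (T : Subgroup G).map (MulAut.conj g).toMonoidHom = ((g • T : Sylow p G) : Subgroup G) := rfl

theorem isPGroup_cj {Q : Subgroup G} (hQ : IsPGroup p Q) (g : G) :
    IsPGroup p (Q.map (MulAut.conj g).toMonoidHom) := hQ.map _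

/-- Every `p`-group lies in a conjugate of a given Sylow subgroup. -/
theorem exists_conj_sylow (T : Sylow p G) {P : Subgroup G} (hP : IsPGroup p P) :
    ∃ a : G, P ≤ (T : Subgroup G).map (MulAut.conj a).toMonoidHom := by
  obtain ⟨S, hS⟩ := hP.exists_le_sylow
  obtain ⟨a, ha⟩ := MulAction.exists_smul_eq G T S
  exact ⟨a, by rw [sylow_cj_eq, ha]; exact hS⟩

/-! ### Weakly closed subgroups -/

theorem wc_isPGroup {Q : Subgroup G} (h : IsWeaklyClosedSubgroup p Q) : IsPGroup p Q := by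
  obtain ⟨T, hT⟩ := h
  exact T.2.to_le hT.1

omit [Finite G] in
theorem centralizer_cj (R : Subgroup G) (a : G) :
    centralizer ((R.map (MulAut.conj a).toMonoidHom : Subgroup G) : Set G) =
      (centralizer (R : Set G)).map (MulAut.conj a).toMonoidHom := by
  ext x
  rw [mem_cj]
  constructor
  · intro hx r hr
    have h1 := hx (a * r * a⁻¹) ⟨r, hr, rfl⟩
    calc r * (a⁻¹ * x * a) = a⁻¹ * (a * r * a⁻¹ * x) * a := by group
      _ = a⁻¹ * (x * (a * r * a⁻¹)) * a := by rw [h1]
      _ = a⁻¹ * x * a * r := by group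
  · rintro hx _ ⟨r, hr, rfl⟩
    show a * r * a⁻¹ * x = x * (a * r * a⁻¹)
    calc a * r * a⁻¹ * x = a * (r * (a⁻¹ * x * a)) * a⁻¹ := by group
      _ = a * (a⁻¹ * x * a * r) * a⁻¹ := by rw [hx r hr]
      _ = x * (a * r * a⁻¹) := by group

/-- A `p`-group containing a weakly closed subgroup `Q` normalizes it. -/
theorem wc_le_normalizer {Q P : Subgroup G} (h : IsWeaklyClosedSubgroup p Q) (hP : IsPGroup p P)
    (hQP : Q ≤ P) : P ≤ normalizer (Q : Set G) := by
  obtain ⟨T, hQT, hcl⟩ := h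
  obtain ⟨a, ha⟩ := exists_conj_sylow T hP
  have hTN : (T : Subgroup G) ≤ normalizer (Q : Set G) := fun t ht =>
    mem_normalizer_iff_cj.2 (hcl t ((map_mono hQT).trans_eq (cj_eq_of_mem_normalizer
      (le_normalizer ht))))
  have haN : a⁻¹ ∈ normalizer (Q : Set G) :=
    mem_normalizer_iff_cj.2 (hcl a⁻¹ ((map_mono (hQP.trans ha)).trans_eq (cj_inv_cj _ a)))
  intro y hy
  have h1 : a⁻¹ * y * a ∈ normalizer (Q : Set G) := hTN (mem_cj.1 (ha hy))
  have h2 := mul_mem (mul_mem (inv_mem haN) h1) haN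
  simpa [mul_assoc] using h2

/-- Two conjugates of a weakly closed subgroup inside one `p`-group are equal. -/
theorem wc_eq_of_le {Q P : Subgroup G} (h : IsWeaklyClosedSubgroup p Q) (hP : IsPGroup p P)
    {g : G} (hQP : Q ≤ P) (hg : Q.map (MulAut.conj g).toMonoidHom ≤ P) :
    Q.map (MulAut.conj g).toMonoidHom = Q := by
  obtain ⟨T, -, hcl⟩ := h
  obtain ⟨a, ha⟩ := exists_conj_sylow T hP
  have h1 := hcl a⁻¹ ((map_mono (hQP.trans ha)).trans_eq (cj_inv_cj _ a))
  have h2 := hcl (a⁻¹ * g) (by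
    rw [← cj_cj]; exact (map_mono (hg.trans ha)).trans_eq (cj_inv_cj _ a))
  refine Subgroup.map_injective
    (f := (MulAut.conj a⁻¹).toMonoidHom) (MulAut.conj a⁻¹).injective ?_
  rw [cj_cj, h2, h1]

/-- A weakly closed subgroup is weakly closed in every Sylow subgroup containing it. -/
theorem wc_sylow {Q : Subgroup G} (h : IsWeaklyClosedSubgroup p Q) (T : Sylow p G)
    (hQT : Q ≤ (T : Subgroup G)) : IsWeaklyClosed Q (T : Subgroup G) :=
  ⟨hQT, fun _ hg => wc_eq_of_le h T.2 hQT hg⟩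

theorem wc_cj {Q : Subgroup G} (h : IsWeaklyClosedSubgroup p Q) (g : G) :
    IsWeaklyClosedSubgroup p (Q.map (MulAut.conj g).toMonoidHom) := by
  obtain ⟨T, hQT, hcl⟩ := h
  refine ⟨g • T, (map_mono hQT).trans_eq (sylow_cj_eq T g), fun x hx => ?_⟩
  have h1 := hcl (g⁻¹ * x * g) (by
    rw [mul_assoc, ← cj_cj, ← cj_cj]
    exact (map_mono hx).trans_eq (by rw [← sylow_cj_eq, cj_inv_cj]))
  calc (Q.map (MulAut.conj g).toMonoidHom).map (MulAut.conj x).toMonoidHom
      = (Q.map (MulAut.conj (g⁻¹ * x * g)).toMonoidHom).map (MulAut.conj g).toMonoidHom := by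
        rw [cj_cj, cj_cj]; congr 3; group
    _ = Q.map (MulAut.conj g).toMonoidHom := by rw [h1]

/-- If `C` and the `p`-group `Q ⊇` generate a `p`-group, they normalize `Q`. -/
theorem wc_normalizer_of_isPGroup_sup {Q C : Subgroup G} (h : IsWeaklyClosedSubgroup p Q)
    (hC : IsPGroup p C) (hQC : Q ≤ normalizer (C : Set G)) : C ≤ normalizer (Q : Set G) :=
  le_sup_right.trans (wc_le_normalizer h (isPGroup_sup (wc_isPGroup h) hC hQC) le_sup_left)

/-- Conjugates of `Q` in a subgroup `K ≥ Q` are conjugate to `Q` in `K`. -/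
theorem wc_exists_mem {Q K : Subgroup G} (h : IsWeaklyClosedSubgroup p Q) (hQK : Q ≤ K) {g : G}
    (hg : Q.map (MulAut.conj g).toMonoidHom ≤ K) :
    ∃ k ∈ K, Q.map (MulAut.conj g).toMonoidHom = Q.map (MulAut.conj k).toMonoidHom := by
  have hQ := wc_isPGroup h
  have hP1 : IsPGroup p (Q.subgroupOf K) := hQ.comap_of_injective _ K.subtype_injective
  have hP2 : IsPGroup p ((Q.map (MulAut.conj g).toMonoidHom).subgroupOf K) :=
    (isPGroup_cj hQ g).comap_of_injective _ K.subtype_injective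
  obtain ⟨S1, hS1⟩ := hP1.exists_le_sylow
  obtain ⟨S2, hS2⟩ := hP2.exists_le_sylow
  obtain ⟨k, hk⟩ := MulAction.exists_smul_eq ↥K S1 S2
  refine ⟨k, k.2, ?_⟩
  have hle : ((Q.map (MulAut.conj g).toMonoidHom)).map (MulAut.conj (k : G)⁻¹).toMonoidHom ≤
      (S1 : Subgroup ↥K).map K.subtype := by
    intro x hx
    rw [mem_cj, inv_inv] at hx
    have h1 := hS2 (x := ⟨_, hg hx⟩) hx
    rw [← hk, Sylow.coe_subgroup_smul, Subgroup.mem_pointwise_smul_iff_inv_smul_mem] at h1
    exact ⟨_, h1, by simp [mul_assoc]⟩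
  have hQle : Q ≤ (S1 : Subgroup ↥K).map K.subtype := fun x hx =>
    ⟨⟨x, hQK hx⟩, hS1 hx, rfl⟩
  rw [cj_cj] at hle
  have h2 := wc_eq_of_le h (S1.2.map _) hQle hle
  calc Q.map (MulAut.conj g).toMonoidHom
      = (Q.map (MulAut.conj ((k : G)⁻¹ * g)).toMonoidHom).map (MulAut.conj (k : G)).toMonoidHom := by
        rw [cj_cj, mul_inv_cancel_left]
    _ = _ := by rw [h2]

theorem cj_le_weakClosure {Q L : Subgroup G} {g : G}
    (h : Q.map (MulAut.conj g).toMonoidHom ≤ L) :
    Q.map (MulAut.conj g).toMonoidHom ≤ weakClosure Q L :=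
  le_iSup_of_le ⟨g, h⟩ le_rfl

theorem le_weakClosure {Q L : Subgroup G} (h : Q ≤ L) : Q ≤ weakClosure Q L := by
  have h1 := cj_le_weakClosure (Q := Q) (L := L) (g := 1) (by rwa [cj_one])
  rwa [cj_one] at h1

theorem weakClosure_le {Q L K : Subgroup G}
    (h : ∀ g : G, Q.map (MulAut.conj g).toMonoidHom ≤ L → Q.map (MulAut.conj g).toMonoidHom ≤ K) :
    weakClosure Q L ≤ K :=
  iSup_le fun g => h g.1 g.2

theorem weakClosure_le_self (Q L : Subgroup G) : weakClosure Q L ≤ L :=
  weakClosure_le fun _ h => h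

theorem weakClosure_mono (Q : Subgroup G) {L K : Subgroup G} (h : L ≤ K) :
    weakClosure Q L ≤ weakClosure Q K :=
  weakClosure_le fun _ hg => cj_le_weakClosure (hg.trans h)

theorem normalizer_le_normalizer_weakClosure (Q L : Subgroup G) :
    normalizer (L : Set G) ≤ normalizer (weakClosure Q L : Set G) := by
  intro n hn
  refine mem_normalizer_of_conj_mem (cj_le_iff.1 ?_)
  simp only [weakClosure, Subgroup.map_iSup, cj_cj]
  exact iSup_le fun g => cj_le_weakClosure (Q := Q) (L := L)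
    (by rw [← cj_cj]; exact (map_mono g.2).trans_eq (cj_eq_of_mem_normalizer hn))

/-- A group normalizing `Q` has only `Q` as conjugate of `Q` inside it. -/
theorem weakClosure_eq_self {Q L : Subgroup G} (h : IsWeaklyClosedSubgroup p Q) (hQL : Q ≤ L)
    (hn : L ≤ normalizer (Q : Set G)) : weakClosure Q L = Q := by
  refine le_antisymm (weakClosure_le fun g hg => (wc_eq_of_le h
    (isPGroup_sup (isPGroup_cj (wc_isPGroup h) g) (wc_isPGroup h) (hg.trans hn))
    le_sup_right le_sup_left).le) (le_weakClosure hQL)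

/-! ### Large subgroups -/

theorem isLarge_cj {Q : Subgroup G} (h : IsLarge Q) (g : G) :
    IsLarge (Q.map (MulAut.conj g).toMonoidHom) := by
  have hc : ∀ (R : Subgroup G) (a : G),
      centralizer ((R.map (MulAut.conj a).toMonoidHom : Subgroup G) : Set G) =
        (centralizer (R : Set G)).map (MulAut.conj a).toMonoidHom := fun R a => by
    exact centralizer_cj R a
  have hn : ∀ (R : Subgroup G) (a : G),
      normalizer ((R.map (MulAut.conj a).toMonoidHom : Subgroup G) : Set G) =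
        (normalizer (R : Set G)).map (MulAut.conj a).toMonoidHom := fun R a =>
    (Subgroup.map_equiv_normalizer_eq R (MulAut.conj a)).symm
  refine ⟨by rw [hc]; exact map_mono h.1, fun U hU hU1 => ?_⟩
  rw [hc] at hU
  have h1 := h.2 (U.map (MulAut.conj g⁻¹).toMonoidHom) ((map_mono hU).trans_eq (cj_inv_cj _ g))
    (fun e => hU1 ((Subgroup.map_eq_bot_iff_of_injective _ (MulAut.conj g⁻¹).injective).1 e))
  rw [hn] at h1
  rw [hn]
  calc normalizer (U : Set G)
      = ((normalizer (U : Set G)).map (MulAut.conj g⁻¹).toMonoidHom).map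
          (MulAut.conj g).toMonoidHom := by rw [cj_cj, mul_inv_cancel, cj_one]
    _ ≤ _ := map_mono h1

theorem large_centralizer_le {Q U : Subgroup G} (h : IsLarge Q)
    (hU : U ≤ centralizer (Q : Set G)) (hU1 : U ≠ ⊥) :
    centralizer (U : Set G) ≤ normalizer (Q : Set G) :=
  (centralizer_le_normalizer U).trans (h.2 U hU hU1)

theorem large_center_sylow {Q : Subgroup G} (h : IsLarge Q) (hQp : IsPGroup p Q) (hQ1 : Q ≠ ⊥)
    (T : Sylow p G) (hQT : Q ≤ (T : Subgroup G)) :
    ∃ U : Subgroup G, U ≠ ⊥ ∧ U ≤ centralizer (Q : Set G) ∧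
      (T : Subgroup G) ≤ centralizer (U : Set G) ∧
      normalizer ((T : Subgroup G) : Set G) ≤ normalizer (U : Set G) := by
  refine ⟨(T : Subgroup G) ⊓ centralizer ((T : Subgroup G) : Set G), ?_,
    inf_le_right.trans (centralizer_le hQT),
    fun t ht u hu => (hu.2 t ht).symm,
    (le_inf le_rfl (normalizer_le_normalizer_centralizer _)).trans normalizer_le_normalizer_inf⟩
  refine inf_centralizer_ne_bot T.2 T.2 (fun e => hQ1 (le_bot_iff.1 (e ▸ hQT))) le_normalizer

/-- A nontrivial large `p`-subgroup is a weakly closed subgroup. -/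
theorem large_wc {Q : Subgroup G} (h : IsLarge Q) (hQp : IsPGroup p Q) (hQ1 : Q ≠ ⊥) :
    IsWeaklyClosedSubgroup p Q := by
  obtain ⟨T, hQT⟩ := hQp.exists_le_sylow
  obtain ⟨U, hU1, hUQ, hTU, hNU⟩ := large_center_sylow h hQp hQ1 T hQT
  have hN := h.2 U hUQ hU1
  refine ⟨T, hQT, fun g hg => ?_⟩
  obtain ⟨U', hU'1, hU'Q, hTU', -⟩ := large_center_sylow (isLarge_cj h g) (isPGroup_cj hQp g)
    (fun e => hQ1 ((Subgroup.map_eq_bot_iff_of_injective _ (MulAut.conj g).injective).1 e)) T hg
  have hT1 : (T : Subgroup G) ≤ normalizer ((Q.map (MulAut.conj g).toMonoidHom : Subgroup G) : Set G) :=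
    hTU'.trans (large_centralizer_le (isLarge_cj h g) hU'Q hU'1)
  have hT2 : ((g • T : Sylow p G) : Subgroup G) ≤
      normalizer ((Q.map (MulAut.conj g).toMonoidHom : Subgroup G) : Set G) := by
    rw [← sylow_cj_eq, ← Subgroup.map_equiv_normalizer_eq Q (MulAut.conj g)]
    exact map_mono (hTU.trans (large_centralizer_le h hUQ hU1))
  obtain ⟨n, hn⟩ := MulAction.exists_smul_eq
    ↥(normalizer ((Q.map (MulAut.conj g).toMonoidHom : Subgroup G) : Set G))
    ((g • T).subtype hT2) (T.subtype hT1)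
  rw [Sylow.smul_subtype] at hn
  have hn' := Sylow.subtype_injective hn
  rw [Subgroup.smul_def, smul_smul, Sylow.smul_eq_iff_mem_normalizer] at hn'
  have h2 := cj_eq_of_mem_normalizer (hN (hNU hn'))
  rw [← cj_cj, cj_eq_of_mem_normalizer n.2] at h2
  exact h2

/-- Distinct conjugates of a large `p`-subgroup have trivially intersecting centralizers. -/
theorem large_disjoint {Q : Subgroup G} (h : IsLarge Q) (hQp : IsPGroup p Q) (hQ1 : Q ≠ ⊥) {g : G}
    (hg : g ∉ normalizer (Q : Set G)) :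
    centralizer (Q : Set G) ⊓
      centralizer ((Q.map (MulAut.conj g).toMonoidHom : Subgroup G) : Set G) = ⊥ := by
  by_contra hne
  refine hg (mem_normalizer_iff_cj.2 ?_)
  set U : Subgroup G := centralizer (Q : Set G) ⊓
    centralizer ((Q.map (MulAut.conj g).toMonoidHom : Subgroup G) : Set G) with hU
  have h1 : Q.map (MulAut.conj g).toMonoidHom ≤ normalizer (Q : Set G) :=
    (le_centralizer_iff.1 inf_le_right).trans (large_centralizer_le h inf_le_left hne)
  exact wc_eq_of_le (large_wc h hQp hQ1) (isPGroup_sup (isPGroup_cj hQp g) hQp h1) le_sup_right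
    le_sup_left

/-- `C_G(Y)` normalizes a large `Q` that normalizes the nontrivial `p`-group `Y`. -/
theorem large_centralizer_normalizes {Q Y : Subgroup G} (h : IsLarge Q) (hQp : IsPGroup p Q)
    (hYp : IsPGroup p Y) (hY1 : Y ≠ ⊥) (hQY : Q ≤ normalizer (Y : Set G)) :
    centralizer (Y : Set G) ≤ normalizer (Q : Set G) :=
  (centralizer_le (inf_le_left : Y ⊓ centralizer (Q : Set G) ≤ Y)).trans
    (large_centralizer_le h inf_le_right (inf_centralizer_ne_bot hYp hQp hY1 hQY))

/-- For `R = O_p(L)`: if `C_G(R)` normalizes `Q ≤ L` then `[Q, C_G(R)] ≤ Q ∩ R`. -/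
theorem commutator_centralizer_pCoreOf_le {Q L : Subgroup G} (hQp : IsPGroup p Q) (hQL : Q ≤ L)
    (hC : centralizer (pCoreOf p L : Set G) ≤ normalizer (Q : Set G)) :
    ⁅Q, centralizer (pCoreOf p L : Set G)⁆ ≤ Q ⊓ pCoreOf p L := by
  set R := pCoreOf p L with hR
  set C := centralizer (R : Set G) with hCdef
  have hLC : L ≤ normalizer (C : Set G) :=
    (le_normalizer_pCoreOf L).trans (normalizer_le_normalizer_centralizer _)
  have hQC : ⁅Q, C⁆ ≤ Q ⊓ C := by
    refine commutator_le.2 fun q hq c hc => Subgroup.mem_inf.2 ⟨?_, ?_⟩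
    · rw [show ⁅q, c⁆ = q * (c * q⁻¹ * c⁻¹) by group]
      exact mul_mem hq (conj_mem_of_normalizer (hC hc) (inv_mem hq))
    · rw [show ⁅q, c⁆ = (q * c * q⁻¹) * c⁻¹ by group]
      exact mul_mem (conj_mem_of_normalizer (hLC (hQL hq)) hc) (inv_mem hc)
  refine le_inf (hQC.trans inf_le_left) (hQC.trans ?_)
  -- `Q ∩ C` is a normal `p`-subgroup of `L ∩ C`, a normal subgroup of `L`
  have h1 : Q ⊓ C ≤ pCoreOf p (L ⊓ C) :=
    le_pCoreOf (inf_le_inf_right _ hQL)
      ((le_inf (inf_le_right.trans hC) (inf_le_right.trans le_normalizer)).trans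
        normalizer_le_normalizer_inf) hQp.to_inf_left
  refine h1.trans (le_pCoreOf ((pCoreOf_le _).trans inf_le_left) ?_ (isPGroup_pCoreOf _))
  exact ((le_inf le_normalizer hLC).trans normalizer_le_normalizer_inf).trans
    (normalizer_le_normalizer_pCoreOf _)

/-- If moreover `C_G(Q) ≤ Q` then `C_G(O_p(L))` is a `p`-group. -/
theorem isPGroup_centralizer_pCoreOf {Q L : Subgroup G} (hQp : IsPGroup p Q) (hQL : Q ≤ L)
    (hCQ : centralizer (Q : Set G) ≤ Q)
    (hC : centralizer (pCoreOf p L : Set G) ≤ normalizer (Q : Set G)) :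
    IsPGroup p (centralizer (pCoreOf p L : Set G)) := by
  refine isPGroup_of_coprime_eq_one fun x hx hc => ?_
  have h1 : ∀ q ∈ Q, x * q = q * x :=
    commute_of_stabilizes (P₀ := Q ⊓ pCoreOf p L) hQp.to_inf_left hc
      (fun b hb => (hx b hb.2).symm) (fun a ha => by
        have h2 := commutator_centralizer_pCoreOf_le hQp hQL hC
          (commutator_mem_commutator (inv_mem ha) hx)
        simpa [commutatorElement_def, mul_assoc] using h2)
  exact eq_one_of_mem_pgroup hQp (hCQ fun q hq => (h1 q hq).symm) hc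

/-- If `C_G(O_p(L))` is a `p`-group then `L` has characteristic `p`. -/
theorem charP_of_isPGroup_centralizer {L : Subgroup G}
    (h : IsPGroup p (centralizer (pCoreOf p L : Set G))) :
    centralizer (pCore p ↥L : Set ↥L) ≤ pCore p ↥L :=
  charP_of_forall fun _ _ hc hcent => eq_one_of_mem_pgroup h (fun b hb => (hcent b hb).symm) hc

theorem large_isPGroup_centralizer {Q L : Subgroup G} (h : IsLarge Q) (hQp : IsPGroup p Q)
    (hQL : Q ≤ L) (hR : pCoreOf p L ≠ ⊥) :
    IsPGroup p (centralizer (pCoreOf p L : Set G)) :=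
  isPGroup_centralizer_pCoreOf hQp hQL h.1 (large_centralizer_normalizes h hQp (isPGroup_pCoreOf L)
    hR (hQL.trans (le_normalizer_pCoreOf L)))

theorem isParabolic_contains_conj {Q R : Subgroup G} (hQp : IsPGroup p Q)
    (hR : IsParabolic p R) : ∃ g : G, Q.map (MulAut.conj g).toMonoidHom ≤ R := by
  obtain ⟨T, hT⟩ := hR
  obtain ⟨a, ha⟩ := exists_conj_sylow T hQp
  exact ⟨a⁻¹, ((map_mono ha).trans_eq (cj_inv_cj _ a)).trans hT⟩

/-- A parabolic subgroup with nontrivial `O_p` contains `C_G(O_p)` in its `O_p`. -/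
theorem large_centralizer_le_of_parabolic {Q R : Subgroup G} (h : IsLarge Q)
    (hQp : IsPGroup p Q) (hR : IsParabolic p R) (hR1 : pCoreOf p R ≠ ⊥) :
    centralizer (pCoreOf p R : Set G) ≤ pCoreOf p R := by
  obtain ⟨g, hg⟩ := isParabolic_contains_conj hQp hR
  have hp := large_isPGroup_centralizer (isLarge_cj h g) (isPGroup_cj hQp g) hg hR1
  obtain ⟨T, hT⟩ := hR
  have hn : (T : Subgroup G) ≤ normalizer (centralizer (pCoreOf p R : Set G) : Set G) :=
    (hT.trans (le_normalizer_pCoreOf R)).trans (normalizer_le_normalizer_centralizer _)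
  have hle : centralizer (pCoreOf p R : Set G) ≤ R :=
    (le_sup_right.trans_eq (T.3 (isPGroup_sup T.2 hp hn) le_sup_left)).trans hT
  exact le_pCoreOf hle ((le_normalizer_pCoreOf R).trans (normalizer_le_normalizer_centralizer _)) hp

theorem large_parabolic_characteristic {Q : Subgroup G} (h : IsLarge Q) (hQp : IsPGroup p Q) :
    IsOfParabolicCharacteristic p G := by
  intro R hRp hR1 hpar
  rw [charP_iff]
  refine inf_le_right.trans (large_centralizer_le_of_parabolic h hQp hpar ?_)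
  exact fun e => hR1 (le_bot_iff.1 (e ▸ le_pCoreOf le_normalizer le_rfl hRp))

/-- The weak closure of a large `Q` in `L` is the same as in `L C_G(Y)`. -/
theorem large_weakClosure_sup {Q L Y : Subgroup G} (h : IsLarge Q) (hQp : IsPGroup p Q) (hQ1 : Q ≠ ⊥)
    (hYp : IsPGroup p Y) (hY1 : Y ≠ ⊥) (hQL : Q ≤ L) (hLY : L ≤ normalizer (Y : Set G)) :
    weakClosure Q L = weakClosure Q (L ⊔ centralizer (Y : Set G)) := by
  refine le_antisymm (weakClosure_mono Q le_sup_left) (weakClosure_le fun g hg => ?_)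
  obtain ⟨k, hk, hkg⟩ := wc_exists_mem (large_wc h hQp hQ1) (hQL.trans le_sup_left) hg
  rw [hkg]
  have hk' : k ∈ (↑(L ⊔ centralizer (Y : Set G)) : Set G) := hk
  rw [coe_mul_of_left_le_normalizer_right L _
    (hLY.trans (normalizer_le_normalizer_centralizer _))] at hk'
  obtain ⟨l, hl, c, hc, rfl⟩ := hk'
  rw [← cj_cj, cj_eq_of_mem_normalizer
    (large_centralizer_normalizes h hQp hYp hY1 (hQL.trans hLY) hc)]
  exact cj_le_weakClosure ((map_mono hQL).trans_eq (cj_eq_of_mem_normalizer (le_normalizer hl)))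

end CfsgLib.Large
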