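import Cfsg.Prelude.Def_AlmostLie
import Cfsg.Agent.Lib.Large.Basic

/-!
Strongly `p`-embedded subgroups (helper62).
-/

set_option autoImplicit false

namespace CfsgLib.Large

open Cfsg Subgroup

variable {p : ℕ} {G : Type*} [Group G] [Finite G] [Fact p.Prime]

theorem exists_orderOf_eq_of_ne_bot {Q : Subgroup G} (hQ : IsPGroup p Q) (hQ1 : Q ≠ ⊥) :
    ∃ x ∈ Q, orderOf x = p := by
  obtain ⟨n, hn⟩ := IsPGroup.iff_card.1 hQ
  rcases n with _ | n
  · exact absurd (Subgroup.card_eq_one.1 (by simpa using hn)) hQ1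
  obtain ⟨x, hx⟩ := exists_prime_orderOf_dvd_card' (G := ↥Q) p (hn ▸ dvd_pow_self p n.succ_ne_zero)
  exact ⟨x, x.2, by rw [Subgroup.orderOf_coe]; exact hx⟩

theorem ne_one_of_orderOf_eq {x : G} (hx : orderOf x = p) : x ≠ 1 := fun e => by
  rw [e, orderOf_one] at hx
  exact (Fact.out : p.Prime).ne_one hx.symm

theorem isPGroup_zpowers_of_orderOf {x : G} (hx : orderOf x = p) : IsPGroup p (zpowers x) :=
  IsPGroup.of_card (n := 1) (by rw [Nat.card_zpowers, hx, pow_one])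

theorem exists_central_of_ne_bot {Q : Subgroup G} (hQ : IsPGroup p Q) (hQ1 : Q ≠ ⊥) :
    ∃ z ∈ Q, orderOf z = p ∧ Q ≤ centralizer ({z} : Set G) := by
  obtain ⟨z, hz, hzp⟩ := exists_orderOf_eq_of_ne_bot (hQ.to_inf_left : IsPGroup p
    (Q ⊓ centralizer (Q : Set G) : Subgroup G)) (inf_centralizer_ne_bot hQ hQ hQ1 le_normalizer)
  exact ⟨z, hz.1, hzp, centralizer_singleton_le_iff.2 fun k hk => (hz.2 k hk).symm⟩

/-- Normalizer growth inside a `p`-group. -/
theorem lt_inf_normalizer {P R : Subgroup G} (hP : IsPGroup p P) (hRP : R < P) :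
    R < P ⊓ normalizer (R : Set G) := by
  refine lt_of_le_of_ne (le_inf hRP.le le_normalizer) fun he => ?_
  have := hP.isNilpotent
  have hnc := Group.normalizerCondition_of_isNilpotent (G := ↥P) (R.subgroupOf P)
    (lt_top_iff_ne_top.2 fun e => hRP.not_ge (subgroupOf_eq_top.1 e))
  obtain ⟨⟨g, hg⟩, hgN, hgR⟩ := SetLike.exists_of_lt hnc
  refine hgR ?_
  rw [mem_subgroupOf, he]
  refine ⟨hg, mem_normalizer_of_conj_mem fun w hw => ?_⟩
  have h2 : (⟨g, hg⟩ * ⟨w, hRP.le hw⟩ * ⟨g, hg⟩⁻¹ : ↥P) ∈ R.subgroupOf P :=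
    conj_mem_of_normalizer hgN (mem_subgroupOf.2 hw)
  exact h2

/-- A Sylow subgroup `S` of `H` with `N(S) ≤ H` is a Sylow subgroup of `G`. -/
theorem exists_sylow_eq {H : Subgroup G} (S : Sylow p ↥H)
    (hN : normalizer (((S : Subgroup ↥H).map H.subtype : Subgroup G) : Set G) ≤ H) :
    ∃ T : Sylow p G, (T : Subgroup G) = (S : Subgroup ↥H).map H.subtype := by
  obtain ⟨T, hT⟩ := (S.2.map H.subtype).exists_le_sylow
  refine ⟨T, le_antisymm ?_ hT⟩
  by_contra hne
  have h1 := lt_inf_normalizer T.2 (lt_of_le_not_ge hT hne)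
  set U := (T : Subgroup G) ⊓ normalizer (((S : Subgroup ↥H).map H.subtype : Subgroup G) : Set G)
  have h2 : U.subgroupOf H = (S : Subgroup ↥H) :=
    S.3 ((T.2.to_inf_left).comap_of_injective _ H.subtype_injective)
      fun x hx => h1.le ⟨x, hx, rfl⟩
  exact h1.not_ge fun x hx => ⟨⟨x, hN hx.2⟩, h2.le (show (⟨x, hN hx.2⟩ : ↥H) ∈ U.subgroupOf H from hx), rfl⟩

theorem centralizer_singleton_cj (x g : G) :
    centralizer ({g * x * g⁻¹} : Set G) =
      (centralizer ({x} : Set G)).map (MulAut.conj g).toMonoidHom := by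
  ext y
  rw [mem_cj, mem_centralizer_singleton_iff, mem_centralizer_singleton_iff]
  constructor
  · intro h
    calc g⁻¹ * y * g * x = g⁻¹ * (y * (g * x * g⁻¹)) * g := by group
      _ = g⁻¹ * (g * x * g⁻¹ * y) * g := by rw [h]
      _ = x * (g⁻¹ * y * g) := by group
  · intro h
    calc y * (g * x * g⁻¹) = g * (g⁻¹ * y * g * x) * g⁻¹ := by group
      _ = g * (x * (g⁻¹ * y * g)) * g⁻¹ := by rw [h]
      _ = g * x * g⁻¹ * y := by group

/-- If `C(x) ≤ H` for the elements `x` of order `p` in `S ∈ Syl_p(H)` and `N(S) ≤ H` then elements of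
order `p` of `H` fuse in `G` only by elements of `H`. -/
theorem ti_of_criteria {H : Subgroup G} (S : Sylow p ↥H)
    (hC : ∀ x : G, x ∈ (S : Subgroup ↥H).map H.subtype → orderOf x = p →
      centralizer ({x} : Set G) ≤ H)
    (hN : normalizer (((S : Subgroup ↥H).map H.subtype : Subgroup G) : Set G) ≤ H)
    {g x : G} (hxp : orderOf x = p) (hx : x ∈ H) (hgx : g * x * g⁻¹ ∈ H) : g ∈ H := by
  obtain ⟨T, hT⟩ := exists_sylow_eq S hN
  rw [← hT] at hC hN
  have hTH : (T : Subgroup G) ≤ H := hT ▸ map_subtype_le _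
  have hinto : ∀ {P : Subgroup G}, IsPGroup p P → P ≤ H →
      ∃ h ∈ H, P ≤ (T : Subgroup G).map (MulAut.conj h).toMonoidHom := by
    intro P hP hPH
    obtain ⟨S', hS'⟩ := (hP.comap_of_injective H.subtype H.subtype_injective).exists_le_sylow
    obtain ⟨h, hh⟩ := MulAction.exists_smul_eq ↥H S S'
    refine ⟨h, h.2, fun y hy => ?_⟩
    have h1 := hS' (x := ⟨y, hPH hy⟩) hy
    rw [← hh, Sylow.coe_subgroup_smul] at h1
    obtain ⟨s, hs, hsy⟩ := h1
    refine ⟨s, hT.ge ⟨s, hs, rfl⟩, ?_⟩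
    have h2 := congrArg Subtype.val hsy
    simpa using h2
  have hC' : ∀ y ∈ H, orderOf y = p → centralizer ({y} : Set G) ≤ H := by
    intro y hy hyp
    obtain ⟨h, hh, hle⟩ := hinto (isPGroup_zpowers_of_orderOf hyp) (zpowers_le.2 hy)
    have h1 := mem_cj.1 (hle (mem_zpowers y))
    have hord : orderOf (h⁻¹ * y * h) = p := by
      rw [← hyp]
      simpa using orderOf_injective (MulAut.conj h⁻¹).toMonoidHom (MulAut.conj h⁻¹).injective y
    have h2 := hC _ h1 hord
    intro c hc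
    rw [show y = h * (h⁻¹ * y * h) * h⁻¹ by group, centralizer_singleton_cj, mem_cj] at hc
    have h3 := mul_mem (mul_mem hh (h2 hc)) (inv_mem hh)
    simpa [mul_assoc] using h3
  set K := H.map (MulAut.conj g).toMonoidHom with hK
  have hz : g * x * g⁻¹ ∈ H ⊓ K := ⟨hgx, x, hx, rfl⟩
  have hzp : orderOf (g * x * g⁻¹) = p := by
    rw [← hxp]
    exact orderOf_injective (MulAut.conj g).toMonoidHom (MulAut.conj g).injective x
  -- a Sylow subgroup of `H ∩ K`
  obtain ⟨R', hR'⟩ := ((isPGroup_zpowers_of_orderOf hzp).comap_of_injective (H ⊓ K).subtype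
    (H ⊓ K).subtype_injective).exists_le_sylow
  set R := (R' : Subgroup ↥(H ⊓ K)).map (H ⊓ K).subtype with hR
  have hRp : IsPGroup p R := R'.2.map _
  have hR1 : R ≠ ⊥ := fun e => by
    have : g * x * g⁻¹ ∈ R := ⟨⟨_, hz⟩, hR' (mem_zpowers _), rfl⟩
    rw [e, mem_bot] at this
    exact ne_one_of_orderOf_eq hzp this
  obtain ⟨z, hzR, hzord, hzc⟩ := exists_central_of_ne_bot hRp hR1
  have hRH : R ≤ H ⊓ K := map_subtype_le _
  obtain ⟨h, hh, hle⟩ := hinto hRp (hRH.trans inf_le_left)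
  set T1 := (T : Subgroup G).map (MulAut.conj h).toMonoidHom with hT1
  have hT1H : T1 ≤ H := (map_mono hTH).trans_eq (cj_eq_of_mem_normalizer (le_normalizer hh))
  have hKC : ∀ y ∈ K, orderOf y = p → centralizer ({y} : Set G) ≤ K := by
    rintro _ ⟨a, ha, rfl⟩ hyp
    change centralizer ({g * a * g⁻¹} : Set G) ≤ K
    rw [centralizer_singleton_cj]
    refine map_mono (hC' a ha ?_)
    rw [← hyp]
    exact (orderOf_injective (MulAut.conj g).toMonoidHom (MulAut.conj g).injective a).symm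
  obtain ⟨u, hu, huord, huc⟩ := exists_central_of_ne_bot (T.2.map _ : IsPGroup p T1)
    (fun e => hR1 (le_bot_iff.1 (e ▸ hle)))
  have huz : u ∈ centralizer ({z} : Set G) := mem_centralizer_singleton_iff.2
    (mem_centralizer_singleton_iff.1 (huc (hle hzR))).symm
  have huK : u ∈ K := hKC z (hRH hzR).2 hzord huz
  have hT1K : T1 ≤ H ⊓ K := le_inf hT1H (huc.trans (hKC u huK huord))
  have hR'eq : T1.subgroupOf (H ⊓ K) = (R' : Subgroup ↥(H ⊓ K)) :=
    R'.3 ((T.2.map _).comap_of_injective _ (H ⊓ K).subtype_injective) fun y hy => hle ⟨y, hy, rfl⟩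
  have hRT : T1 = R := by
    rw [hR, ← hR'eq, subgroupOf_map_subtype, inf_eq_left.2 hT1K]
  -- `g⁻¹ R g` is also conjugate to `T` in `H`
  have hgR : R.map (MulAut.conj g⁻¹).toMonoidHom ≤ H :=
    ((map_mono (hRH.trans inf_le_right)).trans_eq (cj_inv_cj H g))
  obtain ⟨h', hh', hle'⟩ := hinto (hRp.map _) hgR
  have h4 : R.map (MulAut.conj g⁻¹).toMonoidHom = (T : Subgroup G).map (MulAut.conj h').toMonoidHom := by
    refine Subgroup.eq_of_le_of_card_ge hle' ?_
    rw [Subgroup.card_map_of_injective (MulAut.conj h').injective,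
      Subgroup.card_map_of_injective (MulAut.conj g⁻¹).injective, ← hRT, hT1,
      Subgroup.card_map_of_injective (MulAut.conj h).injective]
  rw [← hRT, hT1, cj_cj] at h4
  have h5 : h'⁻¹ * (g⁻¹ * h) ∈ normalizer ((T : Subgroup G) : Set G) := by
    rw [mem_normalizer_iff_cj, ← cj_cj, h4, cj_inv_cj]
  have h6 := mul_mem (mul_mem hh' (hN h5)) (inv_mem hh)
  simpa [mul_assoc] using h6

theorem spe_criteria {H : Subgroup G} (h : IsStronglyPEmbedded p H) :
    ∃ T : Sylow p G, (T : Subgroup G) ≤ H ∧ (T : Subgroup G) ≠ ⊥ ∧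
      ∀ Q : Subgroup G, Q ≤ (T : Subgroup G) → Q ≠ ⊥ → normalizer (Q : Set G) ≤ H := by
  obtain ⟨hdvd, -, T, hT⟩ := h
  have key : ∀ Q : Subgroup G, Q ≤ (T : Subgroup G) → Q ≠ ⊥ → normalizer (Q : Set G) ≤ H := by
    intro Q hQ hQ1
    refine le_trans ?_ hT
    refine le_iSup_of_le (⟨Q, hQ, fun hr => hQ1 ?_⟩ : {Q : Subgroup G // Q ≤ (T : Subgroup G) ∧
      ¬ PRankLE p (1 - 1) Q}) le_rfl
    by_contra hne
    obtain ⟨x, hx, hxp⟩ := exists_orderOf_eq_of_ne_bot (T.2.to_le hQ) hne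
    have h2 := hr (zpowers (⟨x, hx⟩ : ↥Q)) inferInstance (fun a ha => by
      obtain ⟨k, rfl⟩ := mem_zpowers_iff.1 ha
      rw [← zpow_natCast, ← zpow_mul, mul_comm, zpow_mul, zpow_natCast,
        show (⟨x, hx⟩ : ↥Q) ^ p = 1 from Subtype.ext (by simp [← hxp, pow_orderOf_eq_one]), one_zpow])
    rw [Nat.card_zpowers, Subgroup.orderOf_mk, hxp] at h2
    simp at h2
    exact absurd h2 (not_le.2 (Fact.out : p.Prime).one_lt)
  have hne : (T : Subgroup G) ≠ ⊥ := T.ne_bot_of_dvd_card hdvd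
  exact ⟨T, le_normalizer.trans (key _ le_rfl hne), hne, key⟩

theorem spe_exists_criteria {H : Subgroup G} (h : IsStronglyPEmbedded p H) :
    ∃ S : Sylow p ↥H, (∀ x : G, x ∈ (S : Subgroup ↥H).map H.subtype → orderOf x = p →
      centralizer ({x} : Set G) ≤ H) ∧
      normalizer (((S : Subgroup ↥H).map H.subtype : Subgroup G) : Set G) ≤ H := by
  obtain ⟨T, hTH, hne, key⟩ := spe_criteria h
  refine ⟨T.subtype hTH, ?_⟩
  rw [Sylow.coe_subtype, subgroupOf_map_subtype, inf_eq_left.2 hTH]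
  refine ⟨fun x hx hxp => ?_, key _ le_rfl hne⟩
  have h1 : zpowers x ≠ ⊥ := fun e => ne_one_of_orderOf_eq hxp (zpowers_eq_bot.1 e)
  refine le_trans ?_ (key _ (zpowers_le.2 hx) h1)
  rw [show centralizer ({x} : Set G) = centralizer (zpowers x : Set G) by
    rw [zpowers_eq_closure, centralizer_closure]]
  exact centralizer_le_normalizer _

/-- Fusion in a strongly `p`-embedded subgroup: only by its own elements. -/
theorem spe_ti {H : Subgroup G} (h : IsStronglyPEmbedded p H) {g x : G} (hxp : orderOf x = p)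
    (hx : x ∈ H) (hgx : g * x * g⁻¹ ∈ H) : g ∈ H := by
  obtain ⟨S, hC, hN⟩ := spe_exists_criteria h
  exact ti_of_criteria S hC hN hxp hx hgx

theorem spe_centralizer_le {H : Subgroup G} (h : IsStronglyPEmbedded p H) {x : G}
    (hxp : orderOf x = p) (hx : x ∈ H) : centralizer ({x} : Set G) ≤ H := fun c hc =>
  spe_ti h hxp hx (by
    rw [show c * x * c⁻¹ = x by rw [mem_centralizer_singleton_iff.1 hc, mul_inv_cancel_right]]
    exact hx)

theorem spe_normalizer_le {H : Subgroup G} (h : IsStronglyPEmbedded p H) {Q : Subgroup G}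
    (hQ : IsPGroup p Q) (hQH : Q ≤ H) (hQ1 : Q ≠ ⊥) : normalizer (Q : Set G) ≤ H := fun g hg => by
  obtain ⟨x, hx, hxp⟩ := exists_orderOf_eq_of_ne_bot hQ hQ1
  exact spe_ti h hxp (hQH hx) (hQH (conj_mem_of_normalizer hg hx))

theorem spe_of_criteria {H : Subgroup G} (hH : H ≠ ⊤) (S : Sylow p ↥H)
    (hC : ∀ x : G, x ∈ (S : Subgroup ↥H).map H.subtype → orderOf x = p →
      centralizer ({x} : Set G) ≤ H)
    (hN : normalizer (((S : Subgroup ↥H).map H.subtype : Subgroup G) : Set G) ≤ H) :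
    IsStronglyPEmbedded p H := by
  obtain ⟨T, hT⟩ := exists_sylow_eq S hN
  have hne : (T : Subgroup G) ≠ ⊥ := fun e => hH <| top_le_iff.1 <| by
    rw [← hT, e, normalizer_eq_top] at hN
    exact hN
  refine ⟨?_, hH, T, iSup_le ?_⟩
  · obtain ⟨x, -, hxp⟩ := exists_orderOf_eq_of_ne_bot T.2 hne
    exact hxp ▸ orderOf_dvd_natCard x
  · rintro ⟨Q, hQT, hQr⟩ g hg
    have hQH : Q ≤ H := hQT.trans (hT ▸ map_subtype_le _)
    have hQ1 : Q ≠ ⊥ := fun e => by
      subst e
      exact hQr fun A _ _ => by simp [Subgroup.eq_bot_of_subsingleton A]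
    obtain ⟨x, hx, hxp⟩ := exists_orderOf_eq_of_ne_bot (T.2.to_le hQT) hQ1
    exact ti_of_criteria S hC hN hxp (hQH hx) (hQH (conj_mem_of_normalizer hg hx))

end CfsgLib.Large
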