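import Cfsg.Agent.Lib.Large.Tools
import Cfsg.Agent.Lib.Coprime.Action
import Cfsg.Agent.Lib.PGroup.Frattini

/-!
Kernels of actions on sections; `p'`-elements (helper62).
-/

set_option autoImplicit false

namespace CfsgLib.Large

open Cfsg Subgroup
open scoped commutatorElement

variable {p : ℕ} {G : Type*} [Group G]

/-- The elements normalizing `A` and `N` and acting trivially on `A` modulo `N`. -/
def actKer (A N : Subgroup G) : Subgroup G where
  carrier := {g | g ∈ normalizer (A : Set G) ∧ g ∈ normalizer (N : Set G) ∧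
    ∀ a ∈ A, a⁻¹ * (g * a * g⁻¹) ∈ N}
  one_mem' := ⟨one_mem _, one_mem _, fun a _ => by simp⟩
  mul_mem' := by
    rintro g h ⟨g1, g2, g3⟩ ⟨h1, h2, h3⟩
    refine ⟨mul_mem g1 h1, mul_mem g2 h2, fun a ha => ?_⟩
    have := mul_mem (g3 a ha) (conj_mem_of_normalizer g2 (h3 a ha))
    simpa [mul_assoc] using this
  inv_mem' := by
    rintro g ⟨g1, g2, g3⟩
    refine ⟨inv_mem g1, inv_mem g2, fun a ha => ?_⟩
    have ha' : g⁻¹ * a * g ∈ A := by simpa using conj_mem_of_normalizer (inv_mem g1) ha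
    have h1 := inv_mem (g3 _ ha')
    simpa [mul_assoc] using h1

theorem mem_actKer {A N : Subgroup G} {g : G} :
    g ∈ actKer A N ↔ g ∈ normalizer (A : Set G) ∧ g ∈ normalizer (N : Set G) ∧
      ∀ a ∈ A, a⁻¹ * (g * a * g⁻¹) ∈ N := Iff.rfl

theorem conj_mem_actKer {A N : Subgroup G} {g h : G} (hg : g ∈ actKer A N)
    (hA : h ∈ normalizer (A : Set G)) (hN : h ∈ normalizer (N : Set G)) :
    h * g * h⁻¹ ∈ actKer A N := by
  obtain ⟨g1, g2, g3⟩ := hg
  refine ⟨mul_mem (mul_mem hA g1) (inv_mem hA), mul_mem (mul_mem hN g2) (inv_mem hN), fun a ha => ?_⟩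
  have ha' : h⁻¹ * a * h ∈ A := by simpa using conj_mem_of_normalizer (inv_mem hA) ha
  have := conj_mem_of_normalizer hN (g3 _ ha')
  simpa [mul_assoc] using this

variable [Finite G] [Fact p.Prime]

/-- A `p'`-element acting trivially on `A/⁅A,A⁆` centralizes the `p`-group `A`. -/
theorem commute_of_actKer_commutator {A : Subgroup G} (hA : IsPGroup p A) {x : G}
    (hx : (orderOf x).Coprime p) (h : x ∈ actKer A ⁅A, A⁆) : ∀ a ∈ A, x * a = a * x := by
  obtain ⟨n, hn⟩ := IsPGroup.iff_card.1 hA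
  have hcop : (Nat.card ↥(zpowers x)).Coprime (Nat.card A) := by
    rw [Nat.card_zpowers, hn]
    exact Nat.Coprime.pow_right n hx
  have hzp : ∀ g ∈ zpowers x, g ∈ actKer A ⁅A, A⁆ := fun g hg => zpowers_le.2 h hg
  set H := A ⊓ centralizer (zpowers x : Set G) with hH
  have hsolv : Group.IsSolvable ↥(zpowers x) ∨ Group.IsSolvable ↥A :=
    haveI := hA.isNilpotent
    Or.inr inferInstance
  have htop : H.subgroupOf A = ⊤ := by
    refine frattini_nongenerating (top_le_iff.1 ?_)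
    rintro ⟨k, hk⟩ -
    obtain ⟨c, hc, hkc⟩ := Coprime.exists_centralizing_rep (zpowers x) A
      (fun g hg => (hzp g hg).1) hcop hsolv ⁅A, A⁆ (commutator_le_self A)
      (fun g hg => (hzp g hg).2.1) hk (fun g hg => (hzp g hg).2.2 k hk)
    have h1 : ⟨k⁻¹ * c, mul_mem (inv_mem hk) hc.1⟩ ∈ frattini ↥A := by
      refine PGroup.commutator_le_frattini hA ?_
      have h2 : ⁅A, A⁆ = (commutator ↥A).map A.subtype := by
        rw [_root_.commutator_def, map_commutator, ← MonoidHom.range_eq_map, range_subtype]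
      rw [h2] at hkc
      obtain ⟨y, hy, hye⟩ := hkc
      have h5 : (⟨k⁻¹ * c, mul_mem (inv_mem hk) hc.1⟩ : ↥A) = y := Subtype.ext hye.symm
      rw [h5]
      exact hy
    have h3 : (⟨k, hk⟩ : ↥A) = ⟨c, hc.1⟩ * ⟨k⁻¹ * c, mul_mem (inv_mem hk) hc.1⟩⁻¹ := by
      ext; simp
    rw [h3]
    exact mul_mem_sup (show (⟨c, hc.1⟩ : ↥A) ∈ H.subgroupOf A from hc) (inv_mem h1)
  intro a ha
  have := (subgroupOf_eq_top.1 htop) ha
  exact this.2 x (mem_zpowers x)

theorem card_eq_factor {K : Subgroup G} (T : Sylow p ↥K) (U : Subgroup G) (hUK : U ≤ K)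
    (hT : (T : Subgroup ↥K).map K.subtype ≤ U)
    (h : ∀ x ∈ K, (orderOf x).Coprime p → x ∈ U) : U = K := by
  refine Subgroup.eq_of_le_of_card_ge hUK (Nat.le_of_dvd Nat.card_pos ?_)
  rw [Nat.dvd_iff_prime_pow_dvd_dvd]
  intro q k hq hd
  have := Fact.mk hq
  obtain ⟨Q, hQ⟩ := Sylow.exists_subgroup_card_pow_prime (G := ↥K) q hd
  rcases eq_or_ne q p with rfl | hne
  · obtain ⟨S', hS'⟩ := (IsPGroup.of_card hQ).exists_le_sylow
    have h1 : q ^ k ∣ Nat.card (T : Subgroup ↥K) := by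
      rw [T.card_eq_multiplicity, ← S'.card_eq_multiplicity, ← hQ]
      exact card_dvd_of_le hS'
    refine h1.trans ?_
    rw [← Subgroup.card_map_of_injective K.subtype_injective]
    exact card_dvd_of_le hT
  · rw [← hQ, ← Subgroup.card_map_of_injective K.subtype_injective]
    refine card_dvd_of_le ?_
    rintro _ ⟨y, hy, rfl⟩
    refine h y y.2 ?_
    obtain ⟨j, hj⟩ := (IsPGroup.of_card hQ) ⟨y, hy⟩
    have hj' : (y : G) ^ q ^ j = 1 := by
      simpa using congrArg (fun z : ↥Q => ((z : ↥K) : G)) hj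
    exact Nat.Coprime.coprime_dvd_left (orderOf_dvd_of_pow_eq_one hj')
      (Nat.Coprime.pow_left j ((Nat.coprime_primes hq Fact.out).2 hne))

end CfsgLib.Large
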