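import Cfsg.Agent.Lib.Large.FrakM

/-!
Consequences of `Y_M` being asymmetric (MSS): `O_p(M)` is weakly closed in `G` (helper62).
-/

set_option autoImplicit false

namespace CfsgLib.Large

open Cfsg Subgroup
open scoped commutatorElement

variable {G : Type*} [Group G] {p : ℕ}

theorem normalizer_cj (R : Subgroup G) (g : G) :
    (normalizer (R : Set G)).map (MulAut.conj g).toMonoidHom =
      normalizer ((R.map (MulAut.conj g).toMonoidHom : Subgroup G) : Set G) :=
  Subgroup.map_equiv_normalizer_eq R (MulAut.conj g)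

theorem le_normalizer_cj {R : Subgroup G} {A : Subgroup G} {g : G}
    (h : A.map (MulAut.conj g⁻¹).toMonoidHom ≤ normalizer (R : Set G)) :
    A ≤ normalizer ((R.map (MulAut.conj g).toMonoidHom : Subgroup G) : Set G) := by
  rw [← normalizer_cj]
  calc A = (A.map (MulAut.conj g⁻¹).toMonoidHom).map (MulAut.conj g).toMonoidHom := by
        rw [cj_cj, mul_inv_cancel, cj_one]
    _ ≤ _ := map_mono h

/-- An asymmetric `Y` commutes with each conjugate that it normalizes and is normalized by. -/
theorem asym_commute {Y : Subgroup G} (hasym : ¬ IsSymmetricIn Y) {g : G}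
    (h1 : Y.map (MulAut.conj g).toMonoidHom ≤ normalizer (Y : Set G))
    (h2 : Y ≤ normalizer ((Y.map (MulAut.conj g).toMonoidHom : Subgroup G) : Set G)) :
    Y.map (MulAut.conj g).toMonoidHom ≤ centralizer (Y : Set G) := by
  set Y' := Y.map (MulAut.conj g).toMonoidHom with hY'
  have hle : ⁅Y, Y'⁆ ≤ Y ⊓ Y' := by
    refine commutator_le.2 fun a ha b hb => Subgroup.mem_inf.2 ⟨?_, ?_⟩
    · rw [show ⁅a, b⁆ = a * (b * a⁻¹ * b⁻¹) by group]
      exact mul_mem ha (conj_mem_of_normalizer (h1 hb) (inv_mem ha))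
    · rw [show ⁅a, b⁆ = (a * b * a⁻¹) * b⁻¹ by group]
      exact mul_mem (conj_mem_of_normalizer (h2 ha) hb) (inv_mem hb)
  by_contra hne
  refine hasym ⟨g, fun e => hne ?_, hle⟩
  exact le_centralizer_iff.1 (Subgroup.commutator_eq_bot_iff_le_centralizer.1 e)

variable [Finite G] [Fact p.Prime]

/-- A `p`-group `A ≤ C(Y_M)` normalizing `O_p(M)` lies in it. -/
theorem frakM_le_pCoreOf {T : Sylow p G} {M A : Subgroup G} (hTM : (T : Subgroup G) ≤ M)
    (hM : IsInFrakM p M) (hA : IsPGroup p A)
    (hAY : A ≤ centralizer (largestPReducedOf p M : Set G))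
    (hAR : A ≤ normalizer (pCoreOf p M : Set G)) : A ≤ pCoreOf p M :=
  le_sup_left.trans_eq (frakM_eq_pCoreOf hTM hM (isPGroup_sup hA (isPGroup_pCoreOf M) hAR)
    (sup_le hAY (pCoreOf_le_centralizer_largest M)) le_sup_right)

/-- If `O_p(M)` and its conjugate under `n` normalize each other (both ways), `n` normalizes it. -/
theorem asym_mem_normalizer {T : Sylow p G} {M : Subgroup G} (hG : IsOfParabolicCharacteristic p G)
    (hTM : (T : Subgroup G) ≤ M) (hM : IsInFrakM p M)
    (hasym : ¬ IsSymmetricIn (largestPReducedOf p M)) {n : G}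
    (hn : (pCoreOf p M).map (MulAut.conj n).toMonoidHom ≤ normalizer (pCoreOf p M : Set G))
    (hn' : (pCoreOf p M).map (MulAut.conj n⁻¹).toMonoidHom ≤ normalizer (pCoreOf p M : Set G)) :
    n ∈ normalizer (pCoreOf p M : Set G) := by
  set R := pCoreOf p M with hR
  set Y := largestPReducedOf p M with hY
  have hYR : Y ≤ R := largest_le_pCoreOf M
  have hRY : R ≤ centralizer (Y : Set G) := pCoreOf_le_centralizer_largest M
  have hNR : normalizer (R : Set G) ≤ normalizer (Y : Set G) := frakM_normalizer_pCoreOf_le hTM hM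
  let A : Set G := {x | R.map (MulAut.conj x).toMonoidHom ≤ normalizer (R : Set G) ∧
    R.map (MulAut.conj x⁻¹).toMonoidHom ≤ normalizer (R : Set G)}
  have hword : ∀ (k : ℕ) (l : List G), l.length = k → (∀ x ∈ l, x ∈ A) →
      Y.map (MulAut.conj l.prod).toMonoidHom ≤ R := by
    intro k
    induction k with
    | zero =>
      intro l hl _
      rw [List.length_eq_zero_iff.1 hl, List.prod_nil, cj_one]
      exact hYR
    | succ k ih =>
      intro l hl hlA
      have hne : l ≠ [] := by rintro rfl; simp at hl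
      obtain ⟨l', y, rfl⟩ : ∃ l' y, l = l' ++ [y] :=
        ⟨l.dropLast, l.getLast hne, (List.dropLast_append_getLast hne).symm⟩
      simp only [List.length_append, List.length_singleton, Nat.add_right_cancel_iff] at hl
      have hy : y ∈ A := hlA y (by simp)
      have hl' : ∀ x ∈ l', x ∈ A := fun x hx => hlA x (by simp [hx])
      obtain ⟨x, t, hxt⟩ : ∃ x t, l' ++ [y] = x :: t := List.exists_cons_of_ne_nil hne
      have hx : x ∈ A := hlA x (by rw [hxt]; simp)
      have ht : t.length = k := by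
        have := congrArg List.length hxt
        simp only [List.length_append, List.length_cons, List.length_nil] at this
        omega
      set a := (l' ++ [y]).prod with ha
      have h0 : Y.map (MulAut.conj a).toMonoidHom ≤ R.map (MulAut.conj x).toMonoidHom := by
        rw [ha, hxt, List.prod_cons, ← cj_cj]
        exact map_mono (ih t ht fun z hz => hlA z (by rw [hxt]; simp [hz]))
      have hinv : ∀ z ∈ (l'.reverse.map fun z => z⁻¹), z ∈ A := by
        intro z hz
        obtain ⟨w, hw, rfl⟩ := List.mem_map.1 hz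
        obtain ⟨h1, h2⟩ := hl' w (List.mem_reverse.1 hw)
        exact ⟨h2, by rwa [inv_inv]⟩
      have hY' : Y ≤ R.map (MulAut.conj l'.prod).toMonoidHom := by
        have h := ih _ (by simp [hl]) hinv
        have e : (l'.reverse.map fun z => z⁻¹).prod = l'.prod⁻¹ := by
          rw [List.map_reverse, ← List.prod_inv_reverse]
        rw [e] at h
        calc Y = (Y.map (MulAut.conj l'.prod⁻¹).toMonoidHom).map (MulAut.conj l'.prod).toMonoidHom := by
              rw [cj_cj, mul_inv_cancel, cj_one]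
          _ ≤ _ := map_mono h
      have hcomm : Y.map (MulAut.conj a).toMonoidHom ≤ centralizer (Y : Set G) := by
        refine asym_commute hasym ((h0.trans hx.1).trans hNR) (hY'.trans ?_)
        rw [ha, List.prod_append, List.prod_singleton, ← cj_cj, ← normalizer_cj]
        exact map_mono (le_normalizer_cj (hy.2.trans hNR))
      exact frakM_le_pCoreOf hTM hM ((isPGroup_largest M).map _) hcomm (h0.trans hx.1)
  set K := Subgroup.closure A with hK
  have hKword : ∀ k ∈ K, Y.map (MulAut.conj k).toMonoidHom ≤ R := by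
    intro k hk
    rw [hK, ← Subgroup.mem_toSubmonoid, Subgroup.closure_toSubmonoid] at hk
    obtain ⟨l, hl, rfl⟩ := Submonoid.exists_list_of_mem_closure hk
    refine hword _ l rfl fun x hx => ?_
    rcases hl x hx with h | ⟨h1, h2⟩
    · exact h
    · exact ⟨by simpa using h2, h1⟩
  set V : Subgroup G := ⨆ k : ↥K, Y.map (MulAut.conj (k : G)).toMonoidHom with hV
  have hVR : V ≤ R := iSup_le fun k => hKword k k.2
  have hYV : Y ≤ V := le_iSup_of_le (1 : ↥K) (by rw [OneMemClass.coe_one, cj_one])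
  have hKV : K ≤ normalizer (V : Set G) := by
    intro m hm
    refine mem_normalizer_of_conj_mem (cj_le_iff.1 ?_)
    simp only [hV, Subgroup.map_iSup, cj_cj]
    exact iSup_le fun j => le_iSup_of_le ⟨m * j, mul_mem hm j.2⟩ le_rfl
  have hMA : M ≤ K := fun m hm => Subgroup.subset_closure (by
    have h : m ∈ normalizer (R : Set G) := le_normalizer_pCoreOf M hm
    exact ⟨(cj_eq_of_mem_normalizer h).le.trans le_normalizer,
      (cj_eq_of_mem_normalizer (inv_mem h)).le.trans le_normalizer⟩)
  have hnK : n ∈ K := Subgroup.subset_closure ⟨hn, hn'⟩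
  have hV1 : V ≠ ⊥ := fun e => largest_ne_bot hTM hM.1 (le_bot_iff.1 (e ▸ hYV))
  have hVp : IsPGroup p V := isPGroup_of_le (isPGroup_pCoreOf M) hVR
  have hVO : V ≤ pCoreOf p (normalizer (V : Set G)) := le_pCoreOf le_normalizer le_rfl hVp
  have hmem : normalizer (V : Set G) ∈ charPSubgroups p G := by
    rw [charP_mem_iff]
    refine ⟨fun e => hV1 (le_bot_iff.1 (e ▸ hVO)), ?_⟩
    have h := (charP_iff _).1 (hG V hVp hV1 ⟨T, hTM.trans (hMA.trans hKV)⟩)
    exact (le_inf ((centralizer_le hVO).trans (centralizer_le_normalizer V)) le_rfl).trans h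
  obtain ⟨X, hX, hXmax⟩ := (Set.toFinite {L : Subgroup G | L ∈ charPSubgroups p G ∧
    normalizer (V : Set G) ≤ L}).exists_le_maximal ⟨hmem, le_rfl⟩
  have hXM := hM.2.2.1 X ⟨hXmax.prop.1, fun L hL hXL => le_antisymm
      (hXmax.2 ⟨hL, hXmax.prop.2.trans hXL⟩ hXL) hXL⟩ ((hMA.trans hKV).trans hXmax.prop.2)
  have hnY : n ∈ normalizer (Y : Set G) := by
    rw [frakM_normalizer hG hTM hM, ← hXM]
    exact hXmax.prop.2 (hKV hnK)
  refine mem_normalizer_iff_cj.2 (Subgroup.eq_of_le_of_card_ge ?_
    (Subgroup.card_map_of_injective (MulAut.conj n).injective).ge)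
  refine frakM_le_pCoreOf hTM hM ((isPGroup_pCoreOf M).map _) ?_ hn
  show _ ≤ centralizer (Y : Set G)
  rw [← cj_eq_of_mem_normalizer hnY, centralizer_cj]
  exact map_mono hRY

/-- A `p`-group containing `O_p(M)` normalizes it. -/
theorem asym_le_normalizer {T : Sylow p G} {M L : Subgroup G} (hG : IsOfParabolicCharacteristic p G)
    (hTM : (T : Subgroup G) ≤ M) (hM : IsInFrakM p M)
    (hasym : ¬ IsSymmetricIn (largestPReducedOf p M)) (hL : IsPGroup p L)
    (hRL : pCoreOf p M ≤ L) : L ≤ normalizer (pCoreOf p M : Set G) := by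
  set R := pCoreOf p M with hR
  haveI : Group.IsNilpotent ↥L := hL.isNilpotent
  set D := (normalizer (R : Set G)).subgroupOf L with hD
  by_contra hne
  have hlt : D < ⊤ := lt_top_iff_ne_top.2 fun e => hne (subgroupOf_eq_top.1 e)
  obtain ⟨x, hxN, hxD⟩ := SetLike.exists_of_lt (Group.normalizerCondition_of_isNilpotent D hlt)
  have key : ∀ z : ↥L, z ∈ normalizer (D : Set ↥L) →
      R.map (MulAut.conj (z : G)).toMonoidHom ≤ normalizer (R : Set G) := by
    rintro z hz _ ⟨r, hr, rfl⟩
    have h1 : (⟨r, hRL hr⟩ : ↥L) ∈ D := mem_subgroupOf.2 ((le_normalizer : R ≤ _) hr)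
    exact mem_subgroupOf.1 (conj_mem_of_normalizer hz h1)
  exact hxD (mem_subgroupOf.2 (asym_mem_normalizer hG hTM hM hasym (key x hxN)
    (key x⁻¹ (inv_mem hxN))))

/-- Conjugates of `O_p(M)` in a common `p`-group are equal. -/
theorem asym_eq_of_le {T : Sylow p G} {M L : Subgroup G} (hG : IsOfParabolicCharacteristic p G)
    (hTM : (T : Subgroup G) ≤ M) (hM : IsInFrakM p M)
    (hasym : ¬ IsSymmetricIn (largestPReducedOf p M)) (hL : IsPGroup p L)
    (hRL : pCoreOf p M ≤ L) {g : G}
    (hg : (pCoreOf p M).map (MulAut.conj g).toMonoidHom ≤ L) :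
    g ∈ normalizer (pCoreOf p M : Set G) := by
  refine asym_mem_normalizer hG hTM hM hasym
    (hg.trans (asym_le_normalizer hG hTM hM hasym hL hRL)) ?_
  refine le_trans (le_trans (map_mono hRL) le_rfl) (asym_le_normalizer hG hTM hM hasym (hL.map _) ?_)
  exact (cj_inv_cj _ g).ge.trans (map_mono hg)

theorem asym_wc {T : Sylow p G} {M : Subgroup G} (hG : IsOfParabolicCharacteristic p G)
    (hTM : (T : Subgroup G) ≤ M) (hM : IsInFrakM p M)
    (hasym : ¬ IsSymmetricIn (largestPReducedOf p M)) :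
    IsWeaklyClosedSubgroup p (pCoreOf p M) :=
  ⟨T, pCoreOf_le_sylow hTM, fun _ hg => cj_eq_of_mem_normalizer
    (asym_eq_of_le hG hTM hM hasym T.2 (pCoreOf_le_sylow hTM) hg)⟩

/-- `N(L) ≤ N(O_p(M))` for `p`-groups `L ≥ O_p(M)`. -/
theorem asym_normalizer_le {T : Sylow p G} {M L : Subgroup G} (hG : IsOfParabolicCharacteristic p G)
    (hTM : (T : Subgroup G) ≤ M) (hM : IsInFrakM p M)
    (hasym : ¬ IsSymmetricIn (largestPReducedOf p M)) (hL : IsPGroup p L)
    (hRL : pCoreOf p M ≤ L) :
    normalizer (L : Set G) ≤ normalizer (pCoreOf p M : Set G) := fun n hn =>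
  asym_eq_of_le hG hTM hM hasym hL hRL ((map_mono hRL).trans_eq (cj_eq_of_mem_normalizer hn))

end CfsgLib.Large
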