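import Cfsg.Agent.Lib.Large.FrakM

/-!
Existence of members with the basic property (helper62).
-/

set_option autoImplicit false

namespace CfsgLib.Large

open Cfsg Subgroup

variable {p : ℕ} {G : Type*} [Group G] [Finite G] [Fact p.Prime]

omit [Fact p.Prime] in
/-- Dedekind: `(M C) ∩ D = (M ∩ D) C` for `C ≤ D`. -/
theorem sup_inf_eq {M C D : Subgroup G} (hMC : M ≤ normalizer (C : Set G)) (hCD : C ≤ D) :
    (M ⊔ C) ⊓ D = (M ⊓ D) ⊔ C := by
  refine le_antisymm (fun x hx => ?_)
    (sup_le (le_inf (inf_le_left.trans le_sup_left) inf_le_right) (le_inf le_sup_right hCD))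
  have hx' : x ∈ (↑(M ⊔ C) : Set G) := hx.1
  rw [coe_mul_of_left_le_normalizer_right M C hMC] at hx'
  obtain ⟨m, hm, c, hc, rfl⟩ := hx'
  refine mul_mem ((le_sup_left : M ⊓ D ≤ _) ⟨hm, ?_⟩) ((le_sup_right : C ≤ _) hc)
  have h2 : m * c ∈ D := hx.2
  simpa using mul_mem h2 (inv_mem (hCD hc))

/-- Parabolic subgroup of minimal order with given product with a normal `C`: `C ∩` it is `p`-closed
and lies in the Frattini subgroup modulo `O_p`. -/
theorem frattini_of_minimal {T : Sylow p G} {M X Y : Subgroup G} (hTM : (T : Subgroup G) ≤ M)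
    (hY : Red p M Y) (hMX : M ⊔ centralizer (Y : Set G) = X)
    (hmin : ∀ M' : Subgroup G, (T : Subgroup G) ≤ M' → M' ≤ X →
      M' ⊔ centralizer (Y : Set G) = X → Nat.card M ≤ Nat.card M') :
    IsPClosed p ↥(M ⊓ centralizer (Y : Set G)) ∧
      ((M ⊓ centralizer (Y : Set G)).subgroupOf M).map (QuotientGroup.mk' (pCore p ↥M)) ≤
        frattini (↥M ⧸ pCore p ↥M) := by
  set C := M ⊓ centralizer (Y : Set G) with hC
  set T1 := (T : Subgroup G) ⊓ C with hT1
  have hMC : M ≤ normalizer (C : Set G) := le_normalizer_inf_centralizer hY.2.1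
  have hfr := frattini_sup (T := T) hTM (inf_le_left : C ≤ M) hMC
  -- `T1` is normal in `M`
  have hN : M ⊓ normalizer (T1 : Set G) = M := by
    refine Subgroup.eq_of_le_of_card_ge inf_le_left (hmin _ ?_ ?_ ?_)
    · exact le_inf hTM (sylow_le_normalizer_inf (hTM.trans hMC))
    · exact inf_le_left.trans (hMX ▸ le_sup_left)
    · refine le_antisymm (sup_le (inf_le_left.trans (hMX ▸ le_sup_left)) (hMX ▸ le_sup_right)) ?_
      rw [← hMX]
      refine sup_le ?_ le_sup_right
      conv_lhs => rw [← hfr]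
      exact sup_le le_sup_left ((inf_le_right : C ≤ _).trans le_sup_right)
  have hMT1 : M ≤ normalizer (T1 : Set G) := hN.ge.trans inf_le_right
  have hT1C : (T1.subgroupOf C).Normal :=
    ⟨fun a ha b => mem_subgroupOf.2 (conj_mem_of_normalizer (hMT1 b.2.1) ha)⟩
  have hclosed : IsPClosed p ↥C := by
    intro P
    have h1 : T1.subgroupOf C ≤ P := by
      have := hT1C
      exact le_sup_right.trans_eq (P.3 (IsPGroup.to_sup_of_normal_right P.2
        ((T.2.to_inf_left).comap_of_injective _ C.subtype_injective)) le_sup_left)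
    have h2 : (P : Subgroup ↥C).map C.subtype = T1 := by
      refine eq_inf_sylow hTM (inf_le_left : C ≤ M) hMC (P.2.map _) (map_subtype_le _) ?_
      exact fun x hx => ⟨⟨x, hx.2⟩, h1 hx, rfl⟩
    have h3 : (P : Subgroup ↥C) = T1.subgroupOf C := by
      rw [← h2, subgroupOf, comap_map_eq_self_of_injective C.subtype_injective]
    rw [h3]; exact hT1C
  refine ⟨hclosed, ?_⟩
  rw [frattini, Order.radical]
  refine le_iInf₂ fun A hA => ?_
  rw [Subgroup.map_le_iff_le_comap]
  set A' := A.comap (QuotientGroup.mk' (pCore p ↥M)) with hA'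
  have hAco : IsCoatom A := hA
  have hA'co : IsCoatom A' := by
    refine ⟨fun e => hAco.1 ?_, fun B hB => ?_⟩
    · rw [← map_comap_eq_self_of_surjective (QuotientGroup.mk'_surjective _) A, ← hA', e,
        Subgroup.map_top_of_surjective _ (QuotientGroup.mk'_surjective _)]
    · have hker : (QuotientGroup.mk' (pCore p ↥M)).ker ≤ B := by
        refine le_trans ?_ hB.le
        exact Subgroup.ker_le_comap _ _
      have e1 : (B.map (QuotientGroup.mk' (pCore p ↥M))).comap (QuotientGroup.mk' (pCore p ↥M)) = B :=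
        comap_map_eq_self hker
      have h5 : A < B.map (QuotientGroup.mk' (pCore p ↥M)) := by
        refine lt_of_le_of_ne ?_ fun e => ?_
        · rw [← map_comap_eq_self_of_surjective (QuotientGroup.mk'_surjective _) A]
          exact map_mono hB.le
        · exact hB.ne (by rw [hA', e, e1])
      rw [← e1, hAco.2 _ h5, Subgroup.comap_top]
  by_contra hne
  set Cs := C.subgroupOf M with hCs
  have : Cs.Normal := ⟨fun a ha b => mem_subgroupOf.2 (conj_mem_of_normalizer (hMC b.2) ha)⟩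
  have hsup : A' ⊔ Cs = ⊤ := hA'co.2 _ (left_lt_sup.2 hne)
  have hT1A : T1.subgroupOf M ≤ A' := by
    have h6 : T1.subgroupOf M ≤ pCore p ↥M := PCore.le_pCore
      ⟨fun a ha b => mem_subgroupOf.2 (conj_mem_of_normalizer (hMT1 b.2) ha)⟩
      ((T.2.to_inf_left).comap_of_injective _ M.subtype_injective)
    refine h6.trans ?_
    rw [hA']
    exact (QuotientGroup.ker_mk' (pCore p ↥M)).ge.trans (Subgroup.ker_le_comap _ _)
  -- `A'` contains a Sylow subgroup of `M`
  have hidx : ¬ p ∣ A'.index := by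
    intro hd
    have e1 : A'.index * Nat.card A' = Nat.card ↥M := A'.index_mul_card
    have e2 : Cs.index * Nat.card Cs = Nat.card ↥M := Cs.index_mul_card
    have e3 : Cs.relIndex A' = Cs.index := by
      rw [← Subgroup.relIndex_top_right, ← hsup]
      exact (Subgroup.relIndex_sup_right (H := A') (K := Cs)).symm
    have e4 : Nat.card ↥(Cs ⊓ A') * Cs.relIndex A' = Nat.card A' := by
      rw [← Subgroup.inf_relIndex_right, ← relIndex_bot_left, ← relIndex_bot_left,
        relIndex_mul_relIndex _ _ _ bot_le inf_le_right]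
    have e5 : Nat.card Cs = Nat.card ↥(Cs ⊓ A') * A'.index := by
      rw [← e4, e3, ← e2] at e1
      refine Nat.eq_of_mul_eq_mul_left (Nat.pos_of_ne_zero Cs.index_ne_zero_of_finite) ?_
      rw [← e1]; ring
    have eC : Nat.card Cs = Nat.card ↥C :=
      Nat.card_congr (Subgroup.subgroupOfEquivOfLe (inf_le_left : C ≤ M)).toEquiv
    have eT : Nat.card ↥(T1.subgroupOf M) = Nat.card ↥T1 :=
      Nat.card_congr (Subgroup.subgroupOfEquivOfLe ((inf_le_right : T1 ≤ C).trans inf_le_left)).toEquiv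
    obtain ⟨n, hn⟩ := IsPGroup.iff_card.1 (T.2.to_inf_left : IsPGroup p T1)
    have hd2 : p ^ (n + 1) ∣ Nat.card ↥C := by
      rw [← eC, e5, pow_succ, ← hn, ← eT]
      refine Nat.mul_dvd_mul (Subgroup.card_dvd_of_le (le_inf ?_ hT1A)) hd
      exact Subgroup.comap_mono inf_le_right
    obtain ⟨Q, hQ⟩ := Sylow.exists_subgroup_card_pow_prime (G := ↥C) p hd2
    have h7 := card_le_inf (T := T) hTM (inf_le_left : C ≤ M) hMC
      ((IsPGroup.of_card hQ).map C.subtype) (map_subtype_le _)
    rw [Subgroup.card_map_of_injective C.subtype_injective, hQ, ← hT1, hn] at h7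
    exact absurd h7 (not_le.2 (Nat.pow_lt_pow_right (Fact.out : p.Prime).one_lt (Nat.lt_succ_self n)))
  obtain ⟨SA⟩ := (inferInstance : Nonempty (Sylow p ↥A'))
  obtain ⟨S', hS'⟩ := (SA.2.map A'.subtype).exists_le_sylow
  have hcard : Nat.card ↥((SA : Subgroup ↥A').map A'.subtype) = Nat.card S' := by
    rw [Subgroup.card_map_of_injective A'.subtype_injective, SA.card_eq_multiplicity,
      S'.card_eq_multiplicity, ← A'.index_mul_card,
      Nat.factorization_mul A'.index_ne_zero_of_finite Nat.card_pos.ne', Finsupp.add_apply,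
      Nat.factorization_eq_zero_of_not_dvd hidx, zero_add]
  have hS'A : (S' : Subgroup ↥M) ≤ A' := by
    rw [← Subgroup.eq_of_le_of_card_ge hS' hcard.ge]
    exact map_subtype_le _
  obtain ⟨k, hk⟩ := MulAction.exists_smul_eq ↥M S' (T.subtype hTM)
  set A2 := (A'.map (MulAut.conj k).toMonoidHom).map M.subtype with hA2
  have hTA2 : (T : Subgroup G) ≤ A2 := by
    intro x hx
    refine ⟨⟨x, hTM hx⟩, ?_, rfl⟩
    have h8 : (⟨x, hTM hx⟩ : ↥M) ∈ ((T.subtype hTM : Sylow p ↥M) : Subgroup ↥M) := hx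
    rw [← hk, Sylow.coe_subgroup_smul] at h8
    exact Subgroup.map_mono hS'A h8
  have hA2C : A2 ⊔ C = M := by
    have h9 : A'.map (MulAut.conj k).toMonoidHom ⊔ Cs = ⊤ := by
      have h10 := congrArg (Subgroup.map (MulAut.conj k).toMonoidHom) hsup
      rwa [Subgroup.map_sup, cj_eq_of_mem_normalizer (Q := Cs) (by rw [normalizer_eq_top]; trivial),
        Subgroup.map_top_of_surjective _ (MulAut.conj k).surjective] at h10
    have h11 := congrArg (Subgroup.map M.subtype) h9
    rwa [Subgroup.map_sup, subgroupOf_map_subtype, inf_eq_left.2 (inf_le_left : C ≤ M),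
      ← MonoidHom.range_eq_map, range_subtype] at h11
  have hA2X : A2 ⊔ centralizer (Y : Set G) = X := by
    rw [← hMX, ← hA2C, sup_assoc, sup_eq_right.2 (inf_le_right : C ≤ centralizer (Y : Set G))]
  have h12 := hmin A2 hTA2 (hA2X ▸ le_sup_left) hA2X
  rw [hA2, Subgroup.card_map_of_injective M.subtype_injective,
    Subgroup.card_map_of_injective (MulAut.conj k).injective] at h12
  exact hA'co.1 (Subgroup.eq_top_of_le_card _ h12)

/-- Members with the basic property above a given member of `𝓛` containing a Sylow subgroup. -/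
theorem exists_frakM {T : Sylow p G} {L : Subgroup G} (hG : IsOfParabolicCharacteristic p G)
    (hTL : (T : Subgroup G) ≤ L) (hL : L ∈ charPSubgroups p G) :
    ∃ M Ls : Subgroup G, (T : Subgroup G) ≤ M ∧ IsInFrakM p M ∧ (T : Subgroup G) ≤ Ls ∧ Ls ≤ M ∧
      Ls ∈ charPSubgroups p G ∧ largestPReducedOf p L = largestPReducedOf p Ls ∧
      largestPReducedOf p L ≤ largestPReducedOf p M ∧
      L ⊔ centralizer (largestPReducedOf p L : Set G) =
        Ls ⊔ centralizer (largestPReducedOf p L : Set G) := by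
  classical
  set Y := largestPReducedOf p L with hY
  set C := centralizer (Y : Set G) with hC
  set Ld := L ⊔ C with hLd
  have hLdN : Ld ≤ normalizer (Y : Set G) :=
    sup_le (red_largest L).2.1 (centralizer_le_normalizer Y)
  have hLdC : Ld ≤ normalizer (C : Set G) := hLdN.trans (normalizer_le_normalizer_centralizer Y)
  have hTLd : (T : Subgroup G) ≤ Ld := hTL.trans le_sup_left
  -- the starred subgroup inside any member of the family
  set F : Set (Subgroup G) :=
    {X | X ∈ charPSubgroups p G ∧ (T : Subgroup G) ≤ X ∧ (X ⊓ Ld) ⊔ C = Ld} with hF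
  have hstar : ∀ X ∈ F, ∃ Ls : Subgroup G, (T : Subgroup G) ≤ Ls ∧ Ls ≤ X ∧
      Ls ∈ charPSubgroups p G ∧ Y = largestPReducedOf p Ls ∧ Ld = Ls ⊔ C := by
    rintro X ⟨hX, hTX, hXC⟩
    set D := X ⊓ Ld with hD
    set T0 := (T : Subgroup G) ⊓ C with hT0
    have hTD : (T : Subgroup G) ≤ D := le_inf hTX hTLd
    have hDC : D ≤ normalizer ((D ⊓ C : Subgroup G) : Set G) :=
      le_normalizer_inf_centralizer (inf_le_right.trans hLdN)
    have eT : (T : Subgroup G) ⊓ (D ⊓ C) = T0 := by rw [← inf_assoc, inf_eq_left.2 hTD]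
    have hfr := frattini_sup (T := T) hTD (inf_le_left : D ⊓ C ≤ D) hDC
    rw [eT] at hfr
    set Ls := D ⊓ normalizer (T0 : Set G) with hLs
    have hTLs : (T : Subgroup G) ≤ Ls :=
      le_inf hTD (eT ▸ sylow_le_normalizer_inf (hTD.trans hDC))
    have hLsC : Ld = Ls ⊔ C := by
      refine le_antisymm ?_ (sup_le (inf_le_left.trans inf_le_right) le_sup_right)
      conv_lhs => rw [← hXC, ← hfr]
      exact sup_le (sup_le le_sup_left ((inf_le_right : D ⊓ C ≤ C).trans le_sup_right)) le_sup_right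
    have hLsL : Ls ∈ charPSubgroups p G :=
      charP_mem_of_le hX hTLs (inf_le_left.trans inf_le_left)
    refine ⟨Ls, hTLs, inf_le_left.trans inf_le_left, hLsL, le_antisymm ?_ ?_, hLsC⟩
    · exact red_le (red_transfer (red_largest L) hTL
        ((largest_le_pCoreOf L).trans ((pCoreOf_le_sylow hTL).trans hTLs)) hLsC)
    · rw [hY, largest_eq_centreP hTL hL, ← hY, ← hC, ← hT0]
      have h1 : T0 ≤ pCoreOf p Ls :=
        le_pCoreOf (inf_le_left.trans hTLs) inf_le_right T.2.to_inf_left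
      have h2 : T0 ≤ centralizer (largestPReducedOf p Ls : Set G) :=
        h1.trans (pCoreOf_le_centralizer_largest Ls)
      intro y hy
      have hyC : y ∈ C := by
        refine (centralizer_le ?_) (le_centralizer_iff.1 h2 hy)
        exact (show Y ≤ T0 from le_inf ((largest_le_pCoreOf L).trans (pCoreOf_le_sylow hTL))
          (le_centralizer_of_elementary (red_largest L).2.2.1))
      exact ⟨⟨⟨pCoreOf_le_sylow hTLs (largest_le_pCoreOf Ls hy), hyC⟩,
        le_centralizer_iff.1 h2 hy⟩, (red_largest Ls).2.2.1.2 y hy⟩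
  have hLdF : Ld ∈ F := ⟨sup_centralizer_mem hG hTL hL, hTLd,
    by rw [inf_idem, hLd, sup_assoc, sup_idem]⟩
  have hFmono : ∀ X ∈ F, ∀ X' ∈ charPSubgroups p G, X ≤ X' → X' ∈ F := fun X hX X' hX' hle =>
    ⟨hX', hX.2.1.trans hle, le_antisymm (sup_le inf_le_right le_sup_right)
      (hX.2.2.ge.trans (sup_le_sup_right (inf_le_inf_right Ld hle) C))⟩
  obtain ⟨X0, hX0, hmax0⟩ := Set.exists_max_image F
    (fun X => Nat.card ↥(largestPReducedOf p X)) (Set.toFinite _) ⟨Ld, hLdF⟩
  obtain ⟨X, ⟨hXF, hXY⟩, hmaxX⟩ := Set.exists_max_image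
    {X | X ∈ F ∧ Nat.card ↥(largestPReducedOf p X) = Nat.card ↥(largestPReducedOf p X0)}
    (fun X => Nat.card ↥X) (Set.toFinite _) ⟨X0, hX0, rfl⟩
  have hXmax : X ∈ maxCharPSubgroups p G := by
    refine ⟨hXF.1, fun X' hX' hle => ?_⟩
    have hX'F := hFmono X hXF X' hX' hle
    have h1 : Nat.card ↥(largestPReducedOf p X') = Nat.card ↥(largestPReducedOf p X0) :=
      le_antisymm (hmax0 X' hX'F) (hXY ▸ Nat.le_of_dvd Nat.card_pos
        (Subgroup.card_dvd_of_le (largest_mono hXF.2.1 hle hX')))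
    exact (Subgroup.eq_of_le_of_card_ge hle (hmaxX X' ⟨hX'F, h1⟩)).symm
  set Z := largestPReducedOf p X with hZ
  have hCZX : centralizer (Z : Set G) ≤ X :=
    le_sup_right.trans_eq (hXmax.2 _ (sup_centralizer_mem hG hXF.2.1 hXF.1) le_sup_left)
  obtain ⟨M, ⟨hTM, hMX, hMC⟩, hmin⟩ := Set.exists_min_image
    {M : Subgroup G | (T : Subgroup G) ≤ M ∧ M ≤ X ∧ M ⊔ centralizer (Z : Set G) = X}
    (fun M => Nat.card ↥M) (Set.toFinite _) ⟨X, hXF.2.1, le_rfl, sup_eq_left.2 hCZX⟩
  have hMmem : M ∈ charPSubgroups p G := charP_mem_of_le hXF.1 hTM hMX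
  have hMred : Red p M Z := red_transfer (red_largest X) hXF.2.1
    ((largest_le_pCoreOf X).trans ((pCoreOf_le_sylow hXF.2.1).trans hTM))
    (by rw [hMC, sup_eq_left.2 hCZX])
  have hMY : largestPReducedOf p M = Z :=
    le_antisymm (largest_mono hTM hMX hXF.1) (red_le hMred)
  have hMdag : M ⊔ centralizer (largestPReducedOf p M : Set G) = X := by rw [hMY]; exact hMC
  have hYZ : Y ≤ Z := by
    obtain ⟨Ls, h1, h2, -, h4, -⟩ := hstar X hXF
    rw [h4]
    exact largest_mono h1 h2 hXF.1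
  have hMF : M ∈ F := by
    refine ⟨hMmem, hTM, ?_⟩
    have h1 : centralizer (Z : Set G) ≤ C := centralizer_le hYZ
    have e : X ⊓ Ld = (M ⊓ Ld) ⊔ centralizer (Z : Set G) := by
      rw [← hMC]
      exact sup_inf_eq ((hMX.trans (red_largest X).2.1).trans
        (normalizer_le_normalizer_centralizer Z)) (h1.trans le_sup_right)
    have h2 := hXF.2.2
    rw [e, sup_assoc, sup_eq_right.2 h1] at h2
    exact h2
  obtain ⟨Ls, hTLs, hLsM, hLsmem, hLsY, hLsC⟩ := hstar M hMF
  have hfM := frattini_of_minimal hTM hMred hMC fun M' h1 h2 h3 => hmin M' ⟨h1, h2, h3⟩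
  rw [← hMY] at hfM
  refine ⟨M, Ls, hTM, ⟨hMmem, by rw [hMdag]; exact hXmax, ?_, by rw [hMdag]; exact hMY, hfM.1, hfM.2⟩,
    hTLs, hLsM, hLsmem, hLsY, hMY.symm ▸ hYZ, hLsC⟩
  intro X' hX' hMX'
  rw [hMdag]
  have hX'F := hFmono M hMF X' hX'.1 hMX'
  have h1 : Z ≤ largestPReducedOf p X' := hMY ▸ largest_mono hTM hMX' hX'.1
  have h2 : largestPReducedOf p X' = Z :=
    (Subgroup.eq_of_le_of_card_ge h1 ((hmax0 X' hX'F).trans_eq hXY.symm)).symm
  have h3 : centralizer (Z : Set G) ≤ X' := by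
    rw [← h2]
    exact le_sup_right.trans_eq
      (hX'.2 _ (sup_centralizer_mem hG (hTM.trans hMX') hX'.1) le_sup_left)
  exact hXmax.2 X' hX'.1 (hMC ▸ sup_le hMX' h3)

end CfsgLib.Large
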