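import Cfsg.Prelude.Def_LocalStructure
import Cfsg.Agent.Lib.Large.Basic
import Cfsg.Agent.Lib.LocalEven.PIrreducible

/-!
Transitive families of subgroups each normal in their join, in a group with `O_p = 1` (helper62).
-/

set_option autoImplicit false

namespace CfsgLib.Large.Family

open Cfsg Subgroup CfsgLib.Large
open scoped commutatorElement

variable {X : Type*} [Group X] [Finite X] {p : ℕ} [Fact p.Prime]

/-- `O^p` of a subgroup, in the ambient group. -/
def W (p : ℕ) (E : Subgroup X) : Subgroup X := (pResidual p ↥E).map E.subtype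

omit [Finite X] [Fact p.Prime] in
theorem W_le (E : Subgroup X) : W p E ≤ E := map_subtype_le _

omit [Finite X] [Fact p.Prime] in
theorem mem_W {E : Subgroup X} {x : X} (hx : x ∈ E) (hc : (orderOf x).Coprime p) : x ∈ W p E := by
  rw [W, CfsgLib.PRed.pResidual_map_subtype_eq]
  exact subset_closure ⟨hx, hc⟩

omit [Finite X] [Fact p.Prime] in
theorem W_le_of_forall {E K : Subgroup X}
    (h : ∀ x ∈ E, (orderOf x).Coprime p → x ∈ K) : W p E ≤ K := by
  rw [W, CfsgLib.PRed.pResidual_map_subtype_eq, closure_le]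
  exact fun x hx => h x hx.1 hx.2

omit [Finite X] [Fact p.Prime] in
theorem W_map {Y : Type*} [Group Y] (e : X →* Y) (he : Function.Injective e) (E : Subgroup X) :
    (W p E).map e = W p (E.map e) := by
  rw [W, W, CfsgLib.PRed.pResidual_map_subtype_eq, CfsgLib.PRed.pResidual_map_subtype_eq,
    MonoidHom.map_closure]
  congr 1
  ext y
  constructor
  · rintro ⟨x, ⟨hx, hc⟩, rfl⟩
    exact ⟨⟨x, hx, rfl⟩, by rwa [orderOf_injective e he]⟩
  · rintro ⟨⟨x, hx, rfl⟩, hc⟩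
    exact ⟨x, ⟨hx, by rwa [orderOf_injective e he] at hc⟩, rfl⟩

theorem le_normalizer_W (E : Subgroup X) : normalizer (E : Set X) ≤ normalizer (W p E : Set X) := by
  intro x hx
  refine mem_normalizer_iff_cj.2 ?_
  rw [W_map _ (MulAut.conj x).injective, cj_eq_of_mem_normalizer hx]

/-- The family data. -/
structure Fam (p : ℕ) (𝒳 : Set (Subgroup X)) : Prop where
  core : pCore p X = ⊥
  ne : 𝒳.Nonempty
  inv : ∀ (x : X), ∀ E ∈ 𝒳, E.map (MulAut.conj x).toMonoidHom ∈ 𝒳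
  trans : ∀ E ∈ 𝒳, ∀ K ∈ 𝒳, ∃ x : X, K = E.map (MulAut.conj x).toMonoidHom
  res : pResidual p X ≤ sSup 𝒳
  norm : ∀ E ∈ 𝒳, sSup 𝒳 ≤ normalizer (E : Set X)

variable {𝒳 : Set (Subgroup X)}

omit [Fact p.Prime] in
theorem Fam.normal (h : Fam p 𝒳) : (sSup 𝒳).Normal := by
  refine ⟨fun a ha x => ?_⟩
  have h1 : sSup 𝒳 ≤ (sSup 𝒳).comap (MulAut.conj x).toMonoidHom := sSup_le fun E hE =>
    map_le_iff_le_comap.1 (le_sSup (h.inv x E hE))
  exact h1 ha

theorem Fam.top_eq (h : Fam p 𝒳) (T : Sylow p X) : (T : Subgroup X) ⊔ sSup 𝒳 = ⊤ :=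
  top_le_iff.1 ((CfsgLib.PRed.sylow_sup_pResidual T).ge.trans (sup_le_sup_left h.res _))

/-- the transitivity is realised by `T` -/
theorem Fam.trans_sylow (h : Fam p 𝒳) (T : Sylow p X) {E K : Subgroup X} (hE : E ∈ 𝒳)
    (hK : K ∈ 𝒳) : ∃ t ∈ (T : Subgroup X), K = E.map (MulAut.conj t).toMonoidHom := by
  haveI := h.normal
  obtain ⟨x, rfl⟩ := h.trans E hE K hK
  have hx : x ∈ (T : Subgroup X) ⊔ sSup 𝒳 := by rw [h.top_eq T]; exact mem_top x
  obtain ⟨t, ht, r, hr, rfl⟩ := Subgroup.mem_sup_of_normal_right.1 hx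
  exact ⟨t, ht, by rw [← cj_cj, cj_eq_of_mem_normalizer (h.norm E hE hr)]⟩

/-- A `p`-group inside a member normalized by it is trivial. -/
theorem Fam.eq_bot (h : Fam p 𝒳) {E Z : Subgroup X} (hE : E ∈ 𝒳) (hZE : Z ≤ E)
    (hZ : E ≤ normalizer (Z : Set X)) (hp : IsPGroup p Z) : Z = ⊥ := by
  haveI := h.normal
  have h1 : Z ≤ pCoreOf p E := le_pCoreOf hZE hZ hp
  have h2 : pCoreOf p E ≤ pCoreOf p (sSup 𝒳) := le_pCoreOf ((pCoreOf_le E).trans (le_sSup hE))
    ((h.norm E hE).trans (normalizer_le_normalizer_pCoreOf E)) (isPGroup_pCoreOf E)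
  refine le_bot_iff.1 ((h1.trans h2).trans ?_)
  rw [← h.core]
  refine CfsgLib.PCore.le_pCore ⟨fun a ha x => ?_⟩ (isPGroup_pCoreOf _)
  refine conj_mem_of_normalizer (normalizer_le_normalizer_pCoreOf _ ?_) ha
  simp [Subgroup.normalizer_eq_top]

theorem Fam.exists_conj (h : Fam p 𝒳) (T : Sylow p X) {E P : Subgroup X} (hE : E ∈ 𝒳)
    (hPE : P ≤ E) (hP : IsPGroup p P) :
    ∃ r : X, P.map (MulAut.conj r).toMonoidHom ≤ (T : Subgroup X) ⊓ E := by
  haveI := h.normal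
  obtain ⟨Q, hQ⟩ := CfsgLib.PRed.exists_sylow_inf_normal T (sSup 𝒳)
  obtain ⟨Q1, hQ1⟩ :=
    (hP.comap_of_injective (sSup 𝒳).subtype (sSup 𝒳).subtype_injective).exists_le_sylow
  obtain ⟨r, hr⟩ := MulAction.exists_smul_eq ↥(sSup 𝒳) Q1 Q
  refine ⟨(r : X), fun z hz => ?_⟩
  obtain ⟨x, hx, rfl⟩ := hz
  refine Subgroup.mem_inf.2 ⟨?_, conj_mem_of_normalizer (h.norm E hE r.2) (hPE hx)⟩
  have hxR : x ∈ sSup 𝒳 := (le_sSup hE) (hPE hx)
  have h1 : r * ⟨x, hxR⟩ * r⁻¹ ∈ (Q : Subgroup ↥(sSup 𝒳)) := by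
    rw [← hr, ← sylow_cj_eq]
    exact ⟨⟨x, hxR⟩, hQ1 (mem_subgroupOf.2 hx), rfl⟩
  rw [hQ] at h1
  exact mem_subgroupOf.1 h1

theorem Fam.card_le (h : Fam p 𝒳) (T : Sylow p X) {E P : Subgroup X} (hE : E ∈ 𝒳)
    (hPE : P ≤ E) (hP : IsPGroup p P) : Nat.card P ≤ Nat.card ↥((T : Subgroup X) ⊓ E) := by
  obtain ⟨r, hr⟩ := h.exists_conj T hE hPE hP
  exact (Subgroup.card_map_of_injective (MulAut.conj r).injective).symm.trans_le
    (Nat.le_of_dvd Nat.card_pos (Subgroup.card_dvd_of_le hr))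

theorem Fam.exists_sylow (h : Fam p 𝒳) (T : Sylow p X) {E : Subgroup X} (hE : E ∈ 𝒳) :
    ∃ P : Sylow p ↥E, (P : Subgroup ↥E).map E.subtype = (T : Subgroup X) ⊓ E := by
  obtain ⟨P, hP⟩ := ((T.2.to_inf_left : IsPGroup p ((T : Subgroup X) ⊓ E : Subgroup X)).comap_of_injective
    E.subtype E.subtype_injective).exists_le_sylow
  refine ⟨P, (Subgroup.eq_of_le_of_card_ge ?_ (h.card_le T hE (map_subtype_le _) (P.2.map _))).symm⟩
  exact fun x hx => ⟨⟨x, hx.2⟩, hP (mem_subgroupOf.2 hx), rfl⟩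

/-! ### minimal-over -/

/-- `F` is the largest proper subgroup of `E` containing `T ∩ E`. -/
def Good (T E F : Subgroup X) : Prop :=
  T ⊓ E ≤ F ∧ F < E ∧ ∀ Y : Subgroup X, T ⊓ E ≤ Y → Y < E → Y ≤ F

omit [Finite X] [Fact p.Prime] in
theorem cj_lt {A B : Subgroup X} (h : A < B) (x : X) :
    A.map (MulAut.conj x).toMonoidHom < B.map (MulAut.conj x).toMonoidHom :=
  lt_of_le_not_ge (map_mono h.le) fun e => h.not_ge
    ((Subgroup.map_le_map_iff_of_injective (MulAut.conj x).injective).1 e)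

omit [Finite X] [Fact p.Prime] in
theorem Good.map {T E F : Subgroup X} (h : Good T E F) {x : X}
    (hx : (T ⊓ E).map (MulAut.conj x).toMonoidHom = T ⊓ E.map (MulAut.conj x).toMonoidHom) :
    Good T (E.map (MulAut.conj x).toMonoidHom) (F.map (MulAut.conj x).toMonoidHom) := by
  refine ⟨hx ▸ map_mono h.1, cj_lt h.2.1 x, fun Y hY1 hY2 => ?_⟩
  have e : ∀ A : Subgroup X,
      (A.map (MulAut.conj x).toMonoidHom).map (MulAut.conj x⁻¹).toMonoidHom = A := fun A => by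
    rw [cj_cj, inv_mul_cancel, cj_one]
  have h1 : Y.map (MulAut.conj x⁻¹).toMonoidHom ≤ F := by
    refine h.2.2 _ ?_ ?_
    · rw [← e (T ⊓ E), hx]; exact map_mono hY1
    · rw [← e E]; exact cj_lt hY2 x⁻¹
  calc Y = (Y.map (MulAut.conj x⁻¹).toMonoidHom).map (MulAut.conj x).toMonoidHom := by
        rw [cj_cj, mul_inv_cancel, cj_one]
    _ ≤ _ := map_mono h1

omit [Finite X] [Fact p.Prime] in
theorem Good.unique {T E F F' : Subgroup X} (h : Good T E F) (h' : Good T E F') : F = F' :=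
  le_antisymm (h'.2.2 F h.1 h.2.1) (h.2.2 F' h'.1 h'.2.1)

theorem Fam.isMinimalOver (h : Fam p 𝒳) (T : Sylow p X)
    (hgood : ∀ E ∈ 𝒳, ∃ F, Good (T : Subgroup X) E F ∧ ¬ E ≤ normalizer (F : Set X))
    (hgen : ∀ E ∈ 𝒳, E ≤ normalClosure ((T : Subgroup X) : Set X)) :
    IsMinimalOver (T : Subgroup X) := by
  haveI := h.normal
  refine ⟨top_le_iff.1 ((h.top_eq T).ge.trans (sup_le le_normalClosure (sSup_le hgen))), ?_⟩
  let S : Submonoid X :=
    { carrier := {x | ∀ E ∈ 𝒳, ∀ F, Good (T : Subgroup X) E F →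
        Good (T : Subgroup X) (E.map (MulAut.conj x).toMonoidHom) (F.map (MulAut.conj x).toMonoidHom)}
      one_mem' := fun E _ F hF => by rw [cj_one, cj_one]; exact hF
      mul_mem' := fun {a b} ha hb E hE F hF => by
        rw [← cj_cj, ← cj_cj]
        exact ha _ (h.inv b E hE) _ (hb E hE F hF) }
  let K : Subgroup X :=
    { S with
      inv_mem' := fun {x} hx => by
        have e : x⁻¹ = x ^ (orderOf x - 1) := inv_eq_of_mul_eq_one_right (by
          rw [← pow_succ', Nat.sub_add_cancel (orderOf_pos x), pow_orderOf_eq_one])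
        rw [e]
        exact S.pow_mem hx _ }
  have hTK : (T : Subgroup X) ≤ K := fun t ht E _ F hF => hF.map (by
    rw [Subgroup.map_inf _ _ _ (MulAut.conj t).injective, cj_eq_of_mem_normalizer (le_normalizer ht)])
  have hKne : K ≠ ⊤ := by
    intro hK
    obtain ⟨E, hE⟩ := h.ne
    obtain ⟨F, hF, hnF⟩ := hgood E hE
    refine hnF fun e he => mem_normalizer_iff_cj.2 ?_
    have h1 := (show e ∈ K by rw [hK]; exact mem_top e) E hE F hF
    rw [cj_eq_of_mem_normalizer (le_normalizer he : e ∈ normalizer (E : Set X))] at h1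
    exact h1.unique hF
  have hmax : ∀ M : Subgroup X, IsCoatom M → (T : Subgroup X) ≤ M → M ≤ K := by
    intro M hM hTM
    have hnot : ∀ E ∈ 𝒳, ¬ E ≤ M := by
      intro E hE hEM
      refine hM.1 (top_le_iff.1 ((h.top_eq T).ge.trans (sup_le hTM (sSup_le fun K' hK' => ?_))))
      obtain ⟨t, ht, rfl⟩ := h.trans_sylow T hE hK'
      exact (map_mono hEM).trans_eq (cj_eq_of_mem_normalizer (le_normalizer (hTM ht)))
    intro m hm E hE F hF
    set E' := E.map (MulAut.conj m).toMonoidHom with hE'def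
    have hE' : E' ∈ 𝒳 := h.inv m E hE
    obtain ⟨F', hF', -⟩ := hgood E' hE'
    set J := M ⊓ E' with hJ
    have hJF : J ≤ F' := hF'.2.2 J (le_inf (inf_le_left.trans hTM) inf_le_right)
      (lt_of_le_of_ne inf_le_right fun e => hnot E' hE' (e.ge.trans inf_le_left))
    set A := ((T : Subgroup X) ⊓ E).map (MulAut.conj m).toMonoidHom with hA
    have hAJ : A ≤ J := le_inf ((map_mono (inf_le_left.trans hTM)).trans_eq
      (cj_eq_of_mem_normalizer (le_normalizer hm))) (map_mono inf_le_right)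
    have hBJ : (T : Subgroup X) ⊓ E' ≤ J := inf_le_inf_right _ hTM
    have hcard : Nat.card A = Nat.card ↥((T : Subgroup X) ⊓ E') := by
      refine le_antisymm (h.card_le T hE' (hAJ.trans inf_le_right) (T.2.to_inf_left.map _)) ?_
      have e : E'.map (MulAut.conj m⁻¹).toMonoidHom = E := by
        rw [hE'def, cj_cj, inv_mul_cancel, cj_one]
      calc Nat.card ↥((T : Subgroup X) ⊓ E')
          = Nat.card ↥(((T : Subgroup X) ⊓ E').map (MulAut.conj m⁻¹).toMonoidHom) :=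
            (Subgroup.card_map_of_injective (MulAut.conj m⁻¹).injective).symm
        _ ≤ Nat.card ↥((T : Subgroup X) ⊓ E) :=
            h.card_le T hE ((map_mono inf_le_right).trans_eq e) (T.2.to_inf_left.map _)
        _ = Nat.card A := (Subgroup.card_map_of_injective (MulAut.conj m).injective).symm
    obtain ⟨P1, hP1⟩ := ((T.2.to_inf_left : IsPGroup p ((T : Subgroup X) ⊓ E' : Subgroup X)).comap_of_injective
      J.subtype J.subtype_injective).exists_le_sylow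
    obtain ⟨P2, hP2⟩ := ((T.2.to_inf_left.map _ : IsPGroup p A).comap_of_injective
      J.subtype J.subtype_injective).exists_le_sylow
    have hb1 : (T : Subgroup X) ⊓ E' ≤ (P1 : Subgroup ↥J).map J.subtype :=
      fun x hx => ⟨⟨x, hBJ hx⟩, hP1 (mem_subgroupOf.2 hx), rfl⟩
    have hb2 : A ≤ (P2 : Subgroup ↥J).map J.subtype :=
      fun x hx => ⟨⟨x, hAJ hx⟩, hP2 (mem_subgroupOf.2 hx), rfl⟩
    have e1 : (P1 : Subgroup ↥J).map J.subtype = (T : Subgroup X) ⊓ E' :=
      (Subgroup.eq_of_le_of_card_ge hb1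
        (h.card_le T hE' ((map_subtype_le _).trans inf_le_right) (P1.2.map _))).symm
    have e2 : (P2 : Subgroup ↥J).map J.subtype = A :=
      (Subgroup.eq_of_le_of_card_ge hb2
        ((h.card_le T hE' ((map_subtype_le _).trans inf_le_right) (P2.2.map _)).trans_eq hcard.symm)).symm
    obtain ⟨e, he⟩ := MulAction.exists_smul_eq ↥J P2 P1
    have he' : A.map (MulAut.conj (e : X)).toMonoidHom = (T : Subgroup X) ⊓ E' := by
      rw [← e1, ← e2, ← he, ← sylow_cj_eq, Subgroup.map_map, Subgroup.map_map]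
      rfl
    have heE : E.map (MulAut.conj ((e : X) * m)).toMonoidHom = E' := by
      rw [← cj_cj, ← hE'def]
      exact cj_eq_of_mem_normalizer (le_normalizer ((inf_le_right : J ≤ E') e.2))
    have h2 := hF.map (x := (e : X) * m) (by rw [heE, ← cj_cj]; exact he')
    rw [heE] at h2
    have h3 := h2.unique hF'
    have h4 : F.map (MulAut.conj m).toMonoidHom = F' := by
      calc F.map (MulAut.conj m).toMonoidHom
          = (F.map (MulAut.conj ((e : X) * m)).toMonoidHom).map (MulAut.conj (e : X)⁻¹).toMonoidHom := by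
            rw [cj_cj, inv_mul_cancel_left]
        _ = F' := by rw [h3, cj_eq_of_mem_normalizer (inv_mem (le_normalizer (hJF e.2)))]
    rw [h4]; exact hF'
  have hKc : IsCoatom K := by
    obtain ⟨M, hM, hKM⟩ := (eq_top_or_exists_le_coatom K).resolve_left hKne
    rwa [le_antisymm hKM (hmax M hM (hTK.trans hKM))]
  exact ⟨K, ⟨hKc, hTK⟩, fun M hM => ((hM.1.le_iff.1 (hmax M hM.1 hM.2)).resolve_left hKne).symm⟩

/-! ### irreducibility -/

/-- strong irreducibility of a member, in the ambient group -/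
def Str (p : ℕ) (E : Subgroup X) : Prop :=
  ¬ IsPClosed p ↥E ∧ ∀ Z : Subgroup X, Z ≤ E → E ≤ normalizer (Z : Set X) →
    ⁅Z, E⁆ = ⊥ ∨ W p E ≤ Z

theorem Fam.W_eq (h : Fam p 𝒳) {E : Subgroup X} (hE : E ∈ 𝒳) (hs : Str p E) :
    ⁅W p E, E⁆ = W p E := by
  have hn : E ≤ normalizer (W p E : Set X) := le_normalizer.trans (le_normalizer_W E)
  have hle : ⁅W p E, E⁆ ≤ W p E := le_normalizer_iff_commutator_le_left.1 hn
  set Z := ⁅W p E, E⁆ with hZ
  have hZn : E ≤ normalizer (Z : Set X) := by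
    intro e he
    refine mem_normalizer_iff_cj.2 ?_
    rw [hZ, Subgroup.map_commutator, cj_eq_of_mem_normalizer (hn he),
      cj_eq_of_mem_normalizer (le_normalizer he)]
  rcases hs.2 Z (hle.trans (W_le E)) hZn with h0 | h1
  · exfalso
    apply hs.1
    set W' := pResidual p ↥E with hW'
    haveI : W'.Normal := CfsgLib.PRed.pResidual_normal
    haveI : Group.IsNilpotent (↥E ⧸ W') :=
      (CfsgLib.PRed.isPGroup_quotient_pResidual (p := p) (G := ↥E)).isNilpotent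
    obtain ⟨n, hn'⟩ := Subgroup.nilpotent_iff_lowerCentralSeries.1 ‹Group.IsNilpotent (↥E ⧸ W')›
    have h2 : ((⊤ : Subgroup ↥E).lowerCentralSeries n).map (QuotientGroup.mk' W') ≤ ⊥ :=
      (Subgroup.lowerCentralSeries.map (QuotientGroup.mk' W') n).trans hn'.le
    rw [le_bot_iff, Subgroup.map_eq_bot_iff, QuotientGroup.ker_mk'] at h2
    haveI : Group.IsNilpotent ↥E := Subgroup.nilpotent_iff_lowerCentralSeries.2 ⟨n + 2, by
      rw [Subgroup.lowerCentralSeries_succ, Subgroup.lowerCentralSeries_succ, eq_bot_iff]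
      refine (commutator_mono (commutator_mono h2 le_rfl) le_rfl).trans (le_of_eq ?_)
      refine map_injective E.subtype_injective ?_
      rw [Subgroup.map_commutator, Subgroup.map_commutator, ← MonoidHom.range_eq_map, range_subtype,
        Subgroup.map_bot]
      exact h0⟩
    intro P
    infer_instance
  · exact le_antisymm hle h1

theorem Fam.exists_pow {E : Subgroup X} {x : X} (hx : x ∈ E) : ∃ k : ℕ, x ^ p ^ k ∈ W p E := by
  obtain ⟨k, hk⟩ := CfsgLib.PRed.exists_pow_pow_mem_pResidual (p := p) (⟨x, hx⟩ : ↥E)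
  exact ⟨k, _, hk, rfl⟩

theorem Fam.residual_le (h : Fam p 𝒳) {N : Subgroup X} [N.Normal]
    (hN : ∀ E ∈ 𝒳, W p E ≤ N) : pResidual p X ≤ N := by
  haveI := h.normal
  set f := QuotientGroup.mk' N with hf
  set R := sSup 𝒳 with hR
  have hle : R ≤ (pCoreOf p (R.map f)).comap f := sSup_le fun E hE => by
    refine map_le_iff_le_comap.1 (le_pCoreOf (map_mono (le_sSup hE))
      ((map_mono (h.norm E hE)).trans (le_normalizer_map f)) ?_)
    rintro ⟨_, x, hx, rfl⟩
    obtain ⟨k, hk⟩ := Fam.exists_pow (p := p) hx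
    exact ⟨k, Subtype.ext (by
      simpa [← map_pow, hf] using (QuotientGroup.eq_one_iff _).2 (hN E hE hk))⟩
  refine (closure_le _).2 fun x hx => ?_
  obtain ⟨k, hk⟩ := isPGroup_pCoreOf (p := p) (R.map f)
    ⟨f x, hle (h.res (CfsgLib.PRed.mem_pResidual hx))⟩
  refine CfsgLib.PRed.mem_of_pow_pow_mem hx (k := k) ((QuotientGroup.eq_one_iff _).1 ?_)
  simpa [← map_pow, hf] using congrArg Subtype.val hk

theorem Fam.centralizes (h : Fam p 𝒳) {N : Subgroup X} [N.Normal]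
    (hs : ∀ E ∈ 𝒳, Str p E) (hZ : ∀ E ∈ 𝒳, ⁅N ⊓ E, E⁆ = ⊥) {E : Subgroup X} (hE : E ∈ 𝒳) :
    N ≤ centralizer (W p E : Set X) := by
  haveI := h.normal
  set A := N ⊓ sSup 𝒳 with hA
  have hAE : ⁅A, E⁆ ≤ N ⊓ E := le_inf
    ((commutator_mono inf_le_left le_rfl).trans (commutator_le_left N E))
    (le_normalizer_iff_commutator_le_right.1 (inf_le_right.trans (h.norm E hE)))
  have h1 : ⁅⁅A, E⁆, E⁆ = ⊥ := le_bot_iff.1 ((commutator_mono hAE le_rfl).trans (hZ E hE).le)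
  have h2 : ⁅⁅E, E⁆, A⁆ = ⊥ :=
    commutator_commutator_eq_bot_of_rotate (by rwa [commutator_comm E A]) h1
  have hWA : W p E ≤ centralizer (A : Set X) := by
    rw [← commutator_eq_bot_iff_le_centralizer, ← h.W_eq hE (hs E hE)]
    exact le_bot_iff.1 ((commutator_mono (commutator_mono (W_le E) le_rfl) le_rfl).trans h2.le)
  intro b hb
  have hmemA : ∀ w ∈ W p E, ⁅w, b⁆ ∈ A := fun w hw => Subgroup.mem_inf.2
    ⟨by
      rw [show ⁅w, b⁆ = (w * b * w⁻¹) * b⁻¹ by group]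
      exact mul_mem (‹N.Normal›.conj_mem b hb w) (inv_mem hb),
    by
      have hwR : w ∈ sSup 𝒳 := le_sSup hE (W_le E hw)
      rw [show ⁅w, b⁆ = w * (b * w⁻¹ * b⁻¹) by group]
      exact mul_mem hwR (h.normal.conj_mem _ (inv_mem hwR) b)⟩
  have hcomm : ∀ u ∈ W p E, ∀ a ∈ A, u * a = a * u := fun u hu a ha => (hWA hu a ha).symm
  have hphi : ∀ w ∈ W p E, ∀ e ∈ E, ⁅⁅w, e⁆, b⁆ = ⁅e, ⁅w, b⁆⁻¹⁆ := by
    intro w hw e he
    set c := ⁅w, b⁆ with hc
    have hcA : c ∈ A := hmemA w hw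
    set a := ⁅b⁻¹, e⁻¹⁆ with ha
    have haA : a ∈ A := Subgroup.mem_inf.2
      ⟨by
        rw [ha, show ⁅b⁻¹, e⁻¹⁆ = b⁻¹ * (e⁻¹ * b * e) by group]
        exact mul_mem (inv_mem hb) (by simpa using ‹N.Normal›.conj_mem b hb e⁻¹),
      by
        have heR : e ∈ sSup 𝒳 := le_sSup hE he
        rw [ha, show ⁅b⁻¹, e⁻¹⁆ = (b⁻¹ * e⁻¹ * b⁻¹⁻¹) * e by group]
        exact mul_mem (h.normal.conj_mem _ (inv_mem heR) b⁻¹) heR⟩
    have hinv : ⁅w⁻¹, b⁆ = c⁻¹ := by
      have e1 : w⁻¹ * c = c * w⁻¹ := hcomm _ (inv_mem hw) _ hcA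
      calc ⁅w⁻¹, b⁆ = w⁻¹ * c⁻¹ * w := by rw [hc]; group
        _ = c⁻¹ := by rw [hcomm _ (inv_mem hw) _ (inv_mem hcA), inv_mul_cancel_right]
    have hstep : ⁅e * w⁻¹ * e⁻¹, b⁆ = e * c⁻¹ * e⁻¹ := by
      have e2 : w⁻¹ * a * w = a := by rw [hcomm _ (inv_mem hw) _ haA, inv_mul_cancel_right]
      calc ⁅e * w⁻¹ * e⁻¹, b⁆ = e * (⁅w⁻¹, b⁆ * (b * (w⁻¹ * a * w) * a⁻¹ * b⁻¹)) * e⁻¹ := by
            rw [ha]; group
        _ = e * c⁻¹ * e⁻¹ := by rw [e2, hinv]; group
    have hw' : e * w⁻¹ * e⁻¹ ∈ W p E :=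
      conj_mem_of_normalizer (le_normalizer_W E (le_normalizer he)) (inv_mem hw)
    have h3 : w * (e * c⁻¹ * e⁻¹) * w⁻¹ = e * c⁻¹ * e⁻¹ := by
      rw [← hstep, hcomm _ hw _ (hmemA _ hw'), mul_inv_cancel_right]
    calc ⁅⁅w, e⁆, b⁆ = w * ⁅e * w⁻¹ * e⁻¹, b⁆ * w⁻¹ * c := by rw [hc]; group
      _ = ⁅e, c⁻¹⁆ := by rw [hstep, h3]; group
  have hZmem : ∀ w ∈ W p E, ∀ e ∈ E, ⁅⁅w, e⁆, b⁆ ∈ N ⊓ E := fun w hw e he => by
    rw [hphi w hw e he, ← commutatorElement_inv]
    exact inv_mem (hAE (commutator_mem_commutator (inv_mem (hmemA w hw)) he))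
  have hZc : ∀ z ∈ N ⊓ E, ∀ e ∈ E, z * e = e * z := fun z hz e he =>
    commutatorElement_eq_one_iff_mul_comm.1
      ((Subgroup.eq_bot_iff_forall _).1 (hZ E hE) _ (commutator_mem_commutator hz he))
  -- all of `W` lands in `N ∩ E`
  let U : Subgroup X :=
    { carrier := {u | u ∈ W p E ∧ ⁅u, b⁆ ∈ N ⊓ E}
      one_mem' := ⟨one_mem _, by simp⟩
      mul_mem' := by
        rintro u v ⟨hu, hu'⟩ ⟨hv, hv'⟩
        refine ⟨mul_mem hu hv, ?_⟩
        rw [show ⁅u * v, b⁆ = u * ⁅v, b⁆ * u⁻¹ * ⁅u, b⁆ by group,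
          ← hZc _ hv' u (W_le E hu), mul_inv_cancel_right]
        exact mul_mem hv' hu'
      inv_mem' := by
        rintro u ⟨hu, hu'⟩
        refine ⟨inv_mem hu, ?_⟩
        rw [show ⁅u⁻¹, b⁆ = u⁻¹ * ⁅u, b⁆⁻¹ * u by group,
          ← hZc _ (inv_mem hu') u⁻¹ (inv_mem (W_le E hu)), inv_mul_cancel_right]
        exact inv_mem hu' }
  have hWW := h.W_eq hE (hs E hE)
  have hWU : W p E ≤ U := by
    rw [← hWW]
    refine commutator_le.2 fun w hw e he => ⟨?_, hZmem w hw e he⟩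
    exact hWW.le (commutator_mem_commutator hw he)
  have hWb : ⁅W p E, E⁆ ≤ centralizer {b} := by
    refine commutator_le.2 fun w hw e he => ?_
    rw [mem_centralizer_singleton_iff]
    refine commutatorElement_eq_one_iff_mul_comm.1 ?_
    rw [hphi w hw e he, commutatorElement_eq_one_iff_mul_comm]
    exact (hZc _ (inv_mem (hWU hw).2) e he).symm
  rw [hWW] at hWb
  intro u hu
  exact mem_centralizer_singleton_iff.1 (hWb hu)

theorem Fam.isPIrreducible (h : Fam p 𝒳) (hs : ∀ E ∈ 𝒳, Str p E) : IsPIrreducible p X := by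
  haveI := h.normal
  obtain ⟨T⟩ := (inferInstance : Nonempty (Sylow p X))
  rw [CfsgLib.PIrr.isPIrreducible_iff T, h.core]
  refine ⟨fun hT => ?_, fun N hN hTN => ?_⟩
  · obtain ⟨E, hE⟩ := h.ne
    obtain ⟨P, hP⟩ := h.exists_sylow T hE
    refine (hs E hE).1 ((CfsgLib.PIrr.isPClosed_iff P).2 fun x hx => ?_)
    have h1 : (x : X) = 1 := Subgroup.mem_bot.1 (hT (hP.le ⟨x, hx, rfl⟩).1)
    rw [show x = 1 from Subtype.ext h1]
    exact one_mem _
  · haveI := hN
    by_cases hex : ∃ E ∈ 𝒳, W p E ≤ N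
    · obtain ⟨E, hE, hle⟩ := hex
      refine h.residual_le fun K hK => ?_
      obtain ⟨x, rfl⟩ := h.trans E hE K hK
      rw [← W_map _ (MulAut.conj x).injective]
      exact (map_mono hle).trans_eq (cj_eq_of_mem_normalizer (by simp [Subgroup.normalizer_eq_top]))
    push Not at hex
    have hZ : ∀ E ∈ 𝒳, ⁅N ⊓ E, E⁆ = ⊥ := fun E hE => by
      refine ((hs E hE).2 _ inf_le_right ?_).resolve_right fun hle => hex E hE (hle.trans inf_le_left)
      exact (le_inf (by simp [Subgroup.normalizer_eq_top]) le_normalizer).trans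
        normalizer_le_normalizer_inf
    set C := centralizer (N : Set X) with hC
    have hres : pResidual p X ≤ C :=
      h.residual_le fun E hE => le_centralizer_iff.1 (h.centralizes hs hZ hE)
    exfalso
    apply hTN
    have hn : ((T : Subgroup X) ⊓ N).Normal := by
      rw [← Subgroup.normalizer_eq_top_iff, eq_top_iff, ← CfsgLib.PRed.sylow_sup_pResidual T]
      refine sup_le ((le_inf le_normalizer (by simp [Subgroup.normalizer_eq_top])).trans
        normalizer_le_normalizer_inf) ?_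
      exact (hres.trans (centralizer_le
        (SetLike.coe_subset_coe.2 (inf_le_right : (T : Subgroup X) ⊓ N ≤ N)))).trans
        (centralizer_le_normalizer _)
    exact (CfsgLib.PCore.le_pCore hn T.2.to_inf_left).trans h.core.le

theorem Fam.dichotomy (h : Fam p 𝒳) (hs : ∀ E ∈ 𝒳, Str p E) {E K : Subgroup X} (hE : E ∈ 𝒳)
    (hK : K ∈ 𝒳) : W p E = W p K ∨ ⁅E, K⁆ = ⊥ := by
  have hEK : E ≤ normalizer (K : Set X) := (le_sSup hE).trans (h.norm K hK)
  have hKE : K ≤ normalizer (E : Set X) := (le_sSup hK).trans (h.norm E hE)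
  have hEn : E ≤ normalizer ((E ⊓ K : Subgroup X) : Set X) :=
    (le_inf le_normalizer hEK).trans normalizer_le_normalizer_inf
  have hKn : K ≤ normalizer ((E ⊓ K : Subgroup X) : Set X) :=
    (le_inf hKE le_normalizer).trans normalizer_le_normalizer_inf
  have hcard : ∀ {A B : Subgroup X}, A ∈ 𝒳 → B ∈ 𝒳 → Nat.card (W p A) = Nat.card (W p B) := by
    intro A B hA hB
    obtain ⟨x, rfl⟩ := h.trans A hA B hB
    rw [← W_map _ (MulAut.conj x).injective,
      Subgroup.card_map_of_injective (MulAut.conj x).injective]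
  rcases (hs E hE).2 _ inf_le_left hEn with hZE | hle
  swap
  · exact Or.inl (Subgroup.eq_of_le_of_card_ge
      (W_le_of_forall fun x hx hc => mem_W (hle (mem_W hx hc)).2 hc) (hcard hK hE).le)
  rcases (hs K hK).2 _ inf_le_right hKn with hZK | hle
  swap
  · exact Or.inl (Subgroup.eq_of_le_of_card_ge
      (W_le_of_forall fun x hx hc => mem_W (hle (mem_W hx hc)).1 hc) (hcard hE hK).le).symm
  right
  set P := ⁅E, K⁆ with hP
  have hPle : P ≤ E ⊓ K := le_inf (le_normalizer_iff_commutator_le_left.1 hKE)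
    (le_normalizer_iff_commutator_le_right.1 hEK)
  have h1 : ⁅⁅E, K⁆, E⁆ = ⊥ := le_bot_iff.1 ((commutator_mono hPle le_rfl).trans hZE.le)
  have h2 : ⁅⁅E, E⁆, K⁆ = ⊥ :=
    commutator_commutator_eq_bot_of_rotate h1 (by rwa [commutator_comm K E])
  have hWK : ∀ u ∈ W p E, ∀ k ∈ K, u * k = k * u := fun u hu k hk =>
    commutatorElement_eq_one_iff_mul_comm.1 ((Subgroup.eq_bot_iff_forall _).1 h2 _
      (commutator_mem_commutator (commutator_mono (W_le E) le_rfl
        ((h.W_eq hE (hs E hE)).ge hu)) hk))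
  have hc : ∀ z ∈ E ⊓ K, ∀ e ∈ E, Commute z e := fun z hz e he =>
    commutatorElement_eq_one_iff_mul_comm.1
      ((Subgroup.eq_bot_iff_forall _).1 hZE _ (commutator_mem_commutator hz he))
  let Tor : Subgroup X :=
    { carrier := {z | z ∈ E ⊓ K ∧ ∃ n : ℕ, z ^ p ^ n = 1}
      one_mem' := ⟨one_mem _, 0, by simp⟩
      mul_mem' := by
        rintro u v ⟨hu, m, hm⟩ ⟨hv, n, hn⟩
        refine ⟨mul_mem hu hv, m + n, ?_⟩
        rw [(hc u hu v hv.1).mul_pow, pow_add, pow_mul, hm, one_pow, one_mul, mul_comm (p ^ m),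
          pow_mul, hn, one_pow]
      inv_mem' := by
        rintro u ⟨hu, m, hm⟩
        exact ⟨inv_mem hu, m, by rw [inv_pow, hm, inv_one]⟩ }
  have hPT : P ≤ Tor := by
    refine commutator_le.2 fun e he k hk => ?_
    have hz : ⁅e, k⁆ ∈ E ⊓ K := hPle (commutator_mem_commutator he hk)
    obtain ⟨n, hn⟩ := Fam.exists_pow (p := p) he
    refine ⟨hz, n, ?_⟩
    have hpow : ∀ j : ℕ, ⁅e ^ j, k⁆ = ⁅e, k⁆ ^ j := by
      intro j
      induction j with
      | zero => simp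
      | succ j ih =>
        rw [show ⁅e ^ (j + 1), k⁆ = e * ⁅e ^ j, k⁆ * e⁻¹ * ⁅e, k⁆ by rw [pow_succ']; group, ih,
          ← ((hc _ hz e he).pow_left j).eq, mul_inv_cancel_right, pow_succ]
    rw [← hpow, commutatorElement_eq_one_iff_mul_comm]
    exact hWK _ hn k hk
  refine le_bot_iff.1 (hPT.trans (le_of_eq (h.eq_bot hE (fun z hz => hz.1.1) (fun e he => ?_) ?_)))
  · refine mem_normalizer_of_conj_mem fun z hz => ?_
    rw [← (hc z hz.1 e he).eq, mul_inv_cancel_right]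
    exact hz
  · rintro ⟨z, hz⟩
    obtain ⟨n, hn⟩ := hz.2
    exact ⟨n, Subtype.ext hn⟩

end CfsgLib.Large.Family
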