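import Cfsg.Agent.Lib.Large.Asym
import Cfsg.Agent.Lib.Large.Action
import Cfsg.Agent.Lib.LocalEven.PReducedBasic
import Cfsg.Agent.Lib.LocalEven.PIrreducible

/-!
Members of `ℌ_G(O_p(M))` (helper62).
-/

set_option autoImplicit false

namespace CfsgLib.Large

open Cfsg Subgroup
open scoped commutatorElement

variable {G : Type*} [Group G] [Finite G] {p : ℕ}

/-- `P` contains `R` and every proper such subgroup has `Y` in its `O_p`, but `P` does not: then `P`
is the normal closure of `R`. -/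
theorem normalClosure_eq_of_minimal {R Y H : Subgroup G} (hRH : R ≤ H) (hY : ¬ Y ≤ pCoreOf p H)
    (hmin : ∀ P : Subgroup G, R ≤ P → P < H → Y ≤ pCoreOf p P) :
    (normalClosure ((R.subgroupOf H : Subgroup ↥H) : Set ↥H)).map H.subtype = H := by
  set N := (normalClosure ((R.subgroupOf H : Subgroup ↥H) : Set ↥H)).map H.subtype with hN
  have hRN : R ≤ N := fun r hr =>
    ⟨⟨r, hRH hr⟩, subset_normalClosure (mem_subgroupOf.2 hr), rfl⟩
  by_contra hne
  refine hY ((hmin N hRN (lt_of_le_of_ne (map_subtype_le _) hne)).trans ?_)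
  refine le_pCoreOf ((pCoreOf_le N).trans (map_subtype_le _)) ?_ (isPGroup_pCoreOf N)
  refine le_trans (fun h hh => ?_) (normalizer_le_normalizer_pCoreOf N)
  refine mem_normalizer_of_conj_mem ?_
  rintro _ ⟨z, hz, rfl⟩
  exact ⟨⟨h, hh⟩ * z * ⟨h, hh⟩⁻¹, normalClosure_normal.conj_mem z hz ⟨h, hh⟩, rfl⟩

theorem frakH_normalClosure {M H : Subgroup G} (hH : IsInFrakH p M H) :
    (normalClosure (((pCoreOf p M).subgroupOf H : Subgroup ↥H) : Set ↥H)).map H.subtype = H :=
  normalClosure_eq_of_minimal hH.2.1 hH.2.2.1 hH.2.2.2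

/-- If `H = ⟨R^H⟩` and `R` lies in a subgroup normalized by `H`, so does `H`. -/
theorem le_of_normalClosure_eq {R H K : Subgroup G}
    (hH : (normalClosure ((R.subgroupOf H : Subgroup ↥H) : Set ↥H)).map H.subtype = H)
    (hRK : R ≤ K) (hK : ∀ k ∈ K, ∀ h ∈ H, h * k * h⁻¹ ∈ K) : H ≤ K := by
  have : (K.subgroupOf H).Normal :=
    ⟨fun a ha b => mem_subgroupOf.2 (hK _ (mem_subgroupOf.1 ha) _ b.2)⟩
  calc H = _ := hH.symm
    _ ≤ (K.subgroupOf H).map H.subtype :=
        map_mono (normalClosure_le_normal fun r hr => mem_subgroupOf.2 (hRK (mem_subgroupOf.1 hr)))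
    _ ≤ K := map_comap_le _ _

variable [Fact p.Prime]

/-- A subgroup `H = ⟨O_p(M)^H⟩` of `K`, `K` of characteristic `p`, has characteristic `p`. -/
theorem charP_of_normalClosure {T : Sylow p G} {M H K : Subgroup G}
    (hG : IsOfParabolicCharacteristic p G) (hTM : (T : Subgroup G) ≤ M) (hM : IsInFrakM p M)
    (hasym : ¬ IsSymmetricIn (largestPReducedOf p M)) (hRH : pCoreOf p M ≤ H) (hHK : H ≤ K)
    (hcl : (normalClosure (((pCoreOf p M).subgroupOf H : Subgroup ↥H) : Set ↥H)).map H.subtype = H)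
    (hK : centralizer (pCore p ↥K : Set ↥K) ≤ pCore p ↥K) :
    centralizer (pCore p ↥H : Set ↥H) ≤ pCore p ↥H := by
  set R := pCoreOf p M with hR
  set Z := pCoreOf p K with hZ
  have hHZ : H ≤ normalizer (Z : Set G) := hHK.trans (le_normalizer_pCoreOf K)
  have hZR : Z ≤ normalizer (R : Set G) :=
    le_sup_left.trans (asym_le_normalizer hG hTM hM hasym
      (isPGroup_sup (isPGroup_pCoreOf M) (isPGroup_pCoreOf K) (hRH.trans hHZ) |> (fun h => by
        rwa [sup_comm] at h)) le_sup_right)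
  set Z0 := Z ⊓ H with hZ0
  set Z1 := Z ⊓ normalizer (Z0 : Set G) with hZ1
  have hHZ0 : H ≤ normalizer (Z0 : Set G) :=
    (le_inf hHZ le_normalizer).trans normalizer_le_normalizer_inf
  have hHZ1 : H ≤ normalizer (Z1 : Set G) :=
    (le_inf hHZ (hHZ0.trans le_normalizer)).trans normalizer_le_normalizer_inf
  have hact : H ≤ actKer Z1 Z0 := by
    refine le_of_normalClosure_eq hcl (fun r hr => mem_actKer.2
      ⟨hHZ1 (hRH hr), hHZ0 (hRH hr), fun a ha => Subgroup.mem_inf.2 ⟨?_, ?_⟩⟩)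
      (fun k hk h hh => conj_mem_actKer hk (hHZ1 hh) (hHZ0 hh))
    · exact mul_mem (inv_mem ha.1) (conj_mem_of_normalizer (hHZ (hRH hr)) ha.1)
    · rw [show a⁻¹ * (r * a * r⁻¹) = (a⁻¹ * r * a⁻¹⁻¹) * r⁻¹ by group]
      exact hRH (mul_mem (conj_mem_of_normalizer (hZR (inv_mem ha.1)) hr) (inv_mem hr))
  refine charP_of_forall fun x hx hc hcent => eq_one_of_charP hK (hHK hx) hc ?_
  have h0 : ∀ b ∈ Z0, x * b = b * x := fun b hb =>
    hcent b (inf_le_pCoreOf (isPGroup_pCoreOf K) hHZ hb)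
  have h1 : ∀ b ∈ Z1, x * b = b * x :=
    commute_of_stabilizes ((isPGroup_pCoreOf K).to_inf_left) hc h0 (mem_actKer.1 (hact hx)).2.2
  exact commute_of_commute_centralizer (isPGroup_pCoreOf K) ((isPGroup_pCoreOf K).to_inf_left)
    (inf_le_left.trans le_normalizer) hc (hHZ hx) h0
    fun b hb => h1 b ⟨hb.1, centralizer_le_normalizer _ hb.2⟩

/-- `O_p(M)` is a Sylow subgroup of `C(Y_M)`: conjugates of a Sylow subgroup of `C(Y_M)` by `C(Y_M)`. -/
theorem frakM_exists_conj {T : Sylow p G} {M : Subgroup G} (hTM : (T : Subgroup G) ≤ M)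
    (hM : IsInFrakM p M) (P : Sylow p ↥(centralizer (largestPReducedOf p M : Set G))) :
    ∃ c ∈ centralizer (largestPReducedOf p M : Set G),
      ((P : Subgroup ↥(centralizer (largestPReducedOf p M : Set G))).map
        (centralizer (largestPReducedOf p M : Set G)).subtype).map (MulAut.conj c).toMonoidHom =
        pCoreOf p M := by
  let C := centralizer (largestPReducedOf p M : Set G)
  let R := pCoreOf p M
  have hRC : R ≤ C := pCoreOf_le_centralizer_largest M
  obtain ⟨P₀, hP₀⟩ :=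
    ((isPGroup_pCoreOf (p := p) M).comap_of_injective C.subtype C.subtype_injective).exists_le_sylow
  have h1 : (P₀ : Subgroup ↥C).map C.subtype = R :=
    frakM_eq_pCoreOf hTM hM (P₀.2.map _) (map_subtype_le _) fun r hr =>
      ⟨⟨r, hRC hr⟩, hP₀ (mem_subgroupOf.2 hr), rfl⟩
  obtain ⟨c, hc⟩ := MulAction.exists_smul_eq ↥C P P₀
  refine ⟨c, c.2, ?_⟩
  show _ = R
  rw [← h1, ← hc, ← sylow_cj_eq, Subgroup.map_map, Subgroup.map_map]
  rfl

/-- A subgroup whose normal closure is the whole group, in a group with `p`-quotient by `N`,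
generates it together with `N`. -/
theorem sup_eq_top_of_normalClosure {X : Type*} [Group X] [Finite X] {N A : Subgroup X} [N.Normal]
    (hN : IsPGroup p (X ⧸ N)) (hA : normalClosure (A : Set X) = ⊤) : N ⊔ A = ⊤ := by
  set f := QuotientGroup.mk' N with hf
  haveI : Group.IsNilpotent (X ⧸ N) := hN.isNilpotent
  have h1 : A.map f = ⊤ := by
    by_contra hne
    obtain ⟨Mx, hMx, hle⟩ := (eq_top_or_exists_le_coatom (A.map f)).resolve_left hne
    have hnorm : Mx.Normal :=
      NormalizerCondition.normal_of_coatom Mx Group.normalizerCondition_of_isNilpotent hMx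
    have hcl : normalClosure (A : Set X) ≤ Mx.comap f :=
      normalClosure_le_normal fun a ha => hle ⟨a, ha, rfl⟩
    rw [hA] at hcl
    refine hMx.1 (top_le_iff.1 fun z _ => ?_)
    obtain ⟨x, rfl⟩ := QuotientGroup.mk'_surjective N z
    exact hcl (mem_top x)
  have h2 := congrArg (Subgroup.comap f) h1
  rwa [Subgroup.comap_map_eq, QuotientGroup.ker_mk', Subgroup.comap_top, sup_comm] at h2

omit [Finite G] [Fact p.Prime] in
theorem le_normalizer_commutator_left [Finite G] (A B : Subgroup G) :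
    A ≤ normalizer ((⁅A, B⁆ : Subgroup G) : Set G) := by
  intro a ha
  refine mem_normalizer_of_conj_mem fun z hz => ?_
  have hle : ⁅A, B⁆ ≤ (⁅A, B⁆).comap (MulAut.conj a).toMonoidHom := by
    refine commutator_le.2 fun u hu v hv => ?_
    show a * ⁅u, v⁆ * a⁻¹ ∈ ⁅A, B⁆
    rw [show a * ⁅u, v⁆ * a⁻¹ = ⁅a * u, v⁆ * ⁅a, v⁆⁻¹ by group]
    exact mul_mem (commutator_mem_commutator (mul_mem ha hu) hv)
      (inv_mem (commutator_mem_commutator ha hv))
  exact hle hz

/-- For `H ∈ ℌ`: `O^p(H) O_p(M) = H`, `[O^p(H), Y] = O^p(H)` and `⟨Y^H⟩ = O^p(H) Y`. -/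
theorem frakH_residual {M H : Subgroup G} (hH : IsInFrakH p M H) :
    pResidual p ↥H ⊔ (pCoreOf p M).subgroupOf H = ⊤ ∧
    ⁅pResidual p ↥H, (largestPReducedOf p M).subgroupOf H⁆ = pResidual p ↥H ∧
    pResidual p ↥H ⊔ (largestPReducedOf p M).subgroupOf H =
      normalClosure (((largestPReducedOf p M).subgroupOf H : Subgroup ↥H) : Set ↥H) := by
  set R := pCoreOf p M with hR
  set Y := largestPReducedOf p M with hY
  set R' := R.subgroupOf H with hR'
  set Y' := Y.subgroupOf H with hY'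
  set N := pResidual p ↥H with hN
  haveI : N.Normal := CfsgLib.PRed.pResidual_normal
  have hcl : normalClosure ((R' : Subgroup ↥H) : Set ↥H) = ⊤ := by
    refine map_injective H.subtype_injective ?_
    rw [← MonoidHom.range_eq_map, range_subtype]
    exact frakH_normalClosure hH
  have htop : N ⊔ R' = ⊤ :=
    sup_eq_top_of_normalClosure CfsgLib.PRed.isPGroup_quotient_pResidual hcl
  have hYR : Y' ≤ R' := fun y hy => mem_subgroupOf.2 (largest_le_pCoreOf M (mem_subgroupOf.1 hy))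
  have hR'Y : R' ≤ centralizer (Y' : Set ↥H) := fun r hr y hy =>
    Subtype.ext (pCoreOf_le_centralizer_largest M (mem_subgroupOf.1 hr) _ (mem_subgroupOf.1 hy))
  set D := ⁅N, Y'⁆ with hD
  have hRD : R' ≤ normalizer (D : Set ↥H) := by
    intro r hr
    refine mem_normalizer_iff_cj.2 ?_
    rw [hD, Subgroup.map_commutator, cj_eq_of_mem_normalizer (centralizer_le_normalizer _ (hR'Y hr)),
      cj_eq_of_mem_normalizer (show r ∈ normalizer (N : Set ↥H) by simp [Subgroup.normalizer_eq_top])]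
  have hND : N ≤ normalizer (D : Set ↥H) := le_normalizer_commutator_left N Y'
  have hDn : D.Normal := by
    rw [← Subgroup.normalizer_eq_top_iff, eq_top_iff, ← htop]
    exact sup_le hND hRD
  have hWn : (D ⊔ Y').Normal := by
    rw [← Subgroup.normalizer_eq_top_iff, eq_top_iff, ← htop]
    refine sup_le (fun n hn => ?_) (fun r hr => ?_)
    · refine mem_normalizer_iff_cj.2 (Subgroup.eq_of_le_of_card_ge ?_
        (Subgroup.card_map_of_injective (MulAut.conj n).injective).ge)
      rw [Subgroup.map_sup, cj_eq_of_mem_normalizer (hND hn)]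
      refine sup_le le_sup_left ?_
      rintro _ ⟨y, hy, rfl⟩
      show n * y * n⁻¹ ∈ D ⊔ Y'
      rw [show n * y * n⁻¹ = ⁅n, y⁆ * y by group]
      exact mul_mem_sup (commutator_mem_commutator hn hy) hy
    · refine mem_normalizer_iff_cj.2 ?_
      rw [Subgroup.map_sup, cj_eq_of_mem_normalizer (hRD hr),
        cj_eq_of_mem_normalizer (centralizer_le_normalizer _ (hR'Y hr))]
  have hDR : D ⊔ R' = ⊤ := by
    by_contra hne
    refine hH.2.2.1 ?_
    set P := (D ⊔ R').map H.subtype with hP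
    have hRP : R ≤ P := fun r hr =>
      ⟨⟨r, hH.2.1 hr⟩, (le_sup_right : R' ≤ _) (mem_subgroupOf.2 hr), rfl⟩
    have hlt : P < H := lt_of_le_of_ne (map_subtype_le _) fun e => hne (map_injective H.subtype_injective
      (by rw [← MonoidHom.range_eq_map, range_subtype]; exact e))
    have hYP := hH.2.2.2 P hRP hlt
    set W := (D ⊔ Y').map H.subtype with hW
    have hYW : Y ≤ W := fun y hy =>
      ⟨⟨y, hH.2.1 (largest_le_pCoreOf M hy)⟩, (le_sup_right : Y' ≤ _) (mem_subgroupOf.2 hy), rfl⟩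
    have hWP : W ≤ P := map_mono (sup_le_sup_left hYR _)
    have h1 : Y ≤ pCoreOf p W := (le_inf hYP hYW).trans
      (inf_le_pCoreOf (isPGroup_pCoreOf P) (hWP.trans (le_normalizer_pCoreOf P)))
    refine h1.trans (le_pCoreOf ((pCoreOf_le W).trans (map_subtype_le _)) ?_ (isPGroup_pCoreOf W))
    refine le_trans (fun h hh => ?_) (normalizer_le_normalizer_pCoreOf W)
    refine mem_normalizer_of_conj_mem ?_
    rintro _ ⟨z, hz, rfl⟩
    exact ⟨⟨h, hh⟩ * z * ⟨h, hh⟩⁻¹, hWn.conj_mem z hz ⟨h, hh⟩, rfl⟩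
  have hND' : N ≤ D := by
    refine CfsgLib.PRed.pResidual_le fun x => ?_
    have hx : x ∈ (↑(D ⊔ R') : Set ↥H) := by rw [hDR]; exact mem_top x
    rw [coe_mul_of_right_le_normalizer_left D R' hRD] at hx
    obtain ⟨d, hd, r, hr, rfl⟩ := hx
    obtain ⟨k, hk⟩ := isPGroup_pCoreOf (p := p) M ⟨_, mem_subgroupOf.1 hr⟩
    refine ⟨k, (QuotientGroup.eq_one_iff _).1 ?_⟩
    have hr1 : r ^ p ^ k = 1 := Subtype.ext (by simpa using congrArg Subtype.val hk)
    rw [QuotientGroup.mk_pow, QuotientGroup.mk_mul, (QuotientGroup.eq_one_iff d).2 hd, one_mul,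
      ← QuotientGroup.mk_pow, hr1, QuotientGroup.mk_one]
  have hDN : D ≤ N := commutator_le_left N Y'
  have hDeq : D = N := le_antisymm hDN hND'
  refine ⟨htop, hDeq, ?_⟩
  rw [hDeq] at hWn
  refine le_antisymm (sup_le ?_ le_normalClosure) (normalClosure_le_normal fun y hy => mem_sup_right hy)
  refine hND'.trans (commutator_le.2 fun n hn y hy => ?_)
  rw [show ⁅n, y⁆ = (n * y * n⁻¹) * y⁻¹ by group]
  exact mul_mem (normalClosure_normal.conj_mem y (subset_normalClosure hy) n)
    (inv_mem (subset_normalClosure hy))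

/-- `O_p(H)` normalizes `O_p(M)` for `O_p(M) ≤ H`, `Y_M` asymmetric. -/
theorem pCoreOf_le_normalizer_of_asym {T : Sylow p G} {M H : Subgroup G}
    (hG : IsOfParabolicCharacteristic p G) (hTM : (T : Subgroup G) ≤ M) (hM : IsInFrakM p M)
    (hasym : ¬ IsSymmetricIn (largestPReducedOf p M)) (hRH : pCoreOf p M ≤ H) :
    pCoreOf p H ≤ normalizer (pCoreOf p M : Set G) :=
  le_sup_right.trans (asym_le_normalizer hG hTM hM hasym
    (isPGroup_sup (isPGroup_pCoreOf M) (isPGroup_pCoreOf H) (hRH.trans (le_normalizer_pCoreOf H)))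
    le_sup_left)

/-- For `H ∈ ℌ` a normal subgroup contains `O^p(H)` or is `p`-closed. -/
theorem frakH_normal_dichotomy {M H : Subgroup G} (hH : IsInFrakH p M H) (N : Subgroup ↥H)
    [N.Normal] : pResidual p ↥H ≤ N ∨
      ∀ A : Subgroup ↥H, IsPGroup p A → A ≤ N → A ≤ pCore p ↥H := by
  set R := pCoreOf p M with hR
  set Y := largestPReducedOf p M with hY
  set R' := R.subgroupOf H with hR'
  set Y' := Y.subgroupOf H with hY'
  set D := pCore p ↥H with hD
  have hR'p : IsPGroup p R' :=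
    (isPGroup_pCoreOf M).comap_of_injective H.subtype H.subtype_injective
  by_cases htop : N ⊔ R' = ⊤
  · exact Or.inl (CfsgLib.PIrr.pResidual_le_of_sup_eq_top hR'p htop)
  right
  obtain ⟨-, -, h3⟩ := frakH_residual hH
  set P := (N ⊔ R').map H.subtype with hP
  have hRP : R ≤ P := fun r hr =>
    ⟨⟨r, hH.2.1 hr⟩, (le_sup_right : R' ≤ _) (mem_subgroupOf.2 hr), rfl⟩
  have hlt : P < H := lt_of_le_of_ne (map_subtype_le _) fun e => htop (map_injective H.subtype_injective
    (by rw [← MonoidHom.range_eq_map, range_subtype]; exact e))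
  have hYP := hH.2.2.2 P hRP hlt
  have hNY : ⁅N, Y'⁆ ≤ D := by
    set Ng := N.map H.subtype with hNg
    have hNgP : Ng ≤ P := map_mono le_sup_left
    have h1 : ⁅Ng, Y⁆ ≤ pCoreOf p P ⊓ Ng := by
      refine commutator_le.2 fun n hn y hy => Subgroup.mem_inf.2 ⟨?_, ?_⟩
      · rw [show ⁅n, y⁆ = (n * y * n⁻¹) * y⁻¹ by group]
        exact mul_mem (conj_mem_of_normalizer (le_normalizer_pCoreOf P (hNgP hn)) (hYP hy))
          (inv_mem (hYP hy))
      · rw [show ⁅n, y⁆ = n * (y * n⁻¹ * y⁻¹) by group]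
        refine mul_mem hn ?_
        obtain ⟨n', hn', e⟩ := inv_mem hn
        rw [← e]
        have hyH : y ∈ H := hH.2.1 (largest_le_pCoreOf M hy)
        exact ⟨⟨y, hyH⟩ * n' * ⟨y, hyH⟩⁻¹, ‹N.Normal›.conj_mem n' hn' ⟨y, hyH⟩, rfl⟩
    have h2 : pCoreOf p P ⊓ Ng ≤ pCoreOf p H := by
      refine (inf_le_pCoreOf (isPGroup_pCoreOf P) (hNgP.trans (le_normalizer_pCoreOf P))).trans ?_
      refine le_pCoreOf ((pCoreOf_le Ng).trans (map_subtype_le _)) ?_ (isPGroup_pCoreOf Ng)
      refine le_trans (fun h hh => ?_) (normalizer_le_normalizer_pCoreOf Ng)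
      refine mem_normalizer_of_conj_mem ?_
      rintro _ ⟨z, hz, rfl⟩
      exact ⟨⟨h, hh⟩ * z * ⟨h, hh⟩⁻¹, ‹N.Normal›.conj_mem z hz ⟨h, hh⟩, rfl⟩
    refine commutator_le.2 fun n hn y hy => ?_
    have h4 := h2 (h1 (commutator_mem_commutator (⟨n, hn, rfl⟩ : (n : G) ∈ Ng) hy))
    rw [hD, ← subgroupOf_pCoreOf, mem_subgroupOf]
    exact h4
  haveI : D.Normal := pCore_normal p ↥H
  set f := QuotientGroup.mk' D with hf
  haveI : (N.map f).Normal := ‹N.Normal›.map f (QuotientGroup.mk'_surjective D)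
  set K := (centralizer (N.map f : Set (↥H ⧸ D))).comap f with hK
  have hYK : normalClosure (Y' : Set ↥H) ≤ K := by
    refine normalClosure_le_normal fun y hy => ?_
    rintro _ ⟨n, hn, rfl⟩
    refine commutatorElement_eq_one_iff_mul_comm.1 ?_
    rw [← map_commutatorElement]
    exact (QuotientGroup.eq_one_iff _).2 (hNY (commutator_mem_commutator hn hy))
  have hres : pResidual p ↥H ≤ K := (le_sup_left.trans h3.le).trans hYK
  intro A hA hAN
  obtain ⟨T, hT⟩ := hA.exists_le_sylow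
  set B := (T : Subgroup ↥H) ⊓ N with hB
  have hBn : (B ⊔ D).Normal := by
    rw [← Subgroup.normalizer_eq_top_iff, eq_top_iff, ← CfsgLib.PRed.sylow_sup_pResidual T]
    refine sup_le ?_ (fun x hx => mem_normalizer_of_conj_mem ?_)
    · exact le_normalizer_sup ((le_inf le_normalizer (by simp [Subgroup.normalizer_eq_top])).trans
        normalizer_le_normalizer_inf) (by simp [Subgroup.normalizer_eq_top])
    · intro z hz
      obtain ⟨b, hb, d, hd, rfl⟩ := Subgroup.mem_sup_of_normal_right.1 hz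
      have hc : ⁅x, b⁆ ∈ D := by
        rw [← QuotientGroup.eq_one_iff, ← QuotientGroup.mk'_apply, map_commutatorElement,
          commutatorElement_eq_one_iff_mul_comm]
        exact (hres hx (f b) ⟨b, hb.2, rfl⟩).symm
      rw [show x * (b * d) * x⁻¹ = (⁅x, b⁆ * b) * (x * d * x⁻¹) by group]
      exact mul_mem (mul_mem ((le_sup_right : D ≤ _) hc) ((le_sup_left : B ≤ _) hb))
        ((le_sup_right : D ≤ _) (‹D.Normal›.conj_mem d hd x))
  exact ((le_inf hT hAN).trans le_sup_left).trans (CfsgLib.PCore.le_pCore hBn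
    (T.2.to_inf_left.to_sup_of_normal_right CfsgLib.PCore.pCore_isPGroup))

end CfsgLib.Large
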