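import Cfsg.Agent.Lib.Large.Basic

/-!
`Y_L`, the largest `p`-reduced normal subgroup, and the basic property family (helper62).
-/

set_option autoImplicit false

namespace CfsgLib.Large

open Cfsg Subgroup

variable {p : ℕ} {G : Type*} [Group G] [Finite G] [Fact p.Prime]

/-! ### Sylow facts relative to a subgroup -/

theorem exists_mem_conj_sylow {T : Sylow p G} {M P : Subgroup G} (hTM : (T : Subgroup G) ≤ M)
    (hP : IsPGroup p P) (hPM : P ≤ M) :
    ∃ m ∈ M, P ≤ (T : Subgroup G).map (MulAut.conj m).toMonoidHom := by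
  obtain ⟨S, hS⟩ := (hP.comap_of_injective M.subtype M.subtype_injective).exists_le_sylow
  obtain ⟨m, hm⟩ := MulAction.exists_smul_eq ↥M (T.subtype hTM) S
  refine ⟨m, m.2, fun x hx => ?_⟩
  have h1 := hS (x := ⟨x, hPM hx⟩) hx
  rw [← hm, Sylow.coe_subgroup_smul, Subgroup.mem_pointwise_smul_iff_inv_smul_mem,
    Sylow.coe_subtype, mem_subgroupOf] at h1
  rw [mem_cj]
  simpa [mul_assoc] using h1

/-- A `p`-subgroup of a normal subgroup `K` of `M ⊇ T` lies in a conjugate of `T ⊓ K`. -/
theorem exists_conj_inf {T : Sylow p G} {M K P : Subgroup G} (hTM : (T : Subgroup G) ≤ M)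
    (hKM : K ≤ M) (hMK : M ≤ normalizer (K : Set G)) (hP : IsPGroup p P) (hPK : P ≤ K) :
    ∃ m ∈ M, P ≤ ((T : Subgroup G) ⊓ K).map (MulAut.conj m).toMonoidHom := by
  obtain ⟨m, hm, hPm⟩ := exists_mem_conj_sylow hTM hP (hPK.trans hKM)
  refine ⟨m, hm, fun x hx => mem_cj.2 ⟨mem_cj.1 (hPm hx), ?_⟩⟩
  simpa using conj_mem_of_normalizer (inv_mem (hMK hm)) (hPK hx)

theorem card_le_inf {T : Sylow p G} {M K P : Subgroup G} (hTM : (T : Subgroup G) ≤ M)
    (hKM : K ≤ M) (hMK : M ≤ normalizer (K : Set G)) (hP : IsPGroup p P) (hPK : P ≤ K) :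
    Nat.card P ≤ Nat.card ↥((T : Subgroup G) ⊓ K) := by
  obtain ⟨m, -, hm⟩ := exists_conj_inf hTM hKM hMK hP hPK
  exact (Nat.le_of_dvd Nat.card_pos (Subgroup.card_dvd_of_le hm)).trans_eq
    (Subgroup.card_map_of_injective (MulAut.conj m).injective)

theorem eq_inf_sylow {T : Sylow p G} {M K P : Subgroup G} (hTM : (T : Subgroup G) ≤ M)
    (hKM : K ≤ M) (hMK : M ≤ normalizer (K : Set G)) (hP : IsPGroup p P) (hPK : P ≤ K)
    (h : (T : Subgroup G) ⊓ K ≤ P) : P = (T : Subgroup G) ⊓ K :=
  (Subgroup.eq_of_le_of_card_ge h (card_le_inf hTM hKM hMK hP hPK)).symm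

theorem eq_inf_sup {T : Sylow p G} {M K N P : Subgroup G} (hTM : (T : Subgroup G) ≤ M)
    (hKM : K ≤ M) (hMK : M ≤ normalizer (K : Set G)) (hMN : M ≤ normalizer (N : Set G))
    (hP : IsPGroup p P) (hK : K = P ⊔ N) : K = ((T : Subgroup G) ⊓ K) ⊔ N := by
  obtain ⟨m, hm, hPm⟩ := exists_conj_inf hTM hKM hMK hP (hK ▸ le_sup_left)
  refine le_antisymm ?_ (sup_le inf_le_right (hK ▸ le_sup_right))
  intro x hx
  have h1 : m * x * m⁻¹ ∈ P ⊔ N := hK ▸ conj_mem_of_normalizer (hMK hm) hx
  have h2 : m * x * m⁻¹ ∈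
      (((T : Subgroup G) ⊓ K) ⊔ N).map (MulAut.conj m).toMonoidHom := by
    rw [Subgroup.map_sup, cj_eq_of_mem_normalizer (hMN hm)]
    exact (sup_le_sup_right hPm N) h1
  rw [mem_cj] at h2
  simpa [mul_assoc] using h2

theorem exists_conj_of_card_max {K A B : Subgroup G} (hA : IsPGroup p A) (hB : IsPGroup p B)
    (hAK : A ≤ K) (hBK : B ≤ K) (hAB : Nat.card A = Nat.card B)
    (hmax : ∀ P : Subgroup G, IsPGroup p P → P ≤ K → Nat.card P ≤ Nat.card A) :
    ∃ k ∈ K, A.map (MulAut.conj k).toMonoidHom = B := by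
  obtain ⟨S1, h1⟩ := (hA.comap_of_injective K.subtype K.subtype_injective).exists_le_sylow
  obtain ⟨S2, h2⟩ := (hB.comap_of_injective K.subtype K.subtype_injective).exists_le_sylow
  have e : ∀ (S : Sylow p ↥K) (C : Subgroup G), C ≤ K → C.subgroupOf K ≤ S →
      Nat.card C = Nat.card A → (S : Subgroup ↥K).map K.subtype = C := fun S C hC hCS hcard =>
    (Subgroup.eq_of_le_of_card_ge
      (show C ≤ (S : Subgroup ↥K).map K.subtype from fun x hx => ⟨⟨x, hC hx⟩, hCS hx, rfl⟩)
      (by rw [hcard]; exact hmax _ (S.2.map _) (map_subtype_le _))).symm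
  obtain ⟨k, hk⟩ := MulAction.exists_smul_eq ↥K S1 S2
  refine ⟨k, k.2, ?_⟩
  rw [← e S1 A hAK h1 rfl, ← e S2 B hBK h2 hAB.symm, ← hk, Sylow.coe_subgroup_smul]
  change _ = ((S1 : Subgroup ↥K).map (MulAut.conj k).toMonoidHom).map K.subtype
  rw [Subgroup.map_map, Subgroup.map_map]
  rfl

/-- Frattini argument for `T ⊓ C` with `C` normal in `M ⊇ T`. -/
theorem frattini_sup {T : Sylow p G} {M C : Subgroup G} (hTM : (T : Subgroup G) ≤ M)
    (hCM : C ≤ M) (hMC : M ≤ normalizer (C : Set G)) :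
    (M ⊓ normalizer (((T : Subgroup G) ⊓ C : Subgroup G) : Set G)) ⊔ C = M := by
  refine le_antisymm (sup_le inf_le_left hCM) fun m hm => ?_
  set T0 := (T : Subgroup G) ⊓ C with hT0
  obtain ⟨c, hc, hck⟩ := exists_conj_of_card_max (p := p) (A := T0.map (MulAut.conj m).toMonoidHom)
    (B := T0) ((T.2.to_inf_left).map _) T.2.to_inf_left
    ((map_mono inf_le_right).trans_eq (cj_eq_of_mem_normalizer (hMC hm))) inf_le_right
    (Subgroup.card_map_of_injective (MulAut.conj m).injective)
    (fun P hP hPC => (card_le_inf hTM hCM hMC hP hPC).trans_eq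
      (Subgroup.card_map_of_injective (MulAut.conj m).injective).symm)
  rw [cj_cj] at hck
  have h1 : c * m ∈ M ⊓ normalizer (T0 : Set G) :=
    ⟨mul_mem (hCM hc) hm, mem_normalizer_iff_cj.2 hck⟩
  rw [show m = c⁻¹ * (c * m) by group]
  exact mul_mem ((le_sup_right : C ≤ _) (inv_mem hc))
    ((le_sup_left : M ⊓ normalizer (T0 : Set G) ≤ _) h1)

omit [Finite G] [Fact p.Prime] in
theorem sylow_le_normalizer_inf {T : Sylow p G} {C : Subgroup G}
    (h : (T : Subgroup G) ≤ normalizer (C : Set G)) :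
    (T : Subgroup G) ≤ normalizer (((T : Subgroup G) ⊓ C : Subgroup G) : Set G) :=
  (le_inf le_normalizer h).trans normalizer_le_normalizer_inf

/-! ### Elements of order dividing `p` in the centre -/

/-- The elements `x` of `Z(K)` with `x ^ p = 1`. -/
def centreP (p : ℕ) (K : Subgroup G) : Subgroup G where
  carrier := {x | x ∈ K ⊓ centralizer (K : Set G) ∧ x ^ p = 1}
  one_mem' := ⟨one_mem _, one_pow p⟩
  mul_mem' := by
    rintro a b ⟨ha, ha'⟩ ⟨hb, hb'⟩
    refine ⟨mul_mem ha hb, ?_⟩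
    rw [(show Commute a b from hb.2 a ha.1).mul_pow, ha', hb', one_mul]
  inv_mem' := by
    rintro a ⟨ha, ha'⟩
    exact ⟨inv_mem ha, by rw [inv_pow, ha', inv_one]⟩

omit [Finite G] [Fact p.Prime] in
theorem mem_centreP {K : Subgroup G} {x : G} :
    x ∈ centreP p K ↔ x ∈ K ⊓ centralizer (K : Set G) ∧ x ^ p = 1 := Iff.rfl

omit [Finite G] [Fact p.Prime] in
theorem centreP_le (K : Subgroup G) : centreP p K ≤ K := fun _ hx => hx.1.1

omit [Finite G] [Fact p.Prime] in
theorem centreP_le_centralizer (K : Subgroup G) : centreP p K ≤ centralizer (K : Set G) :=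
  fun _ hx => hx.1.2

omit [Fact p.Prime] in
theorem normalizer_le_normalizer_centreP (K : Subgroup G) :
    normalizer (K : Set G) ≤ normalizer (centreP p K : Set G) := fun g hg =>
  mem_normalizer_of_conj_mem fun x hx =>
    ⟨⟨conj_mem_of_normalizer hg hx.1.1, conj_mem_centralizer_of_normalizer hg hx.1.2⟩,
      by rw [conj_pow, hx.2, mul_one, mul_inv_cancel]⟩

omit [Finite G] [Fact p.Prime] in
theorem isElementaryAbelian_of_le_centreP {K V : Subgroup G} (h : V ≤ centreP p K) :
    IsElementaryAbelian p V :=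
  ⟨le_centralizer_iff_isMulCommutative.1 fun _ ha b hb => (h ha).1.2 b (h hb).1.1,
    fun _ ha => (h ha).2⟩

omit [Finite G] [Fact p.Prime] in
theorem isPGroup_of_elementary {V : Subgroup G} (h : IsElementaryAbelian p V) : IsPGroup p V :=
  fun v => ⟨1, Subtype.ext (by simpa using h.2 v v.2)⟩

omit [Finite G] [Fact p.Prime] in
theorem le_centralizer_of_elementary {V : Subgroup G} (h : IsElementaryAbelian p V) :
    V ≤ centralizer (V : Set G) :=
  le_centralizer_iff_isMulCommutative.2 h.1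

theorem centreP_ne_bot {K : Subgroup G} (hK : IsPGroup p K) (hK1 : K ≠ ⊥) :
    centreP p K ≠ ⊥ := by
  have h := inf_centralizer_ne_bot hK hK hK1 le_normalizer
  obtain ⟨n, hn⟩ := IsPGroup.iff_card.1 (hK.to_inf_left : IsPGroup p
    (K ⊓ centralizer (K : Set G) : Subgroup G))
  rcases n with _ | n
  · exact absurd (Subgroup.card_eq_one.1 (by simpa using hn)) h
  obtain ⟨x, hx⟩ := exists_prime_orderOf_dvd_card' (G := ↥(K ⊓ centralizer (K : Set G))) p
    (hn ▸ dvd_pow_self p n.succ_ne_zero)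
  have hx' : orderOf (x : G) = p := by rw [Subgroup.orderOf_coe]; exact hx
  intro hb
  have h1 : (x : G) ∈ centreP p K := ⟨x.2, by rw [← hx', pow_orderOf_eq_one]⟩
  rw [hb, mem_bot] at h1
  rw [h1, orderOf_one] at hx'
  exact (Fact.out : p.Prime).ne_one hx'.symm

/-! ### `p`-reduced normal subgroups, ambient form -/

/-- Ambient form of: `V` is a `p`-reduced normal subgroup of `L`. -/
def Red (p : ℕ) (L V : Subgroup G) : Prop :=
  V ≤ L ∧ L ≤ normalizer (V : Set G) ∧ IsElementaryAbelian p V ∧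
    ∀ P : Subgroup G, IsPGroup p P → P ≤ L →
      L ≤ normalizer ((P ⊔ (L ⊓ centralizer (V : Set G)) : Subgroup G) : Set G) →
        P ≤ centralizer (V : Set G)

omit [Finite G] [Fact p.Prime] in
theorem le_normalizer_inf_centralizer [Finite G] {L V : Subgroup G}
    (h : L ≤ normalizer (V : Set G)) :
    L ≤ normalizer ((L ⊓ centralizer (V : Set G) : Subgroup G) : Set G) :=
  (le_inf le_normalizer (h.trans (normalizer_le_normalizer_centralizer _))).trans
    normalizer_le_normalizer_inf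

omit [Fact p.Prime] in
theorem le_normalizer_sup {L A B : Subgroup G} (hA : L ≤ normalizer (A : Set G))
    (hB : L ≤ normalizer (B : Set G)) : L ≤ normalizer ((A ⊔ B : Subgroup G) : Set G) :=
  fun l hl => mem_normalizer_iff_cj.2 (by
    rw [Subgroup.map_sup, cj_eq_of_mem_normalizer (hA hl), cj_eq_of_mem_normalizer (hB hl)])

omit [Fact p.Prime] in
/-- A `p`-subgroup normal in `L` centralizes every `p`-reduced normal subgroup. -/
theorem Red.le_centralizer {L V P : Subgroup G} (h : Red p L V) (hP : IsPGroup p P) (hPL : P ≤ L)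
    (hn : L ≤ normalizer (P : Set G)) : P ≤ centralizer (V : Set G) :=
  h.2.2.2 P hP hPL (le_normalizer_sup hn (le_normalizer_inf_centralizer h.2.1))

omit [Fact p.Prime] in
theorem Red.sup {L V W : Subgroup G} (hV : Red p L V) (hW : Red p L W) : Red p L (V ⊔ W) := by
  obtain ⟨hV1, hV2, hV3, hV4⟩ := hV
  have hWV : W ≤ centralizer (V : Set G) :=
    Red.le_centralizer ⟨hV1, hV2, hV3, hV4⟩ (isPGroup_of_elementary hW.2.2.1) hW.1 hW.2.1
  obtain ⟨hW1, hW2, hW3, hW4⟩ := hW
  have hcomm : (V ⊔ W) ≤ centralizer ((V ⊔ W : Subgroup G) : Set G) := by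
    refine sup_le (le_centralizer_iff.1 (sup_le ?_ ?_)) (le_centralizer_iff.1 (sup_le ?_ ?_))
    · exact le_centralizer_of_elementary hV3
    · exact hWV
    · exact le_centralizer_iff.1 hWV
    · exact le_centralizer_of_elementary hW3
  have hcent : ∀ {A : Subgroup G}, A ≤ centralizer (V : Set G) → A ≤ centralizer (W : Set G) →
      A ≤ centralizer ((V ⊔ W : Subgroup G) : Set G) := fun h1 h2 =>
    le_centralizer_iff.1 (sup_le (le_centralizer_iff.1 h1) (le_centralizer_iff.1 h2))
  refine ⟨sup_le hV1 hW1, le_normalizer_sup hV2 hW2,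
    ⟨le_centralizer_iff_isMulCommutative.1 hcomm, ?_⟩, fun P hP hPL hn => ?_⟩
  · intro a ha
    have h1 : V ⊔ W ≤ centreP p (V ⊔ W) := sup_le
      (fun v hv => ⟨⟨(le_sup_left : V ≤ V ⊔ W) hv, hcomm ((le_sup_left : V ≤ V ⊔ W) hv)⟩,
        hV3.2 v hv⟩)
      (fun v hv => ⟨⟨(le_sup_right : W ≤ V ⊔ W) hv, hcomm ((le_sup_right : W ≤ V ⊔ W) hv)⟩,
        hW3.2 v hv⟩)
    exact (h1 ha).2
  · have key : ∀ U : Subgroup G, U ≤ V ⊔ W → L ≤ normalizer (U : Set G) →
        L ≤ normalizer ((P ⊔ (L ⊓ centralizer (U : Set G)) : Subgroup G) : Set G) := fun U hU hn' => by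
      have e : P ⊔ (L ⊓ centralizer (U : Set G)) =
          (P ⊔ (L ⊓ centralizer ((V ⊔ W : Subgroup G) : Set G))) ⊔
            (L ⊓ centralizer (U : Set G)) := by
        rw [sup_assoc, sup_eq_right.2 (inf_le_inf_left L (centralizer_le hU))]
      rw [e]
      exact le_normalizer_sup hn (le_normalizer_inf_centralizer hn')
    exact hcent (hV4 P hP hPL (key V le_sup_left hV2)) (hW4 P hP hPL (key W le_sup_right hW2))

omit [Finite G] [Fact p.Prime] in
theorem isElementaryAbelian_subgroupOf_iff {L V : Subgroup G} (hVL : V ≤ L) :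
    IsElementaryAbelian p (V.subgroupOf L) ↔ IsElementaryAbelian p V := by
  constructor
  · rintro ⟨h1, h2⟩
    refine ⟨le_centralizer_iff_isMulCommutative.1 fun a ha b hb => ?_, fun a ha => ?_⟩
    · exact congrArg Subtype.val
        ((le_centralizer_iff_isMulCommutative.2 h1) (x := ⟨a, hVL ha⟩) ha ⟨b, hVL hb⟩ hb)
    · simpa using congrArg Subtype.val (h2 ⟨a, hVL ha⟩ ha)
  · rintro ⟨h1, h2⟩
    refine ⟨le_centralizer_iff_isMulCommutative.1 fun a ha b hb => Subtype.ext ?_,
      fun a ha => Subtype.ext (h2 _ ha)⟩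
    exact (le_centralizer_iff_isMulCommutative.2 h1) ha _ hb

omit [Finite G] [Fact p.Prime] in
theorem centralizer_subgroupOf {L V : Subgroup G} (hVL : V ≤ L) :
    centralizer ((V.subgroupOf L : Subgroup ↥L) : Set ↥L) =
      (L ⊓ centralizer (V : Set G)).subgroupOf L := by
  ext x
  constructor
  · intro hx
    exact ⟨x.2, fun v hv => congrArg Subtype.val (hx ⟨v, hVL hv⟩ hv)⟩
  · rintro ⟨-, hx⟩ v hv
    exact Subtype.ext (hx _ hv)

theorem red_iff {L V : Subgroup G} (hVL : V ≤ L) :
    IsPReducedNormal p (V.subgroupOf L) ↔ Red p L V := by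
  constructor
  · rintro ⟨hn, hel, hCn, hcore⟩
    have hN : L ≤ normalizer (V : Set G) := fun l hl => mem_normalizer_of_conj_mem fun v hv =>
      hn.conj_mem ⟨v, hVL hv⟩ hv ⟨l, hl⟩
    refine ⟨hVL, hN, (isElementaryAbelian_subgroupOf_iff hVL).1 hel, fun P hP hPL hPn => ?_⟩
    set f := QuotientGroup.mk' (centralizer ((V.subgroupOf L : Subgroup ↥L) : Set ↥L)) with hf
    have hsupn : ((P ⊔ (L ⊓ centralizer (V : Set G))).subgroupOf L).Normal :=
      ⟨fun a ha b => mem_subgroupOf.2 (conj_mem_of_normalizer (hPn b.2) ha)⟩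
    have h1 : ((P ⊔ (L ⊓ centralizer (V : Set G))).subgroupOf L).map f = (P.subgroupOf L).map f := by
      rw [subgroupOf_sup hPL inf_le_left, Subgroup.map_sup, ← centralizer_subgroupOf hVL,
        QuotientGroup.map_mk'_self, sup_bot_eq]
    have h2 : (P.subgroupOf L).map f ≤ pCore p _ :=
      PCore.le_pCore (h1 ▸ hsupn.map f (QuotientGroup.mk'_surjective _))
        ((hP.comap_of_injective _ L.subtype_injective).map f)
    rw [hcore, le_bot_iff, Subgroup.map_eq_bot_iff, QuotientGroup.ker_mk'] at h2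
    intro x hx v hv
    exact congrArg Subtype.val (h2 (x := ⟨x, hPL hx⟩) hx ⟨v, hVL hv⟩ hv)
  · rintro ⟨-, hN, hel, hred⟩
    have hn : (V.subgroupOf L).Normal := ⟨fun a ha b => mem_subgroupOf.2 (conj_mem_of_normalizer (hN b.2) ha)⟩
    refine ⟨hn, (isElementaryAbelian_subgroupOf_iff hVL).2 hel, inferInstance, ?_⟩
    set f := QuotientGroup.mk' (centralizer ((V.subgroupOf L : Subgroup ↥L) : Set ↥L)) with hf
    set C := centralizer ((V.subgroupOf L : Subgroup ↥L) : Set ↥L) with hC
    set K := (pCore p _).comap f with hK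
    have hCK : C ≤ K := fun x hx => by
      rw [hK, Subgroup.mem_comap, hf, QuotientGroup.mk'_apply, (QuotientGroup.eq_one_iff x).2 hx]
      exact one_mem _
    obtain ⟨S⟩ := (inferInstance : Nonempty (Sylow p ↥K))
    have hcov : (S : Subgroup ↥K).map K.subtype ⊔ C = K := by
      have hidx : (C.subgroupOf K).index = Nat.card (pCore p (↥L ⧸ C)) := by
        have h1 := (C.subgroupOf K).card_mul_index
        rw [Nat.card_congr (Subgroup.subgroupOfEquivOfLe hCK).toEquiv, hK, hf,
          PCore.card_comap_mk'] at h1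
        exact Nat.eq_of_mul_eq_mul_left Nat.card_pos h1
      obtain ⟨n, hn⟩ := IsPGroup.iff_card.1 (PCore.pCore_isPGroup (p := p) (G := ↥L ⧸ C))
      obtain ⟨m, -, hm⟩ := (Nat.dvd_prime_pow (Fact.out : p.Prime)).1 (hn ▸ hidx ▸
        index_dvd_of_le (le_sup_right : C.subgroupOf K ≤ (S : Subgroup ↥K) ⊔ C.subgroupOf K))
      have h0 : m = 0 := by
        by_contra hm0
        exact S.not_dvd_index ((hm ▸ dvd_pow_self p hm0).trans
          (index_dvd_of_le (le_sup_left : (S : Subgroup ↥K) ≤ (S : Subgroup ↥K) ⊔ C.subgroupOf K)))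
      rw [h0, pow_zero, index_eq_one] at hm
      have h2 := congrArg (Subgroup.map K.subtype) hm
      rwa [Subgroup.map_sup, subgroupOf_map_subtype, inf_eq_left.2 hCK, ← MonoidHom.range_eq_map,
        range_subtype] at h2
    set P := ((S : Subgroup ↥K).map K.subtype).map L.subtype with hP
    have hPL : P ≤ L := map_subtype_le _
    have hKeq : K = P.subgroupOf L ⊔ (L ⊓ centralizer (V : Set G)).subgroupOf L := by
      rw [← centralizer_subgroupOf hVL, hP, subgroupOf,
        comap_map_eq_self_of_injective L.subtype_injective]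
      exact hcov.symm
    have hPn : L ≤ normalizer ((P ⊔ (L ⊓ centralizer (V : Set G)) : Subgroup G) : Set G) := by
      intro l hl
      refine mem_normalizer_of_conj_mem fun x hx => ?_
      have hxL : x ∈ L := (sup_le hPL inf_le_left) hx
      have hKn : K.Normal := (pCore_normal p _).comap f
      have h4 := hKn.conj_mem ⟨x, hxL⟩ (by rw [hKeq, ← subgroupOf_sup hPL inf_le_left]; exact hx) ⟨l, hl⟩
      rw [hKeq, ← subgroupOf_sup hPL inf_le_left] at h4
      exact h4
    have hPC := hred P ((S.2.map _).map _) hPL hPn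
    rw [← map_comap_eq_self_of_surjective (QuotientGroup.mk'_surjective C) (pCore p (↥L ⧸ C)),
      Subgroup.map_eq_bot_iff, QuotientGroup.ker_mk']
    change K ≤ C
    rw [← hcov]
    refine sup_le ?_ le_rfl
    intro x hx v hv
    exact Subtype.ext (hPC ⟨x, hx, rfl⟩ (v : G) hv)

omit [Finite G] [Fact p.Prime] in
theorem red_bot [Finite G] (L : Subgroup G) : Red p L ⊥ := by
  refine ⟨bot_le, by rw [normalizer_eq_top]; exact le_top, ⟨inferInstance, fun a ha => ?_⟩,
    fun P _ _ _ => le_centralizer_iff.1 bot_le⟩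
  rw [mem_bot] at ha; rw [ha, one_pow]

theorem red_largest (L : Subgroup G) : Red p L (largestPReducedOf p L) := by
  classical
  obtain ⟨V, hV, hmax⟩ := Set.exists_max_image {V : Subgroup G | Red p L V} (fun V => Nat.card V)
    (Set.toFinite _) ⟨⊥, red_bot L⟩
  suffices largestPReducedOf p L = V by rw [this]; exact hV
  have hge : V ≤ largestPReducedOf p L := by
    intro x hx
    exact ⟨⟨x, hV.1 hx⟩, le_sSup (show V.subgroupOf L ∈ _ from (red_iff hV.1).2 hV) hx, rfl⟩
  refine le_antisymm ?_ hge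
  rw [largestPReducedOf, Subgroup.map_le_iff_le_comap]
  refine sSup_le fun W hW => Subgroup.map_le_iff_le_comap.1 ?_
  have h1 : Red p L (W.map L.subtype) := by
    rw [← red_iff (map_subtype_le _), subgroupOf, comap_map_eq_self_of_injective L.subtype_injective]
    exact hW
  have h2 := Red.sup hV h1
  calc W.map L.subtype ≤ V ⊔ W.map L.subtype := le_sup_right
    _ = V := (Subgroup.eq_of_le_of_card_ge le_sup_left (hmax _ h2)).symm

theorem red_le {L V : Subgroup G} (h : Red p L V) : V ≤ largestPReducedOf p L := fun x hx =>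
  ⟨⟨x, h.1 hx⟩, le_sSup (show V.subgroupOf L ∈ _ from (red_iff h.1).2 h) hx, rfl⟩

theorem isPGroup_largest (L : Subgroup G) : IsPGroup p (largestPReducedOf p L) :=
  isPGroup_of_elementary (red_largest L).2.2.1

/-- Transfer of `Red` to a subgroup `K` with `L C(V) = K C(V)`. -/
theorem red_transfer {T : Sylow p G} {L K V : Subgroup G} (hV : Red p L V)
    (hTL : (T : Subgroup G) ≤ L) (hVK : V ≤ K)
    (hK : L ⊔ centralizer (V : Set G) = K ⊔ centralizer (V : Set G)) : Red p K V := by
  have hLN : L ⊔ centralizer (V : Set G) ≤ normalizer (V : Set G) :=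
    sup_le hV.2.1 (centralizer_le_normalizer V)
  have hKN : K ≤ normalizer (V : Set G) := le_sup_left.trans (hK ▸ hLN)
  refine ⟨hVK, hKN, hV.2.2.1, fun P hP hPK hPn => ?_⟩
  set C := centralizer (V : Set G) with hC
  set M := L ⊔ C with hM
  set W := P ⊔ C with hW
  have hMC : M ≤ normalizer (C : Set G) := hLN.trans (normalizer_le_normalizer_centralizer _)
  have hMW : M ≤ normalizer (W : Set G) := by
    have e : W = (P ⊔ (K ⊓ C)) ⊔ C := by rw [sup_assoc, sup_eq_right.2 (inf_le_right : K ⊓ C ≤ C)]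
    rw [hK]
    refine sup_le ?_ (le_sup_right.trans le_normalizer)
    rw [e]
    exact le_normalizer_sup hPn (le_sup_left.trans (hK ▸ hMC))
  have hWM : W ≤ M := by rw [hK]; exact sup_le_sup_right hPK C
  have e2 := eq_inf_sup (T := T) (hTL.trans le_sup_left) hWM hMW hMC hP rfl
  set A := (T : Subgroup G) ⊓ W with hA
  have hAC : A ≤ C := by
    refine hV.2.2.2 A T.2.to_inf_left (inf_le_left.trans hTL) ?_
    have e3 : A ⊔ (L ⊓ C) = L ⊓ W := by
      refine le_antisymm (sup_le (le_inf (inf_le_left.trans hTL) inf_le_right)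
        (inf_le_inf_left L le_sup_right)) fun x hx => ?_
      have hx' : x ∈ (↑(A ⊔ C) : Set G) := by rw [← e2]; exact hx.2
      rw [coe_mul_of_left_le_normalizer_right A C
        ((inf_le_right : A ≤ W).trans (hWM.trans hMC))] at hx'
      obtain ⟨a, ha, c, hc, rfl⟩ := hx'
      refine mul_mem ((le_sup_left : A ≤ _) ha) ((le_sup_right : L ⊓ C ≤ _) ⟨?_, hc⟩)
      simpa using mul_mem (inv_mem (hTL ha.1)) hx.1
    rw [e3]
    exact (le_inf le_normalizer (le_sup_left.trans hMW)).trans normalizer_le_normalizer_inf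
  calc P ≤ W := le_sup_left
    _ = A ⊔ C := e2
    _ ≤ C := sup_le hAC le_rfl

/-! ### Members of `𝓛` containing a Sylow subgroup -/

omit [Finite G] [Fact p.Prime] in
theorem charP_mem_iff {L : Subgroup G} :
    L ∈ charPSubgroups p G ↔
      pCoreOf p L ≠ ⊥ ∧ centralizer (pCoreOf p L : Set G) ≤ pCoreOf p L := by
  refine and_congr (not_congr ?_) Iff.rfl
  exact (Subgroup.map_eq_bot_iff_of_injective _ L.subtype_injective).symm

theorem pCoreOf_le_sylow {T : Sylow p G} {L : Subgroup G} (hTL : (T : Subgroup G) ≤ L) :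
    pCoreOf p L ≤ (T : Subgroup G) :=
  le_sup_right.trans_eq (T.3
    (isPGroup_sup T.2 (isPGroup_pCoreOf L) (hTL.trans (le_normalizer_pCoreOf L))) le_sup_left)

theorem pCoreOf_le_pCoreOf {T : Sylow p G} {L K : Subgroup G} (hTK : (T : Subgroup G) ≤ K)
    (hKL : K ≤ L) : pCoreOf p L ≤ pCoreOf p K :=
  le_pCoreOf ((pCoreOf_le_sylow (hTK.trans hKL)).trans hTK)
    (hKL.trans (le_normalizer_pCoreOf L)) (isPGroup_pCoreOf L)

theorem charP_mem_of_le {T : Sylow p G} {L K : Subgroup G} (hL : L ∈ charPSubgroups p G)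
    (hTK : (T : Subgroup G) ≤ K) (hKL : K ≤ L) : K ∈ charPSubgroups p G := by
  rw [charP_mem_iff] at hL ⊢
  have h := pCoreOf_le_pCoreOf hTK hKL
  exact ⟨fun e => hL.1 (le_bot_iff.1 (e ▸ h)), (centralizer_le h).trans (hL.2.trans h)⟩

theorem largest_le_pCoreOf (L : Subgroup G) : largestPReducedOf p L ≤ pCoreOf p L :=
  le_pCoreOf (red_largest L).1 (red_largest L).2.1 (isPGroup_largest L)

theorem pCoreOf_le_centralizer_largest (L : Subgroup G) :
    pCoreOf p L ≤ centralizer (largestPReducedOf p L : Set G) :=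
  (red_largest L).le_centralizer (isPGroup_pCoreOf L) (pCoreOf_le L) (le_normalizer_pCoreOf L)

theorem largest_mono {T : Sylow p G} {L M : Subgroup G} (hTL : (T : Subgroup G) ≤ L) (hLM : L ≤ M)
    (hM : M ∈ charPSubgroups p G) : largestPReducedOf p L ≤ largestPReducedOf p M := by
  set Y := largestPReducedOf p L with hY
  set R := pCoreOf p M with hR
  have hYR : Y ≤ centreP p R := by
    have h1 : Y ≤ centralizer (R : Set G) := le_centralizer_iff.1
      ((pCoreOf_le_pCoreOf hTL hLM).trans (pCoreOf_le_centralizer_largest L))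
    exact fun y hy => ⟨⟨(charP_mem_iff.1 hM).2 (h1 hy), h1 hy⟩, (red_largest L).2.2.1.2 y hy⟩
  set V : Subgroup G := ⨆ m : ↥M, Y.map (MulAut.conj (m : G)).toMonoidHom with hV
  have hVR : V ≤ centreP p R := iSup_le fun m =>
    (map_mono hYR).trans_eq (cj_eq_of_mem_normalizer
      (normalizer_le_normalizer_centreP R (le_normalizer_pCoreOf M m.2)))
  have hYV : Y ≤ V := le_iSup_of_le (1 : ↥M) (by rw [OneMemClass.coe_one, cj_one])
  have hMV : M ≤ normalizer (V : Set G) := by
    intro m hm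
    refine mem_normalizer_of_conj_mem (cj_le_iff.1 ?_)
    simp only [hV, Subgroup.map_iSup, cj_cj]
    exact iSup_le fun n => le_iSup_of_le ⟨m * n, mul_mem hm n.2⟩ le_rfl
  suffices Red p M V from hYV.trans (red_le this)
  refine ⟨hVR.trans ((centreP_le R).trans (pCoreOf_le M)), hMV,
    isElementaryAbelian_of_le_centreP hVR, fun P hP hPM hPn => ?_⟩
  set C := M ⊓ centralizer (V : Set G) with hC
  set K := P ⊔ C with hK
  have hKM : K ≤ M := sup_le hPM inf_le_left
  have e2 := eq_inf_sup (T := T) (hTL.trans hLM) hKM hPn (le_normalizer_inf_centralizer hMV) hP rfl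
  set A := (T : Subgroup G) ⊓ K with hA
  have hCY : C ≤ centralizer (Y : Set G) := inf_le_right.trans (centralizer_le hYV)
  have hAY : A ≤ centralizer (Y : Set G) := by
    refine (red_largest L).2.2.2 A T.2.to_inf_left (inf_le_left.trans hTL) ?_
    have e3 : A ⊔ (L ⊓ centralizer (Y : Set G)) = (L ⊓ K) ⊔ (L ⊓ centralizer (Y : Set G)) := by
      refine le_antisymm (sup_le_sup_right (le_inf (inf_le_left.trans hTL) inf_le_right) _)
        (sup_le ?_ le_sup_right)
      intro x hx
      have hx' : x ∈ (↑(A ⊔ C) : Set G) := by rw [← e2]; exact hx.2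
      rw [coe_mul_of_left_le_normalizer_right A C
        ((inf_le_left : A ≤ _).trans ((hTL.trans hLM).trans (le_normalizer_inf_centralizer hMV)))] at hx'
      obtain ⟨a, ha, c, hc, rfl⟩ := hx'
      refine mul_mem ((le_sup_left : A ≤ _) ha) ((le_sup_right : L ⊓ _ ≤ _) ⟨?_, hCY hc⟩)
      simpa using mul_mem (inv_mem (hTL ha.1)) hx.1
    rw [e3]
    exact le_normalizer_sup ((le_inf le_normalizer (hLM.trans hPn)).trans normalizer_le_normalizer_inf)
      (le_normalizer_inf_centralizer (red_largest L).2.1)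
  have hKY : K ≤ centralizer (Y : Set G) := e2 ▸ sup_le hAY hCY
  intro x hx
  have hxK : x ∈ K := (le_sup_left : P ≤ K) hx
  refine (le_centralizer_iff.1 ?_ : K ≤ centralizer (V : Set G)) hxK
  refine iSup_le fun m => le_centralizer_iff.1 ?_
  rw [centralizer_cj]
  calc K = K.map (MulAut.conj (m : G)).toMonoidHom := (cj_eq_of_mem_normalizer (hPn m.2)).symm
    _ ≤ _ := map_mono hKY

/-- `Y_L = Ω₁(Z(T ∩ C(Y_L)))` for `T ≤ L ∈ 𝓛`. -/
theorem largest_eq_centreP {T : Sylow p G} {L : Subgroup G} (hTL : (T : Subgroup G) ≤ L)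
    (hL : L ∈ charPSubgroups p G) :
    largestPReducedOf p L =
      centreP p ((T : Subgroup G) ⊓ centralizer (largestPReducedOf p L : Set G)) := by
  set Y := largestPReducedOf p L with hY
  set C := L ⊓ centralizer (Y : Set G) with hC
  set T0 := (T : Subgroup G) ⊓ centralizer (Y : Set G) with hT0
  have eT : (T : Subgroup G) ⊓ C = T0 := by rw [hC, ← inf_assoc, inf_eq_left.2 hTL]
  have hRed : Red p L Y := red_largest L
  have hLC : L ≤ normalizer (C : Set G) := le_normalizer_inf_centralizer hRed.2.1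
  have hle : Y ≤ centreP p T0 := fun y hy =>
    ⟨⟨⟨pCoreOf_le_sylow hTL (largest_le_pCoreOf L hy), le_centralizer_of_elementary hRed.2.2.1 hy⟩,
      fun t ht => (ht.2 y hy).symm⟩, hRed.2.2.1.2 y hy⟩
  refine le_antisymm hle ?_
  set N := L ⊓ normalizer (T0 : Set G) with hN
  have hTN : (T : Subgroup G) ≤ N :=
    le_inf hTL (eT ▸ sylow_le_normalizer_inf (hTL.trans hLC))
  have hfr : N ⊔ C = L := by
    have := frattini_sup (T := T) hTL inf_le_left hLC
    rwa [eT] at this
  suffices Red p N (centreP p T0) from (red_le this).trans (largest_mono hTN inf_le_left hL)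
  refine ⟨(centreP_le T0).trans (inf_le_left.trans hTN),
    inf_le_right.trans (normalizer_le_normalizer_centreP T0),
    isElementaryAbelian_of_le_centreP le_rfl, fun P hP hPN hPn => ?_⟩
  have hsub : N ⊓ centralizer (centreP p T0 : Set G) ≤ C :=
    le_inf (inf_le_left.trans inf_le_left) (inf_le_right.trans (centralizer_le hle))
  have hPY : P ≤ centralizer (Y : Set G) := by
    refine hRed.2.2.2 P hP (hPN.trans inf_le_left) ?_
    rw [← hC]
    conv_lhs => rw [← hfr]
    refine sup_le ?_ (le_sup_right.trans le_normalizer)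
    have e : P ⊔ C = (P ⊔ (N ⊓ centralizer (centreP p T0 : Set G))) ⊔ C := by
      rw [sup_assoc, sup_eq_right.2 hsub]
    rw [e]
    exact le_normalizer_sup hPn (inf_le_left.trans hLC)
  have hPT : P ≤ T0 := by
    have h1 := eq_inf_sylow (T := T) hTL (inf_le_left : C ≤ L) hLC
      (isPGroup_sup hP (T.2.to_inf_left : IsPGroup p T0) (hPN.trans inf_le_right))
      (sup_le (le_inf (hPN.trans inf_le_left) hPY) (le_inf (inf_le_left.trans hTL) inf_le_right))
      (eT.le.trans le_sup_right)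
    exact le_sup_left.trans_eq (h1.trans eT)
  exact hPT.trans (le_centralizer_iff.1 (centreP_le_centralizer T0))

theorem largest_ne_bot {T : Sylow p G} {L : Subgroup G} (hTL : (T : Subgroup G) ≤ L)
    (hL : L ∈ charPSubgroups p G) : largestPReducedOf p L ≠ ⊥ := by
  rw [largest_eq_centreP hTL hL]
  refine centreP_ne_bot T.2.to_inf_left fun e => (charP_mem_iff.1 hL).1 ?_
  exact le_bot_iff.1 (e ▸ le_inf (pCoreOf_le_sylow hTL) (pCoreOf_le_centralizer_largest L))

/-- In parabolic characteristic `p`, `N(Y_L)` lies in `𝓛`. -/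
theorem normalizer_largest_mem {T : Sylow p G} {L : Subgroup G}
    (hG : IsOfParabolicCharacteristic p G) (hTL : (T : Subgroup G) ≤ L)
    (hL : L ∈ charPSubgroups p G) :
    normalizer (largestPReducedOf p L : Set G) ∈ charPSubgroups p G := by
  set Y := largestPReducedOf p L with hY
  have hYO : Y ≤ pCoreOf p (normalizer (Y : Set G)) :=
    le_pCoreOf le_normalizer le_rfl (isPGroup_largest L)
  have hY1 := largest_ne_bot hTL hL
  rw [charP_mem_iff]
  refine ⟨fun e => hY1 (le_bot_iff.1 (e ▸ hYO)), ?_⟩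
  have h := (charP_iff _).1 (hG Y (isPGroup_largest L) hY1 ⟨T, hTL.trans (red_largest L).2.1⟩)
  exact (le_inf ((centralizer_le hYO).trans (centralizer_le_normalizer Y)) le_rfl).trans h

theorem sup_centralizer_mem {T : Sylow p G} {L : Subgroup G}
    (hG : IsOfParabolicCharacteristic p G) (hTL : (T : Subgroup G) ≤ L)
    (hL : L ∈ charPSubgroups p G) :
    L ⊔ centralizer (largestPReducedOf p L : Set G) ∈ charPSubgroups p G :=
  charP_mem_of_le (normalizer_largest_mem hG hTL hL) (hTL.trans le_sup_left)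
    (sup_le (red_largest L).2.1 (centralizer_le_normalizer _))

/-! ### Members of `𝔐` -/

theorem frakM_normalizer {T : Sylow p G} {M : Subgroup G} (hG : IsOfParabolicCharacteristic p G)
    (hTM : (T : Subgroup G) ≤ M) (hM : IsInFrakM p M) :
    normalizer (largestPReducedOf p M : Set G) =
      M ⊔ centralizer (largestPReducedOf p M : Set G) :=
  hM.2.1.2 _ (normalizer_largest_mem hG hTM hM.1)
    (sup_le (red_largest M).2.1 (centralizer_le_normalizer _))

theorem frakM_pCoreOf {T : Sylow p G} {M : Subgroup G} (hTM : (T : Subgroup G) ≤ M)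
    (hM : IsInFrakM p M) :
    pCoreOf p M = (T : Subgroup G) ⊓ centralizer (largestPReducedOf p M : Set G) := by
  set Y := largestPReducedOf p M with hY
  set C := M ⊓ centralizer (Y : Set G) with hC
  have hMC : M ≤ normalizer (C : Set G) := le_normalizer_inf_centralizer (red_largest M).2.1
  refine le_antisymm (le_inf (pCoreOf_le_sylow hTM) (pCoreOf_le_centralizer_largest M)) ?_
  obtain ⟨S⟩ := (inferInstance : Nonempty (Sylow p ↥C))
  have hSn : (S : Subgroup ↥C).Normal := hM.2.2.2.2.1 S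
  have hS1 : (S : Subgroup ↥C) ≤ pCore p ↥C := PCore.le_pCore hSn S.2
  have h2 : (T : Subgroup G) ⊓ C ≤ pCoreOf p C := by
    have h3 : ((T : Subgroup G) ⊓ C).subgroupOf C ≤ (S : Subgroup ↥C) := by
      have := hSn
      exact le_sup_right.trans_eq (S.3 (IsPGroup.to_sup_of_normal_left S.2
        ((T.2.to_inf_left).comap_of_injective _ C.subtype_injective)) le_sup_left)
    exact fun x hx => ⟨⟨x, hx.2⟩, hS1 (h3 hx), rfl⟩
  have e : (T : Subgroup G) ⊓ C = (T : Subgroup G) ⊓ centralizer (Y : Set G) := by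
    rw [hC, ← inf_assoc, inf_eq_left.2 hTM]
  rw [← e]
  exact h2.trans (le_pCoreOf ((pCoreOf_le C).trans inf_le_left)
    (hMC.trans (normalizer_le_normalizer_pCoreOf C)) (isPGroup_pCoreOf C))

theorem frakM_largest {T : Sylow p G} {M : Subgroup G} (hTM : (T : Subgroup G) ≤ M)
    (hM : IsInFrakM p M) : largestPReducedOf p M = centreP p (pCoreOf p M) := by
  rw [frakM_pCoreOf hTM hM]
  exact largest_eq_centreP hTM hM.1

theorem frakM_normalizer_pCoreOf_le {T : Sylow p G} {M : Subgroup G}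
    (hTM : (T : Subgroup G) ≤ M) (hM : IsInFrakM p M) :
    normalizer (pCoreOf p M : Set G) ≤ normalizer (largestPReducedOf p M : Set G) := by
  rw [frakM_largest hTM hM]
  exact normalizer_le_normalizer_centreP _

/-- `O_p(M)` is a Sylow subgroup of `C(Y_M)`: a `p`-subgroup of `C(Y_M)` containing it equals it. -/
theorem frakM_eq_pCoreOf {T : Sylow p G} {M P : Subgroup G} (hTM : (T : Subgroup G) ≤ M)
    (hM : IsInFrakM p M) (hP : IsPGroup p P)
    (hPY : P ≤ centralizer (largestPReducedOf p M : Set G)) (hMP : pCoreOf p M ≤ P) :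
    P = pCoreOf p M := by
  have h := eq_inf_sylow (T := T) (hTM.trans (red_largest M).2.1) (centralizer_le_normalizer _)
    (normalizer_le_normalizer_centralizer (largestPReducedOf p M)) hP hPY
    ((frakM_pCoreOf hTM hM).ge.trans hMP)
  rw [h, frakM_pCoreOf hTM hM]

end CfsgLib.Large
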