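import Cfsg.Agent.Lib.Large.FrakLModel
import Cfsg.Agent.Lib.Large.FrakM
import Cfsg.Agent.Lib.PCore.Basic

/-!
Members of `𝔏_G(Y_M)`: the module `O_p(L)/(Y_M ∩ C(L))` (helper62).
-/

set_option autoImplicit false

namespace CfsgLib.Large.FrakL

open Cfsg Subgroup

variable {p : ℕ} [hp : Fact p.Prime] {L : Type*} [Group L] [Finite L]

/-- the data carried by a member of `𝔏_G(Y_M)` -/
structure Data (p : ℕ) (Y : Subgroup L) : Prop where
  comm : ∀ a ∈ Y, ∀ b ∈ Y, a * b = b * a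
  exp : ∀ a ∈ Y, a ^ p = 1
  norm : pCore p L ≤ normalizer (Y : Set L)
  clos : pCore p L = normalClosure ((Y ⊓ pCore p L : Subgroup L) : Set L)
  gen : normalClosure (Y : Set L) = ⊤
  maxSub : ∀ X : Subgroup L, Y ≤ X → X ≠ ⊤ → X ≤ normalizer (Y : Set L)
  proper : normalizer (Y : Set L) ≠ ⊤
  charP : centralizer (pCore p L : Set L) ≤ pCore p L
  good : Good p (Y.map (QuotientGroup.mk' (pCore p L)))

variable {Y : Subgroup L}

instance normal_inf_center (Y : Subgroup L) : (Y ⊓ center L).Normal :=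
  ⟨fun c hc g => by rw [mem_center_iff.1 (Subgroup.mem_inf.1 hc).2 g, mul_inv_cancel_right]; exact hc⟩

omit hp [Finite L] in
theorem inv_conj_pow (g y : L) (n : ℕ) : (g⁻¹ * y * g) ^ n = g⁻¹ * y ^ n * g := by
  simpa using conj_pow (i := n) (a := g⁻¹) (b := y)

/-- conjugate of `Y` -/
abbrev cY (Y : Subgroup L) (g : L) : Subgroup L := Y.map (MulAut.conj g).toMonoidHom

/-- image in `L / O_p(L)` -/
abbrev bar (p : ℕ) (X : Subgroup L) : Subgroup (L ⧸ pCore p L) :=
  X.map (QuotientGroup.mk' (pCore p L))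

omit hp in
theorem center_le_cY {x : L} (hx : x ∈ Y ⊓ center L) (g : L) : x ∈ cY Y g := by
  refine ⟨x, hx.1, ?_⟩
  show g * x * g⁻¹ = x
  rw [mem_center_iff.1 hx.2 g, mul_inv_cancel_right]

omit hp in
theorem mem_pCore_iff (x : L) : x ∈ pCore p L ↔ QuotientGroup.mk' (pCore p L) x = 1 :=
  (QuotientGroup.eq_one_iff x).symm

omit hp in
theorem card_bar_cY (g : L) : Nat.card (bar p (cY Y g)) = Nat.card (bar p Y) := by
  rw [show bar p (cY Y g) = (bar p Y).map
      (MulAut.conj (QuotientGroup.mk' (pCore p L) g)).toMonoidHom by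
    rw [bar, bar, cY, map_map, map_map]
    congr 1]
  exact card_map_of_injective (MulAut.conj _).injective

theorem Data.exists_bar_ne (h : Data p Y) : ∃ g : L, bar p (cY Y g) ≠ bar p Y := by
  by_contra hc
  push Not at hc
  have h1 : normalClosure (Y : Set L) ≤ Y ⊔ pCore p L := by
    rw [normalClosure, closure_le]
    intro x hx
    obtain ⟨y, hy, hxy⟩ := Group.mem_conjugatesOfSet_iff.1 hx
    obtain ⟨g, rfl⟩ := isConj_iff.1 hxy
    have h2 : QuotientGroup.mk' (pCore p L) (g * y * g⁻¹) ∈ bar p Y :=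
      (hc g).le ⟨_, ⟨y, hy, rfl⟩, rfl⟩
    rw [← mem_comap, comap_map_eq, QuotientGroup.ker_mk'] at h2
    exact h2
  rw [h.gen] at h1
  exact h.proper (eq_top_iff.2 (h1.trans (sup_le le_normalizer h.norm)))

theorem Data.mk_normalizer_ne (h : Data p Y) :
    normalizer (bar p Y : Set (L ⧸ pCore p L)) ≠ ⊤ := by
  intro e
  obtain ⟨g, hg⟩ := h.exists_bar_ne
  refine hg ?_
  rw [show bar p (cY Y g) = (bar p Y).map
      (MulAut.conj (QuotientGroup.mk' (pCore p L) g)).toMonoidHom by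
    rw [bar, bar, cY, map_map, map_map]
    congr 1]
  exact cj_eq_of_mem_normalizer (e ▸ mem_top _)

theorem Data.mk_ne (h : Data p Y) : bar p Y ≠ ⊥ := fun e => h.mk_normalizer_ne (by
  have hn : (bar p Y).Normal := by rw [e]; infer_instance
  exact normalizer_eq_top_iff.2 hn)

theorem Data.mem_bar (h : Data p Y) {x : L} (hx : x ∈ normalizer (Y : Set L))
    (hxp : QuotientGroup.mk' (pCore p L) x ^ p = 1) :
    QuotientGroup.mk' (pCore p L) x ∈ bar p Y :=
  h.good.max _ hxp (le_normalizer_map _ ⟨x, hx, rfl⟩)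

theorem Data.sup_eq_top (h : Data p Y) {g : L} (hg : bar p (cY Y g) ≠ bar p Y) :
    Y ⊔ cY Y g = ⊤ := by
  by_contra hne
  refine hg (Subgroup.eq_of_le_of_card_ge ?_ (card_bar_cY g).ge)
  rintro _ ⟨x, hx, rfl⟩
  refine h.mem_bar (h.maxSub _ le_sup_left hne ((le_sup_right : cY Y g ≤ _) hx)) ?_
  obtain ⟨y, hy, rfl⟩ := hx
  rw [← map_pow, ← map_pow, h.exp y hy, map_one, map_one]

theorem Data.cY_comm (h : Data p Y) {g a b : L} (ha : a ∈ cY Y g) (hb : b ∈ cY Y g) :
    a * b = b * a := by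
  obtain ⟨a, ha, rfl⟩ := ha
  obtain ⟨b, hb, rfl⟩ := hb
  rw [← map_mul, ← map_mul, h.comm a ha b hb]

theorem Data.sup_cY_eq_top (h : Data p Y) {g g' : L} (hg : bar p (cY Y g) ≠ bar p (cY Y g')) :
    cY Y g ⊔ cY Y g' = ⊤ := by
  have h1 := h.sup_eq_top (g := g⁻¹ * g') (fun e => hg (by
    have e2 := congrArg
      (Subgroup.map (MulAut.conj (QuotientGroup.mk' (pCore p L) g)).toMonoidHom) e
    simp only [bar, cY, map_map] at e2 ⊢
    refine Eq.trans ?_ (e2.symm.trans ?_) <;>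
      (congr 1 <;> ext x <;> simp [mul_assoc])))
  have h2 := congrArg (Subgroup.map (MulAut.conj g).toMonoidHom) h1
  rw [Subgroup.map_sup, map_top_of_surjective _ (MulAut.conj g).surjective] at h2
  rw [← h2, cY, cY, cY, cj_cj, mul_inv_cancel_left]

theorem Data.inf_le_center (h : Data p Y) {g g' : L} (hgg : cY Y g ⊔ cY Y g' = ⊤) :
    cY Y g ⊓ cY Y g' ≤ Y ⊓ center L := by
  intro x hx
  have hc : x ∈ center L := by
    have h1 : cY Y g ⊔ cY Y g' ≤ centralizer {x} :=
      sup_le (fun y hy => mem_centralizer_singleton_iff.2 (h.cY_comm hy hx.1))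
        (fun y hy => mem_centralizer_singleton_iff.2 (h.cY_comm hy hx.2))
    rw [mem_center_iff]
    intro y
    exact mem_centralizer_singleton_iff.1 (h1 (hgg.ge (mem_top y)))
  refine ⟨?_, hc⟩
  obtain ⟨y, hy, hyx⟩ := hx.1
  have e : y = x := by
    have e1 : g * y * g⁻¹ = x := hyx
    calc y = g⁻¹ * x * g := by rw [← e1]; group
      _ = x := by rw [mul_assoc, ← mem_center_iff.1 hc g, inv_mul_cancel_left]
  rwa [← e]

theorem Data.center_le (h : Data p Y) : Y ⊓ center L ≤ pCore p L :=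
  inf_le_right.trans ((center_le_centralizer _).trans h.charP)

theorem Data.comm_mem (h : Data p Y) {g y a : L} (hy : y ∈ cY Y g) (ha : a ∈ pCore p L) :
    y * a * y⁻¹ * a⁻¹ ∈ cY Y g ⊓ pCore p L := by
  haveI : (pCore p L).Normal := inferInstance
  refine Subgroup.mem_inf.2 ⟨?_, mul_mem (‹(pCore p L).Normal›.conj_mem a ha y) (inv_mem ha)⟩
  obtain ⟨y, hy', rfl⟩ := hy
  have ha' : g⁻¹ * a * g ∈ normalizer (Y : Set L) :=
    h.norm (by simpa using ‹(pCore p L).Normal›.conj_mem a ha g⁻¹)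
  refine ⟨y * (g⁻¹ * a * g * y⁻¹ * (g⁻¹ * a * g)⁻¹),
    mul_mem hy' (conj_mem_of_normalizer ha' (inv_mem hy')), ?_⟩
  show g * _ * g⁻¹ = g * y * g⁻¹ * a * (g * y * g⁻¹)⁻¹ * a⁻¹
  group

/-- `O_p(L)` is the product of its intersections with two conjugates generating `L` -/
theorem Data.pCore_eq (h : Data p Y) {g : L} (hg : Y ⊔ cY Y g = ⊤) :
    (Y ⊓ pCore p L) ⊔ (cY Y g ⊓ pCore p L) = pCore p L := by
  set D := (Y ⊓ pCore p L) ⊔ (cY Y g ⊓ pCore p L) with hD
  have hDA : D ≤ pCore p L := sup_le inf_le_right inf_le_right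
  have hY1 : cY Y 1 = Y := cj_one Y
  have hn : Y ⊔ cY Y g ≤ normalizer (D : Set L) := by
    refine sup_le (fun y hy => mem_normalizer_of_conj_mem fun d hd => ?_)
      (fun y hy => mem_normalizer_of_conj_mem fun d hd => ?_)
    · rw [show y * d * y⁻¹ = y * d * y⁻¹ * d⁻¹ * d by group]
      refine mul_mem ((le_sup_left : Y ⊓ pCore p L ≤ D) ?_) hd
      have h1 := h.comm_mem (g := 1) (hY1.symm ▸ hy) (hDA hd)
      rwa [hY1] at h1
    · rw [show y * d * y⁻¹ = y * d * y⁻¹ * d⁻¹ * d by group]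
      exact mul_mem ((le_sup_right : cY Y g ⊓ pCore p L ≤ D) (h.comm_mem hy (hDA hd))) hd
  rw [hg, top_le_iff, normalizer_eq_top_iff] at hn
  refine le_antisymm hDA ?_
  conv_lhs => rw [h.clos]
  exact normalClosure_le_normal (SetLike.coe_subset_coe.2 le_sup_left)

/-- `h` centralises `a` modulo `Y ∩ Z(L)` -/
def stab (Y : Subgroup L) (a : L) : Subgroup L :=
  (centralizer ({QuotientGroup.mk' (Y ⊓ center L) a} : Set (L ⧸ Y ⊓ center L))).comap
    (QuotientGroup.mk' (Y ⊓ center L))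

omit hp in
theorem mem_stab {a h : L} : h ∈ stab Y a ↔ h * a * h⁻¹ * a⁻¹ ∈ Y ⊓ center L := by
  rw [stab, mem_comap, mem_centralizer_singleton_iff, ← map_mul, ← map_mul,
    ← QuotientGroup.eq_one_iff (N := Y ⊓ center L)]
  show QuotientGroup.mk' (Y ⊓ center L) (h * a) = QuotientGroup.mk' (Y ⊓ center L) (a * h) ↔
    QuotientGroup.mk' (Y ⊓ center L) (h * a * h⁻¹ * a⁻¹) = 1
  rw [show h * a * h⁻¹ * a⁻¹ = h * a * (a * h)⁻¹ by group, map_mul _ (h * a), map_inv, mul_inv_eq_one]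

theorem Data.pCore_comm (h : Data p Y) {a b : L} (ha : a ∈ pCore p L) (hb : b ∈ pCore p L) :
    a ∈ stab Y b := by
  obtain ⟨g, hg⟩ := h.exists_bar_ne
  have hgen := h.sup_eq_top hg
  set B := Y ⊓ pCore p L
  set B' := cY Y g ⊓ pCore p L
  have hY1 : cY Y 1 = Y := cj_one Y
  have hBB : ∀ u ∈ B, ∀ v ∈ B', u * v * u⁻¹ * v⁻¹ ∈ Y ⊓ center L := by
    intro u hu v hv
    have h1 := h.comm_mem (g := 1) (hY1.symm ▸ hu.1) hv.2
    rw [hY1] at h1
    have h2 := inv_mem (h.comm_mem hv.1 hu.2)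
    rw [show (v * u * v⁻¹ * u⁻¹)⁻¹ = u * v * u⁻¹ * v⁻¹ by group] at h2
    exact h.inf_le_center (g := 1) (g' := g) (hY1.symm ▸ hgen) ⟨hY1.symm ▸ h1.1, h2.1⟩
  have hle : ∀ u, u ∈ B ∨ u ∈ B' → pCore p L ≤ stab Y u := by
    intro u hu
    rw [← h.pCore_eq hgen]
    rcases hu with hu | hu
    · refine sup_le (fun v hv => mem_stab.2 ?_) (fun v hv => mem_stab.2 ?_)
      · rw [h.comm v hv.1 u hu.1, mul_inv_cancel_right, mul_inv_cancel]; exact one_mem _
      · have h3 := inv_mem (hBB u hu v hv)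
        rwa [show (u * v * u⁻¹ * v⁻¹)⁻¹ = v * u * v⁻¹ * u⁻¹ by group] at h3
    · refine sup_le (fun v hv => mem_stab.2 (hBB v hv u hu)) (fun v hv => mem_stab.2 ?_)
      rw [h.cY_comm hv.1 hu.1, mul_inv_cancel_right, mul_inv_cancel]; exact one_mem _
  have hall : pCore p L ≤ (centralizer ((pCore p L).map (QuotientGroup.mk' (Y ⊓ center L)) :
      Set (L ⧸ Y ⊓ center L))).comap (QuotientGroup.mk' (Y ⊓ center L)) := by
    conv_lhs => rw [← h.pCore_eq hgen]
    refine sup_le ?_ ?_ <;> intro u hu <;> rintro _ ⟨v, hv, rfl⟩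
    · exact mem_centralizer_singleton_iff.1 (hle u (Or.inl hu) hv)
    · exact mem_centralizer_singleton_iff.1 (hle u (Or.inr hu) hv)
  exact mem_centralizer_singleton_iff.2 (hall hb _ ⟨a, ha, rfl⟩)

/-- an element of `Y ∖ O_p(L)` fixes only the part in `Y` -/
theorem Data.fix_mem (h : Data p Y) {y a : L} (hy : y ∈ Y) (hyA : y ∉ pCore p L)
    (ha : a ∈ pCore p L) (hfix : y ∈ stab Y a) : a ∈ Y := by
  obtain ⟨g, hg⟩ := h.exists_bar_ne
  have hgen := h.sup_eq_top hg
  have hnorm : Y ⊓ pCore p L ≤ normalizer ((cY Y g ⊓ pCore p L : Subgroup L) : Set L) := by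
    intro u hu
    refine mem_normalizer_of_conj_mem fun v hv => ?_
    obtain ⟨hu1, hu2⟩ := Subgroup.mem_inf.1 hu
    obtain ⟨hv1, hv2⟩ := Subgroup.mem_inf.1 hv
    refine Subgroup.mem_inf.2 ⟨?_, mul_mem (mul_mem hu2 hv2) (inv_mem hu2)⟩
    have h1 := inv_mem (Subgroup.mem_inf.1 (h.comm_mem hv1 hu2)).1
    rw [show (v * u * v⁻¹ * u⁻¹)⁻¹ = u * v * u⁻¹ * v⁻¹ by group] at h1
    have h2 := mul_mem h1 hv1
    rwa [inv_mul_cancel_right] at h2
  have ha' : a ∈ ((Y ⊓ pCore p L) ⊔ (cY Y g ⊓ pCore p L) : Subgroup L) := (h.pCore_eq hgen).ge ha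
  rw [← SetLike.mem_coe, coe_mul_of_left_le_normalizer_right _ _ hnorm] at ha'
  obtain ⟨b, hb, b', hb', rfl⟩ := ha'
  refine mul_mem hb.1 ?_
  have hyb' : y ∈ stab Y b' := by
    have h1 : y ∈ stab Y b := mem_stab.2 (by
      rw [h.comm y hy b hb.1, mul_inv_cancel_right, mul_inv_cancel]; exact one_mem _)
    rw [stab, mem_comap, mem_centralizer_singleton_iff] at h1 hfix ⊢
    rw [map_mul, ← mul_assoc, h1, mul_assoc, mul_assoc] at hfix
    exact mul_left_cancel hfix
  have htop : stab Y b' = ⊤ := by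
    by_contra hne
    set X := (cY Y g ⊔ zpowers y ⊔ pCore p L) with hX
    have hXle : X ≤ stab Y b' := sup_le (sup_le (fun z hz => mem_stab.2 (by
        rw [h.cY_comm hz hb'.1, mul_inv_cancel_right, mul_inv_cancel]; exact one_mem _))
      (zpowers_le.2 hyb')) (fun z hz => h.pCore_comm hz hb'.2)
    have hXne : X.map (MulAut.conj g⁻¹).toMonoidHom ≠ ⊤ := fun e => hne (eq_top_iff.2 (by
      have e2 := congrArg (Subgroup.map (MulAut.conj g).toMonoidHom) e
      rw [cj_cj, mul_inv_cancel, cj_one, map_top_of_surjective _ (MulAut.conj g).surjective] at e2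
      exact e2 ▸ hXle))
    have hle : Y ≤ X.map (MulAut.conj g⁻¹).toMonoidHom := by
      intro z hz
      rw [mem_cj, inv_inv]
      exact (le_sup_left.trans le_sup_left : cY Y g ≤ X) ⟨z, hz, rfl⟩
    have hyN : g⁻¹ * y * g ∈ normalizer (Y : Set L) := h.maxSub _ hle hXne (by
      rw [mem_cj]
      simpa [mul_assoc] using
        (le_sup_right.trans le_sup_left : zpowers y ≤ X) (mem_zpowers y))
    have h2 := h.mem_bar hyN (by
      rw [← map_pow, inv_conj_pow, h.exp y hy, mul_one, inv_mul_cancel, map_one])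
    -- so `y` has image in both images, hence is central mod `O_p(L)`
    have h3 : QuotientGroup.mk' (pCore p L) y ∈ bar p (cY Y g) := by
      obtain ⟨z, hz, hze⟩ := h2
      refine ⟨g * z * g⁻¹, ⟨z, hz, rfl⟩, ?_⟩
      rw [map_mul, map_mul, hze, map_mul, map_mul, map_inv]
      group
    have hc : QuotientGroup.mk' (pCore p L) y ∈ center (L ⧸ pCore p L) := by
      rw [mem_center_iff]
      intro q
      obtain ⟨z, rfl⟩ := QuotientGroup.mk'_surjective _ q
      have hz : QuotientGroup.mk' (pCore p L) z ∈ bar p Y ⊔ bar p (cY Y g) := by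
        rw [← Subgroup.map_sup, hgen]
        exact ⟨z, mem_top z, rfl⟩
      refine mem_centralizer_singleton_iff.1 ((sup_le ?_ ?_ : bar p Y ⊔ bar p (cY Y g) ≤
        centralizer {QuotientGroup.mk' (pCore p L) y}) hz)
      · rintro _ ⟨w, hw, rfl⟩
        rw [mem_centralizer_singleton_iff, ← map_mul, h.comm w hw y hy, map_mul]
      · rintro _ ⟨w, hw, rfl⟩
        obtain ⟨w', hw', hwy⟩ := h3
        rw [mem_centralizer_singleton_iff, ← hwy, ← map_mul, h.cY_comm hw hw', map_mul]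
    haveI : (zpowers (QuotientGroup.mk' (pCore p L) y)).Normal := ⟨fun c hc' q => by
      obtain ⟨i, rfl⟩ := mem_zpowers_iff.1 hc'
      rw [mem_center_iff.1 (zpow_mem hc i) q, mul_inv_cancel_right]
      exact hc'⟩
    have h4 : IsPGroup p (zpowers (QuotientGroup.mk' (pCore p L) y)) :=
      (isPGroup_of_elementary (V := bar p Y) ⟨⟨⟨by
          rintro ⟨_, a, ha, rfl⟩ ⟨_, b, hb, rfl⟩
          exact Subtype.ext (by
            show QuotientGroup.mk' _ a * QuotientGroup.mk' _ b = _ * _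
            rw [← map_mul, h.comm a ha b hb, map_mul])⟩⟩, by
          rintro _ ⟨a, ha, rfl⟩
          rw [← map_pow, h.exp a ha, map_one]⟩).to_le (zpowers_le.2 ⟨y, hy, rfl⟩)
    have h5 := CfsgLib.PCore.le_pCore ‹(zpowers (QuotientGroup.mk' (pCore p L) y)).Normal› h4
      (mem_zpowers _)
    rw [CfsgLib.PCore.pCore_quotient_pCore, mem_bot, ← mem_pCore_iff] at h5
    exact hyA h5
  have h1 := mem_stab.1 (htop.ge (mem_top g⁻¹) : g⁻¹ ∈ stab Y b')
  obtain ⟨z, hz, rfl⟩ := hb'.1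
  simp only [MulEquiv.coe_toMonoidHom, MulAut.conj_apply, inv_inv] at h1 ⊢
  rw [show g⁻¹ * (g * z * g⁻¹) * g * (g * z * g⁻¹)⁻¹ = z * (g * z * g⁻¹)⁻¹ by group] at h1
  have h3 := mul_mem (inv_mem (Subgroup.mem_inf.1 h1).1) hz
  rwa [show (z * (g * z * g⁻¹)⁻¹)⁻¹ * z = g * z * g⁻¹ by group] at h3

theorem Data.fix_mem_cY (h : Data p Y) {g y a : L} (hy : y ∈ cY Y g) (hyA : y ∉ pCore p L)
    (ha : a ∈ pCore p L) (hfix : y ∈ stab Y a) : a ∈ cY Y g := by
  haveI : (pCore p L).Normal := inferInstance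
  obtain ⟨z, hz, rfl⟩ := hy
  refine ⟨g⁻¹ * a * g, h.fix_mem hz (fun hzA => hyA (‹(pCore p L).Normal›.conj_mem z hzA g))
    (by simpa using ‹(pCore p L).Normal›.conj_mem a ha g⁻¹) (mem_stab.2 ?_), ?_⟩
  · have h1 := (normal_inf_center Y).conj_mem _ (mem_stab.1 hfix) g⁻¹
    simp only [MulEquiv.coe_toMonoidHom, MulAut.conj_apply] at h1
    convert h1 using 1
    group
  · show g * (g⁻¹ * a * g) * g⁻¹ = a
    group

omit hp in
theorem mem_stab_congr {a u k : L} (hA : pCore p L ≤ stab Y a)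
    (he : QuotientGroup.mk' (pCore p L) u = QuotientGroup.mk' (pCore p L) k) (hk : k ∈ stab Y a) :
    u ∈ stab Y a := by
  have h1 : k⁻¹ * u ∈ pCore p L := by
    rw [mem_pCore_iff, map_mul, map_inv, he, inv_mul_cancel]
  simpa using mul_mem hk (hA h1)

/-- a product of two `p`-elements which is not a `p`-element fixes nothing -/
theorem Data.fix_prod (h : Data p Y) {k a : L}
    (hk : Prod2 p (QuotientGroup.mk' (pCore p L) k))
    (hkp : QuotientGroup.mk' (pCore p L) k ^ p ≠ 1) (ha : a ∈ pCore p L) (hfix : k ∈ stab Y a) :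
    a ∈ Y ⊓ center L := by
  obtain ⟨ub1, vb1, hu, hv, hkuv⟩ := hk
  have lift : ∀ x : L ⧸ pCore p L, x ^ p = 1 →
      ∃ g u : L, u ∈ cY Y g ∧ QuotientGroup.mk' (pCore p L) u = x := by
    intro x hx
    obtain ⟨q, y, hy, hyx⟩ := h.good.conj_mem x hx
    obtain ⟨g, rfl⟩ := QuotientGroup.mk'_surjective _ q
    refine ⟨g⁻¹, g⁻¹ * y * g, ⟨y, hy, by simp⟩, ?_⟩
    rw [map_mul, map_mul, hyx, map_inv]
    group
  obtain ⟨g, u, hug, rfl⟩ := lift ub1 hu
  obtain ⟨g', v, hvg, rfl⟩ := lift vb1 hv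
  have hne : bar p (cY Y g) ≠ bar p (cY Y g') := by
    intro e
    obtain ⟨v', hv', hvv⟩ := e.ge ⟨v, hvg, rfl⟩
    refine hkp ?_
    rw [hkuv, ← hvv, Commute.mul_pow (show Commute _ _ by
      rw [Commute, SemiconjBy, ← map_mul, h.cY_comm hug hv', map_mul]), hu, hvv, hv, one_mul]
  have huA : u ∉ pCore p L := fun e => hkp (by
    rw [hkuv, (mem_pCore_iff u).1 e, one_mul, hv])
  have hvA : v ∉ pCore p L := fun e => hkp (by
    rw [hkuv, (mem_pCore_iff v).1 e, mul_one, hu])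
  have hgg := h.sup_cY_eq_top hne
  haveI : (pCore p L).Normal := inferInstance
  have huv : u * v ∈ stab Y a :=
    mem_stab_congr (fun z hz => h.pCore_comm hz ha) (by rw [map_mul, hkuv]) hfix
  have hc := mem_stab.1 huv
  have hc1 := h.comm_mem hvg ha
  have hc2 := h.comm_mem hug (‹(pCore p L).Normal›.conj_mem a ha v)
  rw [show u * v * a * (u * v)⁻¹ * a⁻¹ =
    (u * (v * a * v⁻¹) * u⁻¹ * (v * a * v⁻¹)⁻¹) * (v * a * v⁻¹ * a⁻¹) by group] at hc
  have h1 : v * a * v⁻¹ * a⁻¹ ∈ cY Y g := by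
    have := mul_mem (inv_mem (Subgroup.mem_inf.1 hc2).1) (center_le_cY hc g)
    rwa [inv_mul_cancel_left] at this
  have hva : v ∈ stab Y a := mem_stab.2 (h.inf_le_center hgg ⟨h1, hc1.1⟩)
  have hua : u ∈ stab Y a := by simpa using mul_mem huv (inv_mem hva)
  exact h.inf_le_center hgg ⟨h.fix_mem_cY hug huA ha hua, h.fix_mem_cY hvg hvA ha hva⟩

/-- elements of order not a power of `p` act fixed point freely on `O_p(L)/(Y ∩ Z(L))` -/
theorem Data.fix (h : Data p Y) {x a : L} (hx : ¬ ∃ i : ℕ, orderOf x = p ^ i)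
    (ha : a ∈ pCore p L) (hfix : x ∈ stab Y a) : a ∈ Y ⊓ center L := by
  classical
  obtain ⟨r, hr, hrp, hrd⟩ : ∃ r : ℕ, r.Prime ∧ r ≠ p ∧ r ∣ orderOf x := by
    by_contra hc
    push Not at hc
    exact hx ⟨_, Nat.eq_prime_pow_of_unique_prime_dvd (orderOf_pos x).ne' fun {d} hd hdx =>
      by_contra fun e => hc d hd e hdx⟩
  haveI : Fact r.Prime := ⟨hr⟩
  set k := x ^ (orderOf x / r) with hk
  have hko : orderOf k = r := orderOf_pow_orderOf_div (orderOf_pos x).ne' hrd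
  have hkfix : k ∈ stab Y a := pow_mem hfix _
  have hkA : k ∉ pCore p L := fun e => by
    obtain ⟨i, hi⟩ := CfsgLib.PCore.pCore_isPGroup (p := p) (G := L) ⟨k, e⟩
    have h1 : k ^ (p ^ i) = 1 := congrArg Subtype.val hi
    have h2 := orderOf_dvd_of_pow_eq_one h1
    rw [hko] at h2
    exact hrp ((Nat.prime_dvd_prime_iff_eq hr hp.out).1 (hr.dvd_of_dvd_pow h2))
  set kb := QuotientGroup.mk' (pCore p L) k with hkb
  have hkbo : orderOf kb = r := by
    refine orderOf_eq_prime ?_ fun e => hkA ((mem_pCore_iff k).2 e)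
    rw [hkb, ← map_pow, ← hko, pow_orderOf_eq_one, map_one]
  have hkbp : kb ^ p ≠ 1 := fun e => by
    have h2 := orderOf_dvd_of_pow_eq_one e
    rw [hkbo] at h2
    exact hrp ((Nat.prime_dvd_prime_iff_eq hr hp.out).1 h2)
  rcases h.good.dec kb (hkbo.symm ▸ hr) (hkbo.symm ▸ hrp) with h1 | ⟨hcen, ub, hub, h1⟩
  · exact h.fix_prod h1 hkbp ha hkfix
  obtain ⟨q, y, hy, hyu⟩ := h.good.conj_mem ub hub
  obtain ⟨g, rfl⟩ := QuotientGroup.mk'_surjective _ q
  set u := g⁻¹ * y * g with hu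
  have hub' : QuotientGroup.mk' (pCore p L) u = ub := by
    rw [hu, map_mul, map_mul, hyu, map_inv]; group
  have hup : u ^ p = 1 := by
    rw [hu, inv_conj_pow, h.exp y hy, mul_one, inv_mul_cancel]
  let M := L ⧸ Y ⊓ center L
  let π : L →* M := QuotientGroup.mk' (Y ⊓ center L)
  set R : Subgroup M := (pCore p L).map π ⊓ centralizer {π k} with hR
  have haR : π a ∈ R := by
    refine ⟨⟨a, ha, rfl⟩, mem_centralizer_singleton_iff.2 ?_⟩
    exact (mem_centralizer_singleton_iff.1 hkfix).symm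
  have hRbot : R = ⊥ := by
    by_contra hne
    have hT : IsPGroup p (zpowers (π u)) :=
      IsPGroup.of_card_dvd_pow (n := 1) (by
        rw [Nat.card_zpowers, pow_one]
        exact orderOf_dvd_of_pow_eq_one (by rw [← map_pow, hup, map_one]))
    have hRp : IsPGroup p R := ((CfsgLib.PCore.pCore_isPGroup (p := p) (G := L)).map π).to_le inf_le_left
    have hTR : zpowers (π u) ≤ normalizer (R : Set M) := by
      refine zpowers_le.2 (mem_normalizer_of_conj_mem ?_)
      rintro _ ⟨⟨c, hc, rfl⟩, hck⟩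
      have hk' : k ∈ stab Y c := (mem_centralizer_singleton_iff.2
        (mem_centralizer_singleton_iff.1 hck).symm : π k ∈ centralizer {π c})
      have h3 : u⁻¹ * k * u ∈ stab Y c := mem_stab_congr (fun z hz => h.pCore_comm hz hc) (by
        rw [map_mul, map_mul, map_inv, hub', ← hkb, mul_assoc, ← mem_center_iff.1 hcen ub,
          inv_mul_cancel_left]) hk'
      refine ⟨⟨u * c * u⁻¹, (inferInstance : (pCore p L).Normal).conj_mem c hc u, by simp⟩,
        mem_centralizer_singleton_iff.2 ?_⟩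
      have h4 := mem_centralizer_singleton_iff.1 (h3 : π (u⁻¹ * k * u) ∈ centralizer {π c})
      rw [map_mul, map_mul, map_inv] at h4
      calc π u * π c * (π u)⁻¹ * π k
          = π u * (π c * ((π u)⁻¹ * π k * π u)) * (π u)⁻¹ := by group
        _ = π u * (((π u)⁻¹ * π k * π u) * π c) * (π u)⁻¹ := by rw [h4]
        _ = π k * (π u * π c * (π u)⁻¹) := by group
    refine inf_centralizer_ne_bot hRp hT hne hTR ((eq_bot_iff_forall _).2 ?_)
    rintro _ ⟨⟨⟨c, hc, rfl⟩, hck⟩, hcu⟩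
    have hk' : k ∈ stab Y c := (mem_centralizer_singleton_iff.2
      (mem_centralizer_singleton_iff.1 hck).symm : π k ∈ centralizer {π c})
    have hu' : u ∈ stab Y c := (mem_centralizer_singleton_iff.2
      (hcu (π u) (mem_zpowers _)) : π u ∈ centralizer {π c})
    have h5 := h.fix_prod (k := k * u) (by rw [map_mul, hub']; exact h1) (by
      rw [map_mul, hub', (Commute.mul_pow (mem_center_iff.1 hcen ub).symm), hub, mul_one]
      exact hkbp) hc (mul_mem hk' hu')
    exact (QuotientGroup.eq_one_iff c).2 h5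
  rw [hRbot, mem_bot] at haR
  exact (QuotientGroup.eq_one_iff a).1 haR


variable {G : Type*} [Group G] [Finite G]

omit hp in
theorem card_bar (K : Subgroup L) :
    Nat.card (bar p K) = (K ⊓ pCore p L).relIndex K := by
  rw [inf_comm, Subgroup.inf_relIndex_right]
  conv_rhs => rw [← QuotientGroup.ker_mk' (pCore p L), Subgroup.relIndex_ker]

theorem charP_field {F : Type} [Field F] [Fintype F] {n : ℕ} (h : Fintype.card F = p ^ n) :
    CharP F p := by
  obtain ⟨r, hr⟩ := CharP.exists F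
  obtain ⟨m, hrp, hm⟩ := FiniteField.card F r
  have h1 : r ∣ p ^ n := h ▸ hm ▸ dvd_pow_self r m.2.ne'
  have h2 : r = p := (Nat.prime_dvd_prime_iff_eq hrp hp.out).1 (hrp.dvd_of_dvd_pow h1)
  exact h2 ▸ hr

theorem frakL_data {M L : Subgroup G} (hL : IsInFrakL p M L) :
    Data p ((largestPReducedOf p M).subgroupOf L) := by
  obtain ⟨hYL, hclos, hnorm, hmin, hchar, ⟨hlt, hmax⟩, hiso⟩ := hL
  set Y := largestPReducedOf p M with hY
  set Y' := Y.subgroupOf L with hY'
  have hel := (red_largest (p := p) M).2.2.1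
  have hexp : ∀ a ∈ Y', a ^ p = 1 := fun a ha => Subtype.ext (by simpa using hel.2 _ ha)
  have hcomm : ∀ a ∈ Y', ∀ b ∈ Y', a * b = b * a := fun a ha b hb =>
    Subtype.ext (show (a : G) * b = b * a from
      congrArg Subtype.val (hel.1.is_comm.comm (⟨a, ha⟩ : ↥Y) ⟨b, hb⟩))
  have hsub : (Y ⊓ pCoreOf p L).subgroupOf L = Y' ⊓ pCore p ↥L := by
    rw [← subgroupOf_pCoreOf L, hY']
    exact Subgroup.comap_inf _ _ _
  have hproper : normalizer (Y' : Set ↥L) ≠ ⊤ := fun e => hlt.ne (le_antisymm inf_le_left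
    (le_inf le_rfl fun x hx => by
      refine mem_normalizer_of_conj_mem fun y hy => ?_
      have h1 := conj_mem_of_normalizer (show (⟨x, hx⟩ : ↥L) ∈ normalizer (Y' : Set ↥L) from
        e ▸ mem_top _) (show (⟨y, hYL hy⟩ : ↥L) ∈ Y' from hy)
      exact h1))
  have hgen : normalClosure (Y' : Set ↥L) = ⊤ := hmin.1
  have hclos' : pCore p ↥L = normalClosure ((Y' ⊓ pCore p ↥L : Subgroup ↥L) : Set ↥L) := by
    rw [← hsub]
    exact Subgroup.map_injective L.subtype_injective hclos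
  refine ⟨hcomm, hexp, fun a ha => mem_normalizer_of_conj_mem fun y hy =>
      (show (a : G) * y * (a : G)⁻¹ ∈ Y from
        conj_mem_of_normalizer (hnorm ⟨a, ha, rfl⟩) (hy : (y : G) ∈ Y)),
    hclos', hgen, fun X hX hXne x hx => mem_normalizer_of_conj_mem fun y hy => ?_, hproper, hchar,
    ?_⟩
  · have hlt' : X.map L.subtype < L := lt_of_le_of_ne (map_subtype_le X) fun e => hXne (by
      refine Subgroup.map_injective L.subtype_injective ?_
      rw [e, ← MonoidHom.range_eq_map, range_subtype])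
    have h1 := hmax (X.map L.subtype) (fun z hz => ⟨⟨z, hYL hz⟩, hX hz, rfl⟩) hlt'
      ⟨x, hx, rfl⟩
    exact show (x : G) * y * (x : G)⁻¹ ∈ Y from
      conj_mem_of_normalizer (Subgroup.mem_inf.1 h1).2 (hy : (y : G) ∈ Y)
  · set E := Y'.map (QuotientGroup.mk' (pCore p ↥L)) with hE
    have hEexp : ∀ x ∈ E, x ^ p = 1 := by
      rintro _ ⟨a, ha, rfl⟩
      rw [← map_pow, hexp a ha, map_one]
    have hEne : E ≠ ⊥ := by
      intro e
      have h1 : Y' ≤ pCore p ↥L := fun y hy => (mem_pCore_iff y).2 (by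
        have h2 : QuotientGroup.mk' (pCore p ↥L) y ∈ E := ⟨y, hy, rfl⟩
        rwa [e, mem_bot] at h2)
      have h3 : pCore p ↥L = ⊤ :=
        top_le_iff.1 (hgen ▸ normalClosure_le_normal (SetLike.coe_subset_coe.2 h1))
      refine hproper (top_le_iff.1 fun x _ => mem_normalizer_of_conj_mem fun y hy => ?_)
      exact show (x : G) * y * (x : G)⁻¹ ∈ Y from
        conj_mem_of_normalizer (hnorm ⟨x, h3.symm ▸ mem_top x, rfl⟩) (hy : (y : G) ∈ Y)
    have hq : (Y ⊓ pCoreOf p L).relIndex Y = Nat.card E := by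
      have h5 := Subgroup.relIndex_map_map_of_injective ((Y ⊓ pCoreOf p L).subgroupOf L) Y'
        L.subtype_injective
      rw [subgroupOf_map_subtype, hY', subgroupOf_map_subtype, inf_eq_left.2 (inf_le_left.trans hYL),
        inf_eq_left.2 hYL] at h5
      rw [hE, h5, hsub]
      exact (card_bar Y').symm
    have hcar : ∀ (X : Type) [Group X] (e : (↥L ⧸ pCore p ↥L) ≃* X),
        Nat.card (E.map e.toMonoidHom) = Nat.card E := fun X _ e =>
      Subgroup.card_map_of_injective e.injective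
    have hexp' : ∀ (X : Type) [Group X] (e : (↥L ⧸ pCore p ↥L) ≃* X),
        ∀ x ∈ E.map e.toMonoidHom, x ^ p = 1 := by
      rintro X _ e _ ⟨a, ha, rfl⟩
      rw [← map_pow, hEexp a ha, map_one]
    have hback : ∀ (X : Type) [Group X] (e : (↥L ⧸ pCore p ↥L) ≃* X),
        (E.map e.toMonoidHom).map e.symm.toMonoidHom = E := fun X _ e => by
      rw [map_map]
      convert map_id E
      ext x
      simp
    have hEg : IsPGroup p E := fun x => ⟨1, Subtype.ext (by simpa using hEexp x x.2)⟩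
    obtain ⟨n, hn⟩ := IsPGroup.iff_card.1 hEg
    rcases hiso with ⟨F, _, _, hF, ⟨e⟩⟩ | ⟨rfl, F, _, _, m, hF, hFq, ⟨e⟩⟩ | ⟨rfl, r, hr, hr2, ⟨e⟩⟩
    · rw [hq] at hF
      haveI := charP_field (p := p) (n := n) (hF.trans hn)
      have h := good_slTwo (p := p) (E.map e.toMonoidHom) (hexp' _ e) ((hcar _ e).trans hF.symm)
      exact hback _ e ▸ h.map e.symm
    · obtain ⟨hch, ⟨P⟩⟩ := CfsgLib.SuzukiGroup.exists_params (m := m) hF
      rw [hq] at hFq
      have h := good_sz P (E.map e.toMonoidHom) (hexp' _ e) ((hcar _ e).trans hFq.symm)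
      exact hback _ e ▸ h.map e.symm
    · have h := good_dihedral hr hr2 (E.map e.toMonoidHom) (hexp' _ e) fun e0 => hEne (by
        rw [← hback _ e, e0, Subgroup.map_bot])
      exact hback _ e ▸ h.map e.symm

end CfsgLib.Large.FrakL
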