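import Cfsg.Agent.Lib.Large.SzReal
import Cfsg.Agent.Lib.ClassicalGroups.SLTwoSylow

/-!
Properties of `SL₂(q)`, `Sz(q)` and dihedral groups of order `2r` used for the members of
`𝔏_G(Y_M)` (helper62).
-/

set_option autoImplicit false

namespace CfsgLib.Large.FrakL

open Subgroup

variable {p : ℕ} {X : Type*} [Group X]

/-- `k` is a product of two elements whose `p`-th power is one -/
def Prod2 (p : ℕ) (k : X) : Prop := ∃ u v : X, u ^ p = 1 ∧ v ^ p = 1 ∧ k = u * v

/-- what is used of the image of `Y_M` in `L / O_p(L)` -/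
structure Good (p : ℕ) (E : Subgroup X) : Prop where
  max : ∀ x : X, x ^ p = 1 → x ∈ normalizer (E : Set X) → x ∈ E
  conj_mem : ∀ x : X, x ^ p = 1 → ∃ g : X, g * x * g⁻¹ ∈ E
  irr : ∀ V : Subgroup X, V ≤ E → V ≠ ⊥ →
    normalizer (E : Set X) ≤ normalizer (V : Set X) → V = E
  dec : ∀ k : X, (orderOf k).Prime → orderOf k ≠ p →
    Prod2 p k ∨ (k ∈ center X ∧ ∃ u : X, u ^ p = 1 ∧ Prod2 p (k * u))

theorem Prod2.map {M : Type*} [Group M] (f : X →* M) {k : X} (h : Prod2 p k) : Prod2 p (f k) := by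
  obtain ⟨u, v, hu, hv, rfl⟩ := h
  exact ⟨f u, f v, by rw [← map_pow, hu, map_one], by rw [← map_pow, hv, map_one], map_mul f u v⟩

theorem Good.map {M : Type*} [Group M] {E : Subgroup X} (h : Good p E) (e : X ≃* M) :
    Good p (E.map e.toMonoidHom) := by
  have hN : ∀ K : Subgroup X,
      normalizer ((K.map e.toMonoidHom : Subgroup M) : Set M) =
        (normalizer (K : Set X)).map e.toMonoidHom := fun K => (map_equiv_normalizer_eq K e).symm
  refine ⟨fun x hx hxn => ?_, fun x hx => ?_, fun V hVE hV hn => ?_, fun k hk hkp => ?_⟩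
  · rw [hN] at hxn
    obtain ⟨y, hy, rfl⟩ := hxn
    exact ⟨y, h.max y (e.injective (by simpa using hx)) hy, rfl⟩
  · obtain ⟨g, hg⟩ := h.conj_mem (e.symm x) (by rw [← map_pow, hx, map_one])
    exact ⟨e g, _, hg, by simp⟩
  · have h1 : (V.comap e.toMonoidHom).map e.toMonoidHom = V :=
      map_comap_eq_self_of_surjective e.surjective V
    have h2 : V.comap e.toMonoidHom = E := by
      refine h.irr _ (fun y hy => ?_) (fun e0 => hV (by rw [← h1, e0, Subgroup.map_bot])) ?_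
      · obtain ⟨z, hz, hzy⟩ := hVE hy
        rwa [← e.injective hzy]
      · intro y hy
        have h3 := hn ((hN E).ge ⟨y, hy, rfl⟩)
        rw [← h1, hN] at h3
        obtain ⟨z, hz, hzy⟩ := h3
        rwa [← e.injective hzy]
    rw [← h1, h2]
  · obtain ⟨y, rfl⟩ := e.surjective k
    have ho : orderOf (e y) = orderOf y := orderOf_injective e.toMonoidHom e.injective y
    rw [ho] at hk hkp
    rcases h.dec y hk hkp with h1 | ⟨h1, u, hu, h2⟩
    · exact Or.inl (h1.map e.toMonoidHom)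
    · refine Or.inr ⟨?_, e u, by rw [← map_pow, hu, map_one], ?_⟩
      · rw [mem_center_iff]
        intro z
        obtain ⟨z', rfl⟩ := e.surjective z
        rw [← map_mul, ← map_mul, mem_center_iff.1 h1 z']
      · simpa using h2.map e.toMonoidHom

/-- from a `p`-subgroup `U` containing the elements with `p`-th power one of every `p`-subgroup
above it, to the conjugate subgroups -/
theorem good_of_card [Finite X] [Fact p.Prime] {U E : Subgroup X} (hU : Good p U)
    (hUp : IsPGroup p U) (hmax : ∀ P : Subgroup X, IsPGroup p P → U ≤ P → ∀ x ∈ P, x ^ p = 1 → x ∈ U)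
    (hEp : ∀ x ∈ E, x ^ p = 1) (hcard : Nat.card E = Nat.card U) : Good p E := by
  obtain ⟨T, hT⟩ := hUp.exists_le_sylow
  have hEg : IsPGroup p E := fun x => ⟨1, Subtype.ext (by simpa using hEp x x.2)⟩
  obtain ⟨a, ha⟩ := exists_conj_sylow T hEg
  have h1 : E = U.map (MulAut.conj a).toMonoidHom := by
    refine Subgroup.eq_of_le_of_card_ge (fun x hx => ?_)
      (le_of_eq (by rw [hcard]; exact Subgroup.card_map_of_injective (MulAut.conj a).injective))
    obtain ⟨y, hy, rfl⟩ := ha hx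
    exact ⟨y, hmax _ T.2 hT y hy ((MulAut.conj a).injective (by
      rw [map_pow, map_one]; exact hEp _ hx)), rfl⟩
  rw [h1]
  exact hU.map (MulAut.conj a)

theorem max_of_maxP [Finite X] [Fact p.Prime] {U : Subgroup X} (hUp : IsPGroup p U)
    (hmax : ∀ P : Subgroup X, IsPGroup p P → U ≤ P → ∀ x ∈ P, x ^ p = 1 → x ∈ U) :
    (∀ x : X, x ^ p = 1 → x ∈ normalizer (U : Set X) → x ∈ U) ∧
      (∀ x : X, x ^ p = 1 → ∃ g : X, g * x * g⁻¹ ∈ U) := by
  have hz : ∀ x : X, x ^ p = 1 → IsPGroup p (zpowers x) := fun x hx ⟨y, hy⟩ => by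
    obtain ⟨i, rfl⟩ := mem_zpowers_iff.1 hy
    exact ⟨1, Subtype.ext (by
      show (x ^ i) ^ (p ^ 1) = 1
      rw [pow_one, ← zpow_natCast, ← zpow_mul, mul_comm, zpow_mul, zpow_natCast, hx, one_zpow])⟩
  refine ⟨fun x hx hn => hmax _ (isPGroup_sup (hz x hx) hUp (zpowers_le.2 hn)) le_sup_right x
    ((le_sup_left : zpowers x ≤ _) (mem_zpowers x)) hx, fun x hx => ?_⟩
  obtain ⟨T, hT⟩ := hUp.exists_le_sylow
  obtain ⟨a, ha⟩ := exists_conj_sylow T (hz x hx)
  obtain ⟨y, hy, hyx⟩ := ha (mem_zpowers x)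
  refine ⟨a⁻¹, hmax _ T.2 hT _ ?_ ?_⟩
  · rw [← hyx]; simpa [mul_assoc] using SetLike.mem_coe.1 hy
  · rw [conj_pow, hx]; simp

/-! ### `SL₂` -/

section SL2

open Matrix
open scoped MatrixGroups
open CfsgLib.ClassicalGroups

variable {F : Type*} [Field F]

theorem pow_char_eq_one [CharP F p] [Fact p.Prime] {u : SL(2, F)} (h : u.1.trace = 2) :
    u ^ p = 1 := by
  have hd := u.2
  rw [Matrix.det_fin_two] at hd
  rw [Matrix.trace_fin_two] at h
  have hN : (u.1 - 1) ^ 2 = 0 := by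
    ext i j
    fin_cases i <;> fin_cases j <;>
      simp [pow_two, Matrix.mul_apply, Fin.sum_univ_two] <;>
      first
        | linear_combination (u.1 0 0) * h - hd
        | linear_combination (u.1 0 1) * h
        | linear_combination (u.1 1 0) * h
        | linear_combination (u.1 1 1) * h - hd
  haveI : CharP (Matrix (Fin 2) (Fin 2) F) p := Matrix.charP (n := Fin 2) p
  apply Subtype.ext
  rw [Matrix.SpecialLinearGroup.coe_pow, Matrix.SpecialLinearGroup.coe_one]
  have h2 : (u.1 - 1) ^ p = 0 := pow_eq_zero_of_le (Fact.out : p.Prime).two_le hN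
  rw [sub_pow_char_of_commute p (Commute.one_right u.1), one_pow, sub_eq_zero] at h2
  exact h2

theorem prod2_of_trace [CharP F p] [Fact p.Prime] (k : SL(2, F))
    (h : k.1 0 1 ≠ 0 ∨ k.1 1 0 ≠ 0 ∨ k.1 0 0 ≠ k.1 1 1) : Prod2 p k := by
  set τ := k.1 0 0 + k.1 1 1 with hτ
  suffices h' : ∃ n b c : F, n * n + b * c = 0 ∧
      n * (k.1 0 0 - k.1 1 1) + b * k.1 1 0 + c * k.1 0 1 = 2 - τ by
    obtain ⟨n, b, c, hn, ht⟩ := h'
    let w : SL(2, F) := ⟨!![1 + n, b; c, 1 - n], by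
      simp [Matrix.det_fin_two]; linear_combination -hn⟩
    refine ⟨w⁻¹, w * k, pow_char_eq_one ?_, pow_char_eq_one ?_, (inv_mul_cancel_left w k).symm⟩
    · rw [Matrix.SpecialLinearGroup.coe_inv]
      simp [w, Matrix.adjugate_fin_two, Matrix.trace_fin_two]
      ring
    · rw [Matrix.SpecialLinearGroup.coe_mul]
      simp [w, Matrix.trace_fin_two, Matrix.mul_apply, Matrix.vecMul, dotProduct, Fin.sum_univ_two]
      linear_combination ht
  by_cases h1 : k.1 1 0 = 0
  · by_cases h2 : k.1 0 1 = 0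
    · have h3 : k.1 0 0 - k.1 1 1 ≠ 0 := sub_ne_zero.2 (by tauto)
      refine ⟨(2 - τ) / (k.1 0 0 - k.1 1 1), 1,
        -((2 - τ) / (k.1 0 0 - k.1 1 1) * ((2 - τ) / (k.1 0 0 - k.1 1 1))), by ring, ?_⟩
      rw [h1, h2, div_mul_cancel₀ _ h3]; ring
    · exact ⟨0, 0, (2 - τ) / k.1 0 1, by ring, by rw [div_mul_cancel₀ _ h2]; ring⟩
  · exact ⟨0, (2 - τ) / k.1 1 0, 0, by ring, by rw [div_mul_cancel₀ _ h1]; ring⟩

/-- upper unitriangular element -/
def uni (a : F) : SL(2, F) := ⟨!![1, a; 0, 1], by simp [Matrix.det_fin_two]⟩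

theorem uni_val (a : F) : (uni a).1 = !![1, a; 0, 1] := rfl

/-- diagonal element -/
def dia (t : F) (ht : t ≠ 0) : SL(2, F) :=
  ⟨!![t, 0; 0, t⁻¹], by simp [Matrix.det_fin_two, ht]⟩

theorem dia_val (t : F) (ht : t ≠ 0) : (dia t ht).1 = !![t, 0; 0, t⁻¹] := rfl

theorem dia_conj_uni (t : F) (ht : t ≠ 0) (a : F) :
    dia t ht * uni a * (dia t ht)⁻¹ = uni (t ^ 2 * a) := by
  ext i j
  fin_cases i <;> fin_cases j <;>
    simp [dia_val, uni_val, Matrix.SpecialLinearGroup.coe_inv, Matrix.adjugate_fin_two,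
      Matrix.mul_apply, Fin.sum_univ_two, ht]
  ring

theorem good_slTwo [Fintype F] [Fact p.Prime] [CharP F p] (E : Subgroup SL(2, F))
    (hEp : ∀ x ∈ E, x ^ p = 1) (hcard : Nat.card E = Fintype.card F) : Good p E := by
  classical
  have hpF : p ≠ 1 := (Fact.out : p.Prime).ne_one
  have hsy : ((slUniSylow p : Sylow p SL(2, F)) : Subgroup SL(2, F)) = slUni := rfl
  have hUp : IsPGroup p (slUni : Subgroup SL(2, F)) := hsy ▸ (slUniSylow p).2
  have hmax : ∀ P : Subgroup SL(2, F), IsPGroup p P → slUni ≤ P → ∀ x ∈ P, x ^ p = 1 → x ∈ slUni :=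
    fun P hP hle x hx _ => by
      have h := (slUniSylow p : Sylow p SL(2, F)).3 hP (hsy.le.trans hle)
      rw [h, hsy] at hx
      exact hx
  refine good_of_card ⟨(max_of_maxP hUp hmax).1, (max_of_maxP hUp hmax).2, ?_, ?_⟩ hUp hmax hEp
    (by rw [hcard, card_slUni])
  · intro V hV hV1 hn
    refine le_antisymm hV ?_
    have hU : ∀ x : SL(2, F), x ∈ (slUni : Subgroup SL(2, F)) → x = uni (x.1 0 1) := by
      rintro x ⟨h0, h1, h2⟩
      ext i j
      fin_cases i <;> fin_cases j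
      · exact h0
      · rfl
      · exact h1
      · exact h2
    have huni : ∀ a, uni a ∈ (slUni : Subgroup SL(2, F)) := fun a => ⟨rfl, rfl, rfl⟩
    have hdiag : ∀ (t : F) (a : F), t ≠ 0 → uni a ∈ V → uni (t ^ 2 * a) ∈ V := by
      intro t a ht ha
      have hd : dia t ht ∈ normalizer ((slUni : Subgroup SL(2, F)) : Set SL(2, F)) := by
        refine mem_normalizer_of_conj_mem fun x hx => ?_
        rw [hU x hx, dia_conj_uni]
        exact huni _
      exact dia_conj_uni t ht a ▸ conj_mem_of_normalizer (hn hd) ha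
    have hadd : ∀ a b, uni a ∈ V → uni b ∈ V → uni (a + b) ∈ V := fun a b ha hb => by
      convert mul_mem ha hb using 1
      ext i j
      fin_cases i <;> fin_cases j <;> simp [uni_val, Matrix.mul_apply, Fin.sum_univ_two]
      ring
    have hneg : ∀ a, uni a ∈ V → uni (-a) ∈ V := fun a ha => by
      convert inv_mem ha using 1
      ext i j
      fin_cases i <;> fin_cases j <;>
        simp [uni_val, Matrix.SpecialLinearGroup.coe_inv, Matrix.adjugate_fin_two]
    obtain ⟨x, hx, hx1⟩ := (V.bot_or_exists_ne_one).resolve_left hV1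
    set a := x.1 0 1 with ha
    have hax : uni a ∈ V := (hU x (hV hx)) ▸ hx
    have ha0 : a ≠ 0 := fun e => hx1 (by
      rw [hU x (hV hx), ← ha, e]
      ext i j
      fin_cases i <;> fin_cases j <;> simp [uni_val])
    have h0 : uni 0 ∈ V := by
      have h := hadd _ _ hax (hneg _ hax)
      rwa [add_neg_cancel] at h
    have hsq : ∀ t, uni (t ^ 2 * a) ∈ V := fun t => by
      by_cases ht : t = 0
      · simpa [ht] using h0
      · exact hdiag t a ht hax
    intro y hy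
    rw [hU y hy]
    have hsum : ∃ s t : F, y.1 0 1 / a = s ^ 2 - t ^ 2 := by
      rcases eq_or_ne p 2 with rfl | hp2
      · obtain ⟨s, hs⟩ := FiniteField.isSquare_of_char_two (F := F) (CharP.eq F ‹_› (ringChar.charP F)).symm (y.1 0 1 / a)
        exact ⟨s, 0, by rw [hs]; ring⟩
      · have h2 : (2 : F) ≠ 0 := Ring.two_ne_zero (by
          rw [ringChar.eq F p]; exact hp2)
        refine ⟨(y.1 0 1 / a + 1) / 2, (y.1 0 1 / a - 1) / 2, ?_⟩
        field_simp
        ring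
    obtain ⟨s, t, hst⟩ := hsum
    have h := hadd _ _ (hsq s) (hneg _ (hsq t))
    have e : y.1 0 1 = s ^ 2 * a + -(t ^ 2 * a) := by
      rw [div_eq_iff ha0] at hst
      rw [hst]; ring
    rw [e]; exact h
  · intro k hk hkp
    by_cases h : k.1 0 1 ≠ 0 ∨ k.1 1 0 ≠ 0 ∨ k.1 0 0 ≠ k.1 1 1
    · exact Or.inl (prod2_of_trace k h)
    push Not at h
    obtain ⟨h01, h10, h00⟩ := h
    have hd := k.2
    rw [Matrix.det_fin_two, h01, h10, mul_zero, sub_zero, ← h00] at hd
    refine Or.inr ⟨?_, ?_⟩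
    · rw [mem_center_iff]
      intro g
      ext i j
      fin_cases i <;> fin_cases j <;>
        simp [Matrix.mul_apply, Fin.sum_univ_two, h01, h10, ← h00, mul_comm]
    · refine ⟨uni 1, pow_char_eq_one (by simp [uni_val, Matrix.trace_fin_two]; norm_num),
        prod2_of_trace _ ?_⟩
      refine Or.inl ?_
      simp [uni_val, Matrix.mul_apply, Fin.sum_univ_two, h01]
      intro e
      rw [e, zero_mul] at hd
      exact zero_ne_one hd

end SL2

/-! ### dihedral groups of order `2r` -/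

theorem good_dihedral {r : ℕ} (hr : r.Prime) (hr2 : r ≠ 2) (E : Subgroup (DihedralGroup r))
    (hEp : ∀ x ∈ E, x ^ 2 = 1) (hE : E ≠ ⊥) : Good 2 E := by
  haveI : NeZero r := ⟨hr.ne_zero⟩
  haveI : Fact (Nat.Prime 2) := ⟨Nat.prime_two⟩
  have hEg : IsPGroup 2 E := fun x => ⟨1, Subtype.ext (by simpa using hEp x x.2)⟩
  have hcard : Nat.card E = 2 := by
    obtain ⟨n, hn⟩ := IsPGroup.iff_card.1 hEg
    have hd : 2 ^ n ∣ 2 * r := by
      have h := E.card_subgroup_dvd_card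
      rwa [hn, DihedralGroup.nat_card] at h
    rcases n with _ | _ | n
    · exact absurd (Subgroup.card_eq_one.1 (by simpa using hn)) hE
    · simpa using hn
    · have h4 : 2 * 2 ∣ 2 * r := (dvd_trans (by norm_num : 2 * 2 ∣ 2 ^ 2) (pow_dvd_pow 2 (by omega))).trans hd
      exact absurd ((Nat.prime_dvd_prime_iff_eq Nat.prime_two hr).1
        (Nat.dvd_of_mul_dvd_mul_left two_pos h4)).symm hr2
  have hmax : ∀ P : Subgroup (DihedralGroup r), IsPGroup 2 P → E ≤ P → ∀ x ∈ P, x ^ 2 = 1 → x ∈ E := by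
    intro P hP hle x hx _
    obtain ⟨n, hn⟩ := IsPGroup.iff_card.1 hP
    have hd : 2 ^ n ∣ 2 * r := by
      have h := P.card_subgroup_dvd_card
      rwa [hn, DihedralGroup.nat_card] at h
    have hn2 : n ≤ 1 := by
      by_contra hc
      have h4 : 2 * 2 ∣ 2 * r := (dvd_trans (by norm_num : 2 * 2 ∣ 2 ^ 2) (pow_dvd_pow 2 (by omega))).trans hd
      exact hr2 ((Nat.prime_dvd_prime_iff_eq Nat.prime_two hr).1
        (Nat.dvd_of_mul_dvd_mul_left two_pos h4)).symm
    have h5 : Nat.card P ≤ Nat.card E := by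
      rw [hn, hcard]
      calc 2 ^ n ≤ 2 ^ 1 := Nat.pow_le_pow_right two_pos hn2
        _ = 2 := by norm_num
    rw [Subgroup.eq_of_le_of_card_ge hle h5]; exact hx
  refine ⟨(max_of_maxP hEg hmax).1, (max_of_maxP hEg hmax).2, fun V hV hV1 _ => ?_, fun k hk hk2 => ?_⟩
  · refine Subgroup.eq_of_le_of_card_ge hV ?_
    rw [hcard]
    have h := (Subgroup.one_lt_card_iff_ne_bot V).2 hV1
    omega
  · left
    cases k with
    | r i => exact ⟨.sr 0, .sr i, by simp [pow_two], by simp [pow_two], by simp⟩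
    | sr i => exact absurd (DihedralGroup.orderOf_sr i) hk2

/-! ### Suzuki groups -/

section Sz

open Cfsg.Lie (Sz)
open CfsgLib.SuzukiGroup

variable {F : Type*} [Field F] [Fintype F] [CharP F 2] {e : ℕ}

theorem good_sz (P : Params F e) (E : Subgroup ↥(Sz F e))
    (hEp : ∀ x ∈ E, x ^ 2 = 1) (hcard : Nat.card E = Fintype.card F) : Good 2 E := by
  haveI : Fact (Nat.Prime 2) := ⟨Nat.prime_two⟩
  let Z : Subgroup ↥(Sz F e) :=
    { carrier := {g | ∃ b : F, g = uEl P 0 b}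
      one_mem' := ⟨0, (uEl_zero P).symm⟩
      mul_mem' := by rintro _ _ ⟨b, rfl⟩ ⟨c, rfl⟩; exact ⟨b + c, by rw [uEl_mul]; simp⟩
      inv_mem' := by rintro _ ⟨b, rfl⟩; exact ⟨b, by rw [uEl_inv]; simp⟩ }
  have hZc : Nat.card Z = Fintype.card F := by
    have hb : Function.Bijective (fun b : F => (⟨uEl P 0 b, b, rfl⟩ : Z)) :=
      ⟨fun b c h => (uEl_inj P (Subtype.ext_iff.1 h)).2, fun ⟨g, b, hb⟩ => ⟨b, Subtype.ext hb.symm⟩⟩
    rw [← Nat.card_eq_of_bijective _ hb, Nat.card_eq_fintype_card]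
  have hsq : ∀ g ∈ unip P, g ^ 2 = 1 → g ∈ Z := by
    rintro _ ⟨a, b, rfl⟩ h
    rw [pow_two, uEl_mul, ← uEl_zero P] at h
    obtain ⟨-, h2⟩ := uEl_inj P h
    refine ⟨b, ?_⟩
    have ha : a = 0 := by
      rw [CharTwo.add_self_eq_zero, zero_add] at h2
      rcases mul_eq_zero.1 h2 with h3 | h3
      · exact h3
      · exact (map_eq_zero_iff P.θ P.θ.injective).1 h3
    rw [ha]
  have hZU : Z ≤ unip P := fun g ⟨b, hb⟩ => ⟨0, b, hb⟩
  have hZ2 : ∀ g ∈ Z, g ^ 2 = 1 := by
    rintro _ ⟨b, rfl⟩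
    rw [pow_two, uEl_mul]
    simp [CharTwo.add_self_eq_zero, uEl_zero]
  have hZp : IsPGroup 2 Z := fun x => ⟨1, Subtype.ext (by simpa using hZ2 x x.2)⟩
  have hmax : ∀ Q : Subgroup ↥(Sz F e), IsPGroup 2 Q → Z ≤ Q → ∀ x ∈ Q, x ^ 2 = 1 → x ∈ Z := by
    intro Q hQ hle x hx hx2
    obtain ⟨a, ha⟩ := exists_conj_sylow (sylowTwo P) hQ
    have h1 : ∀ y ∈ Q, y ^ 2 = 1 → y ∈ Z.map (MulAut.conj a).toMonoidHom := by
      intro y hy hy2
      obtain ⟨z, hz, rfl⟩ := ha hy
      exact ⟨z, hsq z hz ((MulAut.conj a).injective (by rw [map_pow, map_one]; exact hy2)), rfl⟩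
    have h2 : Z = Z.map (MulAut.conj a).toMonoidHom :=
      Subgroup.eq_of_le_of_card_ge (fun y hy => h1 y (hle hy) (hZ2 y hy))
        (le_of_eq (Subgroup.card_map_of_injective (MulAut.conj a).injective))
    rw [h2]; exact h1 x hx hx2
  refine good_of_card ⟨(max_of_maxP hZp hmax).1, (max_of_maxP hZp hmax).2, ?_, ?_⟩ hZp hmax hEp
    (hcard.trans hZc.symm)
  · intro V hV hV1 hn
    obtain ⟨v, hv, hv1⟩ := (V.bot_or_exists_ne_one).resolve_left hV1
    obtain ⟨b, rfl⟩ := hV hv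
    have hb : b ≠ 0 := fun e0 => hv1 (by rw [e0, uEl_zero])
    refine le_antisymm hV ?_
    rintro _ ⟨c, rfl⟩
    by_cases hc : c = 0
    · rw [hc, uEl_zero]; exact one_mem V
    obtain ⟨x, hx⟩ := (Finite.injective_iff_surjective.1 P.θ.injective) (c / b)
    have hx0 : x ≠ 0 := fun e0 => by
      rw [e0, map_zero] at hx
      exact div_ne_zero hc hb hx.symm
    have hd : ∀ (y : F), dEl P (Units.mk0 x hx0) * uEl P 0 y * (dEl P (Units.mk0 x hx0))⁻¹ =
        uEl P 0 (P.θ x * y) := fun y => by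
      rw [dEl_mul_uEl, mul_inv_cancel_right]; simp
    have hdn : dEl P (Units.mk0 x hx0) ∈ normalizer (Z : Set ↥(Sz F e)) := by
      refine mem_normalizer_of_conj_mem ?_
      rintro _ ⟨y, rfl⟩
      exact ⟨_, hd y⟩
    have h := conj_mem_of_normalizer (hn hdn) hv
    rw [hd, hx, div_mul_cancel₀ c hb] at h
    exact h
  · intro k hk hk2
    obtain ⟨t, ht, htk⟩ := SzReal.exists_inverting P k hk hk2
    refine Or.inl ⟨t, t * k, by rw [pow_two]; exact ht, ?_, by rw [← mul_assoc, ht, one_mul]⟩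
    rw [pow_two, ← mul_assoc, htk, inv_mul_cancel]

end Sz

end CfsgLib.Large.FrakL
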