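import Cfsg.Agent.Lib.Large.FrakH
import Cfsg.Agent.Lib.Large.Spe
import Cfsg.Agent.Lib.Involutions.BaerSuzuki

/-!
The asymmetric L-lemma (MSS): a subgroup `L` of `H` minimal with `Y ≰ O_p(L)`, where `Y` is
normalized by `O = O_p(H)` (helper6).
-/

set_option autoImplicit false

namespace CfsgLib.Large.LLemma

open Cfsg Subgroup CfsgLib.Large
open scoped commutatorElement

variable {G : Type*} [Group G] {p : ℕ}

/-- A normal overgroup of `Y` in `L` is all of `L`. -/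
theorem le_of_normalized [Finite G] [Fact p.Prime] {Y L K : Subgroup G} (hYL : Y ≤ L)
    (hYO : ¬ Y ≤ pCoreOf p L)
    (hmin : ∀ L' : Subgroup G, L' ≤ L → Y ≤ L' → ¬ Y ≤ pCoreOf p L' → L' = L)
    (hYK : Y ≤ K) (hK : ∀ l ∈ L, ∀ k ∈ K, l * k * l⁻¹ ∈ K) : L ≤ K := by
  refine le_trans (ge_of_eq (hmin (K ⊓ L) inf_le_right (le_inf hYK hYL) ?_)) inf_le_left
  intro hY
  refine hYO (hY.trans (le_pCoreOf ((pCoreOf_le _).trans inf_le_right) ?_ (isPGroup_pCoreOf _)))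
  refine le_trans (fun l hl => ?_) (normalizer_le_normalizer_pCoreOf _)
  exact mem_normalizer_of_conj_mem fun k hk =>
    Subgroup.mem_inf.2 ⟨hK l hl k hk.1, mul_mem (mul_mem hl hk.2) (inv_mem hl)⟩

theorem not_isPGroup [Finite G] [Fact p.Prime] {Y L : Subgroup G} (hYL : Y ≤ L)
    (hYO : ¬ Y ≤ pCoreOf p L) : ¬ IsPGroup p L := fun h =>
  hYO (hYL.trans (le_pCoreOf le_rfl le_normalizer h))

/-- `L = ⟨Y, y₀⟩` for some conjugate `y₀` of an element of `Y`. -/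
theorem exists_generator [Finite G] [Fact p.Prime] {Y L : Subgroup G} (hYL : Y ≤ L)
    (hYO : ¬ Y ≤ pCoreOf p L) (hYp : IsPGroup p Y)
    (hmin : ∀ L' : Subgroup G, L' ≤ L → Y ≤ L' → ¬ Y ≤ pCoreOf p L' → L' = L) :
    ∃ h ∈ L, ∃ y0 ∈ Y.map (MulAut.conj h).toMonoidHom, Y ⊔ zpowers y0 = L := by
  obtain ⟨y, hy, hyO⟩ := SetLike.not_le_iff_exists.1 hYO
  have hex : ∃ g : ↥L,
      ¬ IsPGroup p (closure ({⟨y, hYL hy⟩, g * ⟨y, hYL hy⟩ * g⁻¹} : Set ↥L)) := by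
    by_contra hno
    obtain ⟨N, hN, hNp, hyN⟩ :=
      CfsgLib.Involutions.exists_normal_isPGroup_of_mem fun g => not_exists_not.1 hno g
    exact hyO ⟨⟨y, hYL hy⟩, CfsgLib.PCore.le_pCore hN hNp hyN, rfl⟩
  obtain ⟨⟨h, hh⟩, hg⟩ := hex
  set y0 : G := h * y * h⁻¹ with hy0
  have hy0L : y0 ∈ L := mul_mem (mul_mem hh (hYL hy)) (inv_mem hh)
  refine ⟨h, hh, y0, ⟨y, hy, rfl⟩, ?_⟩
  by_contra hne
  have hXL : Y ⊔ zpowers y0 ≤ L := sup_le hYL (zpowers_le.2 hy0L)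
  have hYP : Y ≤ pCoreOf p (Y ⊔ zpowers y0) := by
    by_contra h'
    exact hne (hmin _ hXL le_sup_left h')
  have hz : IsPGroup p (zpowers y0) :=
    (hYp.map (MulAut.conj h).toMonoidHom).to_le (zpowers_le.2 ⟨y, hy, rfl⟩)
  have hp : IsPGroup p (zpowers y0 ⊔ pCoreOf p (Y ⊔ zpowers y0) : Subgroup G) :=
    isPGroup_sup hz (isPGroup_pCoreOf _) (le_sup_right.trans (le_normalizer_pCoreOf _))
  refine hg ((hp.comap_of_injective L.subtype L.subtype_injective).to_le ?_)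
  rw [closure_le]
  intro x hx
  rcases hx with rfl | rfl
  · exact (le_sup_right : pCoreOf p (Y ⊔ zpowers y0) ≤ _) (hYP hy)
  · exact (le_sup_left : zpowers y0 ≤ _) (mem_zpowers y0)

/-- The common data of the L-lemma: `L = ⟨Y, y₀⟩`, `y₀ ∈ Y' = Y^h`, `L ≤ H`, `O` a normal
`p`-subgroup of `H` normalizing `Y`, and `Y ⊓ Y'` central in `H`. -/
structure Data (p : ℕ) (H O Y L : Subgroup G) (h y0 : G) : Prop where
  hOH : O ≤ H
  hHO : H ≤ normalizer (O : Set G)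
  hOp : IsPGroup p O
  hchar : centralizer (pCore p ↥H : Set ↥H) ≤ pCore p ↥H
  hO : pCoreOf p H = O
  hYab : Y ≤ centralizer (Y : Set G)
  hOY : O ≤ normalizer (Y : Set G)
  hYL : Y ≤ L
  hLH : L ≤ H
  hh : h ∈ L
  hy0 : y0 ∈ Y.map (MulAut.conj h).toMonoidHom
  hgen : Y ⊔ zpowers y0 = L
  hcl : ∀ K : Subgroup G, Y ≤ K → (∀ l ∈ L, ∀ k ∈ K, l * k * l⁻¹ ∈ K) → L ≤ K
  hZ : ∀ z ∈ Y, z ∈ Y.map (MulAut.conj h).toMonoidHom → ∀ x ∈ H, z * x = x * z

variable {H O Y L : Subgroup G} {h y0 : G}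

namespace Data

theorem hY'L (S : Data p H O Y L h y0) : Y.map (MulAut.conj h).toMonoidHom ≤ L := by
  rintro _ ⟨y, hy, rfl⟩
  exact mul_mem (mul_mem S.hh (S.hYL hy)) (inv_mem S.hh)

theorem le_sup_cj (S : Data p H O Y L h y0) : L ≤ Y ⊔ Y.map (MulAut.conj h).toMonoidHom :=
  S.hgen.ge.trans (sup_le le_sup_left ((zpowers_le.2 S.hy0).trans le_sup_right))

theorem conj_mem_O (S : Data p H O Y L h y0) {x q : G} (hx : x ∈ H) (hq : q ∈ O) :
    x * q * x⁻¹ ∈ O :=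
  conj_mem_of_normalizer (S.hHO hx) hq

/-- `O` normalizes the `H`-conjugates of `Y`. -/
theorem O_le_normalizer_cj (S : Data p H O Y L h y0) {l : G} (hl : l ∈ H) :
    O ≤ normalizer ((Y.map (MulAut.conj l).toMonoidHom : Subgroup G) : Set G) :=
  le_normalizer_cj (cj_le_iff.2 fun _ hx => S.hOY (S.conj_mem_O (inv_mem hl) hx))

theorem comm_mem (S : Data p H O Y L h y0) {l q y : G} (hl : l ∈ H) (hq : q ∈ O)
    (hy : y ∈ Y.map (MulAut.conj l).toMonoidHom) :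
    q * y * q⁻¹ * y⁻¹ ∈ Y.map (MulAut.conj l).toMonoidHom ⊓ O := by
  have hyH : y ∈ H := by
    obtain ⟨z, hz, rfl⟩ := hy
    exact mul_mem (mul_mem hl (S.hLH (S.hYL hz))) (inv_mem hl)
  refine Subgroup.mem_inf.2 ⟨mul_mem (conj_mem_of_normalizer (S.O_le_normalizer_cj hl hq) hy)
    (inv_mem hy), ?_⟩
  rw [show q * y * q⁻¹ * y⁻¹ = q * (y * q⁻¹ * y⁻¹) by group]
  exact mul_mem hq (S.conj_mem_O hyH (inv_mem hq))

theorem comm_mem_left (S : Data p H O Y L h y0) {q y : G} (hq : q ∈ O) (hy : y ∈ Y) :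
    q * y * q⁻¹ * y⁻¹ ∈ Y ⊓ O := by
  have := S.comm_mem (l := 1) (one_mem H) hq (by rw [cj_one]; exact hy)
  rwa [cj_one] at this

theorem y'_commute (S : Data p H O Y L h y0) {a b : G} (ha : a ∈ Y.map (MulAut.conj h).toMonoidHom)
    (hb : b ∈ Y.map (MulAut.conj h).toMonoidHom) : a * b = b * a := by
  obtain ⟨a, ha', rfl⟩ := ha
  obtain ⟨b, hb', rfl⟩ := hb
  rw [← map_mul, ← map_mul, S.hYab hb' a ha']

/-- An element of `O` centralizing `Y` and `y₀` modulo the central part centralizes `L`. -/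
theorem commute_L (S : Data p H O Y L h y0) {q : G} (hq : q ∈ O) (hqY : ∀ y ∈ Y, q * y = y * q)
    (h0 : q * y0 * q⁻¹ * y0⁻¹ ∈ Y ⊓ Y.map (MulAut.conj h).toMonoidHom) :
    ∀ l ∈ L, q * l = l * q := by
  set Z := Y ⊓ Y.map (MulAut.conj h).toMonoidHom with hZdef
  have hc : ∀ z ∈ Z, ∀ x ∈ H, x * z * x⁻¹ = z := fun z hz x hx => by
    rw [← S.hZ z hz.1 hz.2 x hx, mul_inv_cancel_right]
  let X : Subgroup G :=
    { carrier := {l | l ∈ L ∧ q * l * q⁻¹ * l⁻¹ ∈ Z}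
      one_mem' := ⟨one_mem _, by simp⟩
      mul_mem' := by
        rintro a b ⟨ha, ha'⟩ ⟨hb, hb'⟩
        refine ⟨mul_mem ha hb, ?_⟩
        rw [show q * (a * b) * q⁻¹ * (a * b)⁻¹ =
          (q * a * q⁻¹ * a⁻¹) * (a * (q * b * q⁻¹ * b⁻¹) * a⁻¹) by group, hc _ hb' a (S.hLH ha)]
        exact mul_mem ha' hb'
      inv_mem' := by
        rintro a ⟨ha, ha'⟩
        refine ⟨inv_mem ha, ?_⟩
        rw [show q * a⁻¹ * q⁻¹ * a⁻¹⁻¹ = a⁻¹ * (q * a * q⁻¹ * a⁻¹)⁻¹ * a⁻¹⁻¹ by group,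
          hc _ (inv_mem ha') _ (inv_mem (S.hLH ha))]
        exact inv_mem ha' }
  have hX : L ≤ X := by
    refine S.hgen.ge.trans (sup_le (fun y hy => ⟨S.hYL hy, ?_⟩)
      (zpowers_le.2 ⟨S.hY'L S.hy0, h0⟩))
    rw [hqY y hy]; simp
  have hle : L ≤ centralizer ({q} : Set G) ⊓ L := by
    refine S.hcl _ (le_inf (centralizer_singleton_le_iff.2 fun y hy => hqY y hy) S.hYL) ?_
    intro l hl k hk
    refine Subgroup.mem_inf.2 ⟨?_, mul_mem (mul_mem hl hk.2) (inv_mem hl)⟩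
    have hcl : q * l * q⁻¹ * l⁻¹ ∈ Z := (hX hl).2
    set m := l * k * l⁻¹ with hm
    have hmH : m ∈ H := S.hLH (mul_mem (mul_mem hl hk.2) (inv_mem hl))
    have hk' : q * k = k * q := hk.1 q rfl
    have e : q * m * q⁻¹ = m := by
      rw [hm, show q * (l * k * l⁻¹) * q⁻¹ =
        (q * l * q⁻¹ * l⁻¹) * (l * (q * k * q⁻¹) * l⁻¹) * (q * l * q⁻¹ * l⁻¹)⁻¹ by group,
        hk', mul_inv_cancel_right, ← hm, S.hZ _ hcl.1 hcl.2 m hmH, mul_inv_cancel_right]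
    intro z hz
    rw [Set.mem_singleton_iff] at hz
    subst hz
    exact mul_inv_eq_iff_eq_mul.1 e
  exact fun l hl => (hle hl).1 q rfl

theorem map_D (S : Data p H O Y L h y0) :
    (Y ⊓ O).map (MulAut.conj h).toMonoidHom = Y.map (MulAut.conj h).toMonoidHom ⊓ O := by
  rw [Subgroup.map_inf _ _ _ (MulAut.conj h).injective,
    cj_eq_of_mem_normalizer (S.hHO (S.hLH S.hh))]

/-- An element of `O` centralizing `L` and lying in `Y` or `Y^h` lies in both. -/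
theorem mem_cj_of_commute (S : Data p H O Y L h y0) {d : G} (hd : d ∈ Y)
    (hc : ∀ l ∈ L, d * l = l * d) : d ∈ Y.map (MulAut.conj h).toMonoidHom :=
  ⟨d, hd, by
    show h * d * h⁻¹ = d
    rw [← hc h S.hh, mul_inv_cancel_right]⟩

/-- `C_O(Y) = (Y ⊓ O) C_O(L)`. -/
theorem decomp [Finite G] (S : Data p H O Y L h y0) {e : G} (he : e ∈ O)
    (heY : ∀ y ∈ Y, e * y = y * e) :
    ∃ d ∈ Y ⊓ O, ∀ l ∈ L, d⁻¹ * e * l = l * (d⁻¹ * e) := by
  set Y' := Y.map (MulAut.conj h).toMonoidHom with hY'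
  set D := Y ⊓ O with hD
  set D' := Y' ⊓ O with hD'
  set Z' := (Y ⊓ Y').subgroupOf D' with hZ'
  have hcD' : ∀ a b : ↥D', a * b = b * a := fun a b => Subtype.ext (S.y'_commute a.2.1 b.2.1)
  haveI : Z'.Normal := ⟨fun z hz a => by rw [hcD' a z, mul_inv_cancel_right]; exact hz⟩
  have hhH : h ∈ H := S.hLH S.hh
  let w : ↥D → ↥D' := fun d =>
    ⟨(d : G) * y0 * (d : G)⁻¹ * y0⁻¹, S.comm_mem hhH d.2.2 S.hy0⟩
  let f : ↥D →* ↥D' ⧸ Z' := MonoidHom.mk' (fun d => QuotientGroup.mk' Z' (w d)) (by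
    intro a b
    let u : ↥D' := ⟨(a : G) * (w b : G) * (a : G)⁻¹ * (w b : G)⁻¹, by
      refine Subgroup.mem_inf.2 ⟨mul_mem (conj_mem_of_normalizer (S.O_le_normalizer_cj hhH a.2.2)
        (w b).2.1) (inv_mem (w b).2.1), ?_⟩
      exact mul_mem (mul_mem (mul_mem a.2.2 (w b).2.2) (inv_mem a.2.2)) (inv_mem (w b).2.2)⟩
    have hu : u ∈ Z' := by
      refine mem_subgroupOf.2 ⟨?_, u.2.1⟩
      show (a : G) * (w b : G) * (a : G)⁻¹ * (w b : G)⁻¹ ∈ Y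
      rw [show (a : G) * (w b : G) * (a : G)⁻¹ * (w b : G)⁻¹ =
        (a : G) * ((w b : G) * (a : G)⁻¹ * (w b : G)⁻¹) by group]
      exact mul_mem a.2.1 (conj_mem_of_normalizer (S.hOY (w b).2.2) (inv_mem a.2.1))
    have e1 : w (a * b) = u * (w b * w a) := Subtype.ext (by
      show ((a : G) * b) * y0 * ((a : G) * b)⁻¹ * y0⁻¹ =
        ((a : G) * ((b : G) * y0 * (b : G)⁻¹ * y0⁻¹) * (a : G)⁻¹ *
          ((b : G) * y0 * (b : G)⁻¹ * y0⁻¹)⁻¹) *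
        (((b : G) * y0 * (b : G)⁻¹ * y0⁻¹) * ((a : G) * y0 * (a : G)⁻¹ * y0⁻¹))
      group)
    show QuotientGroup.mk' Z' (w (a * b)) = _ * _
    rw [e1, map_mul, show QuotientGroup.mk' Z' u = 1 from (QuotientGroup.eq_one_iff u).2 hu,
      one_mul, hcD' (w b), map_mul])
  have hker : f.ker ≤ (Y ⊓ Y').subgroupOf D := by
    intro d hd
    have h0 : (w d : G) ∈ Y ⊓ Y' :=
      mem_subgroupOf.1 ((QuotientGroup.eq_one_iff (w d)).1 (MonoidHom.mem_ker.1 hd))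
    have hdL := S.commute_L d.2.2 (fun y hy => S.hYab hy d d.2.1) h0
    exact mem_subgroupOf.2 ⟨d.2.1, S.mem_cj_of_commute d.2.1 hdL⟩
  have hcardker : Nat.card f.ker ≤ Nat.card Z' := by
    let g : ↥f.ker → ↥Z' := fun x =>
      ⟨⟨((x : ↥D) : G), (mem_subgroupOf.1 (hker x.2)).2, (x : ↥D).2.2⟩,
        mem_subgroupOf.2 (mem_subgroupOf.1 (hker x.2))⟩
    refine Nat.card_le_card_of_injective g fun a b hab => ?_
    exact Subtype.ext (Subtype.ext (congrArg (fun z : ↥Z' => ((z : ↥D') : G)) hab))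
  have hDD' : Nat.card D = Nat.card D' := by
    rw [hD', hY', ← S.map_D, Subgroup.card_map_of_injective (MulAut.conj h).injective]
  have h1 := Subgroup.card_eq_card_quotient_mul_card_subgroup f.ker
  have h2 := Subgroup.card_eq_card_quotient_mul_card_subgroup Z'
  rw [Nat.card_congr (QuotientGroup.quotientKerEquivRange f).toEquiv, hDD', h2] at h1
  have htop : f.range = ⊤ := by
    have h3 : Nat.card (↥D' ⧸ Z') * Nat.card Z' ≤ Nat.card f.range * Nat.card Z' := by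
      rw [h1]
      exact Nat.mul_le_mul_left _ hcardker
    exact Subgroup.eq_top_of_le_card _ (Nat.le_of_mul_le_mul_right h3 Nat.card_pos)
  let we : ↥D' := ⟨e * y0 * e⁻¹ * y0⁻¹, S.comm_mem hhH he S.hy0⟩
  obtain ⟨d, hd⟩ := f.range_eq_top.1 htop (QuotientGroup.mk' Z' we)
  have hd' : we * (w d)⁻¹ ∈ Z' := by
    rw [← QuotientGroup.eq_one_iff, ← QuotientGroup.mk'_apply, map_mul, map_inv,
      show QuotientGroup.mk' Z' (w d) = QuotientGroup.mk' Z' we from hd, mul_inv_cancel]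
  refine ⟨d, d.2, S.commute_L (mul_mem (inv_mem d.2.2) he) (fun y hy => ?_) ?_⟩
  · have hdy : Commute (d : G)⁻¹ y := (show Commute (d : G) y from S.hYab hy d d.2.1).inv_left
    exact (hdy.mul_left (heY y hy)).eq
  · have hd'' : (we : G) * (w d : G)⁻¹ ∈ Y ⊓ Y' := mem_subgroupOf.1 hd'
    have e3 := S.hZ _ hd''.1 hd''.2 (d : G) (S.hOH d.2.2)
    have e4 : (d : G)⁻¹ * e * y0 * ((d : G)⁻¹ * e)⁻¹ * y0⁻¹ =
        (d : G)⁻¹ * ((we : G) * (w d : G)⁻¹) * d := by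
      show _ = (d : G)⁻¹ * ((e * y0 * e⁻¹ * y0⁻¹) * ((d : G) * y0 * (d : G)⁻¹ * y0⁻¹)⁻¹) * d
      group
    rw [e4, mul_assoc, e3, inv_mul_cancel_left]
    exact hd''

theorem le_normalizer_V0 [Finite G] (S : Data p H O Y L h y0) :
    L ≤ normalizer (((Y ⊓ O) ⊔ (Y.map (MulAut.conj h).toMonoidHom ⊓ O) : Subgroup G) : Set G) := by
  set V := (Y ⊓ O) ⊔ (Y.map (MulAut.conj h).toMonoidHom ⊓ O) with hV
  have hVO : V ≤ O := sup_le inf_le_right inf_le_right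
  refine S.le_sup_cj.trans (sup_le (fun y hy => ?_) (fun y hy => ?_)) <;>
    refine mem_normalizer_of_conj_mem fun v hv => ?_
  · rw [show y * v * y⁻¹ = (v * y * v⁻¹ * y⁻¹)⁻¹ * v by group]
    exact mul_mem (inv_mem ((le_sup_left : Y ⊓ O ≤ V) (S.comm_mem_left (hVO hv) hy))) hv
  · rw [show y * v * y⁻¹ = (v * y * v⁻¹ * y⁻¹)⁻¹ * v by group]
    exact mul_mem
      (inv_mem ((le_sup_right : _ ≤ V) (S.comm_mem (S.hLH S.hh) (hVO hv) hy))) hv

/-- `C(Y)` meets `(Y ⊓ O)(Y^h ⊓ O)` in `Y ⊓ O`. -/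
theorem mem_D_of_commute [Finite G] (S : Data p H O Y L h y0) {v : G}
    (hv : v ∈ (Y ⊓ O) ⊔ (Y.map (MulAut.conj h).toMonoidHom ⊓ O))
    (hc : ∀ y ∈ Y, v * y = y * v) : v ∈ Y ⊓ O := by
  set D' := Y.map (MulAut.conj h).toMonoidHom ⊓ O with hD'
  have hn : D' ≤ normalizer ((Y ⊓ O : Subgroup G) : Set G) :=
    inf_le_right.trans ((le_inf S.hOY le_normalizer).trans normalizer_le_normalizer_inf)
  have hv' : v ∈ (↑((Y ⊓ O) ⊔ D') : Set G) := hv
  rw [coe_mul_of_right_le_normalizer_left _ _ hn] at hv'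
  obtain ⟨d, hd, w, hw, rfl⟩ := hv'
  have hwY : ∀ y ∈ Y, w * y = y * w := fun y hy => by
    have h1 : Commute d y := S.hYab hy d hd.1
    have h2 : Commute (d * w) y := hc y hy
    have h3 := h1.inv_left.mul_left h2
    rwa [inv_mul_cancel_left] at h3
  have hwL : L ≤ centralizer ({w} : Set G) := S.le_sup_cj.trans (sup_le
    (centralizer_singleton_le_iff.2 hwY)
    (centralizer_singleton_le_iff.2 fun k hk => S.y'_commute hw.1 hk))
  have hwY' : w ∈ Y := by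
    obtain ⟨u, hu, huw⟩ := hw.1
    have h4 : w * h = h * w := hwL S.hh w rfl
    have h5 : h * u * h⁻¹ = w := huw
    have h6 : u = w := by
      calc u = h⁻¹ * (h * u * h⁻¹) * h := by group
        _ = h⁻¹ * (w * h) := by rw [h5, mul_assoc]
        _ = w := by rw [h4, inv_mul_cancel_left]
    exact h6 ▸ hu
  exact mul_mem hd ⟨hwY', hw.2⟩

end Data

end CfsgLib.Large.LLemma
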