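import Cfsg.Agent.Lib.InvChar.M24SylowData
import Cfsg.Agent.Lib.Schur.GolaySearch

/-!
The explicit Sylow 2-subgroup of the group of the 24-point code is its own normalizer: a normalizing
element preserves orbit lengths of point stabilizers, is thereby moved into the pointwise stabilizer
of three points, and a search leaves only the identity there.
-/

set_option autoImplicit false

namespace CfsgLib.Large.M24SelfNorm

open Cfsg CfsgLib.Golay CfsgLib.FusionMathieu CfsgLib.InvChar.M24Syl CfsgLib.Schur.GolaySearch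

/-- `l` fixes the positions of `T`. -/
def fixesAll (T : List ℕ) (l : List ℕ) : Bool := T.all fun t => Nat.beq (l.getD t 0) t

/-- Add the images under `l` to the orbit masks. -/
def addImages (acc l : List ℕ) : List ℕ := List.zipWith (fun m i => m ||| 2 ^ i) acc l

/-- The orbit masks of the entries fixing `T`. -/
def orbMasks (T : List ℕ) : List ℕ :=
  ((elts gens).filter (fixesAll T)).foldl addImages (List.replicate 24 0)

/-- The orbit masks, by fixed set. -/
def tab : List (List ℕ × List ℕ) := [
    ([], [5721951, 5721951, 5721951, 5721951, 5721951, 11055264, 5721951, 11055264, 5721951, 5721951, 5721951, 5721951, 11055264, 11055264, 5721951, 11055264, 5721951, 5721951, 5721951, 11055264, 5721951, 11055264, 5721951, 11055264]),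
    ([0], [1, 1378634, 4, 1378634, 16400, 11055264, 1378634, 11055264, 1378634, 4326912, 4326912, 1378634, 11055264, 11055264, 16400, 11055264, 1378634, 4326912, 1378634, 11055264, 1378634, 11055264, 4326912, 11055264]),
    ([1], [4343317, 2, 4343317, 329736, 4343317, 11055264, 64, 11055264, 1048832, 4343317, 4343317, 329736, 11055264, 11055264, 4343317, 11055264, 329736, 4343317, 329736, 11055264, 1048832, 11055264, 4343317, 11055264]),
    ([5], [5721951, 5721951, 5721951, 5721951, 5721951, 32, 5721951, 128, 5721951, 5721951, 5721951, 5721951, 8949760, 2105344, 5721951, 8949760, 5721951, 5721951, 5721951, 8949760, 5721951, 2105344, 5721951, 8949760]),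
    ([0, 1], [1, 2, 4, 329736, 16400, 11055264, 64, 11055264, 1048832, 4326912, 4326912, 329736, 11055264, 11055264, 16400, 11055264, 329736, 4326912, 329736, 11055264, 1048832, 11055264, 4326912, 11055264]),
    ([0, 5], [1, 1378634, 4, 1378634, 16400, 32, 1378634, 128, 1378634, 4326912, 4326912, 1378634, 8949760, 2105344, 16400, 8949760, 1378634, 4326912, 1378634, 8949760, 1378634, 2105344, 4326912, 8949760]),
    ([1, 5], [4343317, 2, 4343317, 329736, 4343317, 32, 64, 128, 1048832, 4343317, 4343317, 329736, 8949760, 2105344, 4343317, 8949760, 329736, 4343317, 329736, 8949760, 1048832, 2105344, 4343317, 8949760]),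
    ([0, 1, 5], [1, 2, 4, 8, 16, 32, 64, 128, 256, 512, 1024, 2048, 4096, 8192, 16384, 32768, 65536, 131072, 262144, 524288, 1048576, 2097152, 4194304, 8388608])]

/-- Lookup in the table. -/
def tabMask (T : List ℕ) (y : ℕ) : ℕ :=
  ((tab.find? fun e => e.1 == T).map fun e => e.2.getD y 0).getD 0

/-- The orbit length of `y` under the entries fixing `T`. -/
def orbLen (T : List ℕ) (y : ℕ) : ℕ :=
  ((List.finRange 24).filter fun w : Fin 24 => (tabMask T y).testBit w.val).length

/-- The table is correct at `T`. -/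
def tabOk (T : List ℕ) : Bool := orbMasks T == (List.range 24).map (tabMask T)

/-- All entries are lists of length 24. -/
def lenOk : Bool := (elts gens).all fun l => Nat.beq l.length 24

/-- The invariants agree. -/
def sameInv (fix : List ℕ) (x y : ℕ) : Bool :=
  fix.sublists.all fun T => Nat.beq (orbLen T y) (orbLen T x)

/-- Every candidate is in the orbit. -/
def stepOk (fix : List ℕ) (x : ℕ) : Bool :=
  (List.range 24).all fun y => !(sameInv fix x y) || (tabMask fix x).testBit y

/-- The stages of the search. -/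
def stages : List Stage := [
    ([2], [], [2]),
    ([6], [], [6]),
    ([7], [], [7]),
    ([0], [], [0, 2]),
    ([1], [], [1, 6]),
    ([4], [], [4, 14]),
    ([5], [], [5, 7]),
    ([8], [], [8, 20]),
    ([13], [], [13, 21]),
    ([14], [], [4, 14]),
    ([20], [1065303], [8, 20]),
    ([21], [2121909], [13, 21]),
    ([3], [], [3, 11, 16, 18]),
    ([11], [10558], [3, 11, 16, 18]),
    ([16], [84464], [3, 11, 16, 18]),
    ([18], [262637], [3, 11, 16, 18]),
    ([9], [], [9, 10, 17, 22]),
    ([10], [18147], [9, 10, 17, 22]),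
    ([12], [5279], [12, 15, 19, 23]),
    ([15], [36294], [12, 15, 19, 23]),
    ([17], [133817], [9, 10, 17, 22]),
    ([19], [525274], [12, 15, 19, 23]),
    ([22], [4196943], [9, 10, 17, 22]),
    ([23], [8391797], [12, 15, 19, 23])]

/-- The candidate lists contain every point with the same invariants. -/
def candOk : Bool :=
  stages.all fun s => Nat.beq (s.1.length) 1 &&
    let x := s.1.headI
    (List.range 24).all fun y =>
      s.2.2.contains y || !(sameInv [0, 1, 5] x y) || (([0, 1, 5].contains y) && !(Nat.beq x y))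

set_option maxRecDepth 100000 in
theorem tab_nil : tabOk [] = true := by
  decide +kernel

set_option maxRecDepth 100000 in
theorem tab_zero : tabOk [0] = true := by
  decide +kernel

set_option maxRecDepth 100000 in
theorem tab_one : tabOk [1] = true := by
  decide +kernel

set_option maxRecDepth 100000 in
theorem tab_five : tabOk [5] = true := by
  decide +kernel

set_option maxRecDepth 100000 in
theorem tab_zero_one : tabOk [0, 1] = true := by
  decide +kernel

set_option maxRecDepth 100000 in
theorem tab_zero_five : tabOk [0, 5] = true := by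
  decide +kernel

set_option maxRecDepth 100000 in
theorem tab_one_five : tabOk [1, 5] = true := by
  decide +kernel

set_option maxRecDepth 100000 in
theorem tab_all : tabOk [0, 1, 5] = true := by
  decide +kernel

set_option maxRecDepth 100000 in
theorem len_ok : lenOk = true := by
  decide +kernel

set_option maxRecDepth 100000 in
theorem checks : (stepOk [] 0 && stepOk [0] 1 && stepOk [0, 1] 5 && candOk) = true := by
  decide +kernel

set_option maxRecDepth 100000 in
theorem search_ok : (stagesOK (List.range 24) 0 stages &&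
    searchImg (List.range 24) 0 stages (List.replicate 24 0) == [List.range 24]) = true := by
  decide +kernel

theorem testBit_foldl : ∀ (E : List (List ℕ)) (acc : List ℕ), (∀ l ∈ E, l.length = 24) →
    acc.length = 24 → ∀ y w : ℕ, y < 24 → (((E.foldl addImages acc).getD y 0).testBit w = true ↔
      (acc.getD y 0).testBit w = true ∨ ∃ l ∈ E, l.getD y 0 = w) := by
  intro E
  induction E with
  | nil => simp
  | cons l E ih =>
    intro acc hlen hacc y w hy
    rw [List.foldl_cons, ih _ (fun k hk => hlen k (List.mem_cons_of_mem _ hk))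
      (by simp [addImages, hacc, hlen l List.mem_cons_self]) y w hy]
    have hl := hlen l List.mem_cons_self
    have h1 : (addImages acc l).getD y 0 = acc.getD y 0 ||| 2 ^ (l.getD y 0) := by
      rw [addImages, List.getD_eq_getElem _ _ (by simp [hacc, hl, hy]), List.getElem_zipWith,
        List.getD_eq_getElem _ _ (by omega), List.getD_eq_getElem _ _ (by omega)]
    rw [h1, Nat.testBit_or, Bool.or_eq_true, Nat.testBit_two_pow, decide_eq_true_eq]
    simp only [List.mem_cons, exists_eq_or_imp, or_assoc]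

theorem tabOk_of_sublist {T : List ℕ} (hT : T.Sublist [0, 1, 5]) : tabOk T = true := by
  have : T ∈ [[], [0], [1], [0, 1], [5], [0, 5], [1, 5], [0, 1, 5]] :=
    (by decide +kernel : ∀ T ∈ ([0, 1, 5] : List ℕ).sublists,
      T ∈ [[], [0], [1], [0, 1], [5], [0, 5], [1, 5], [0, 1, 5]]) T (List.mem_sublists.2 hT)
  fin_cases this
  exacts [tab_nil, tab_zero, tab_one, tab_zero_one, tab_five, tab_zero_five, tab_one_five, tab_all]

theorem mem_tabMask {T : List ℕ} (hT : T.Sublist [0, 1, 5]) (y : Fin 24) (w : ℕ) :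
    (tabMask T y.val).testBit w = true ↔
      ∃ l ∈ elts gens, fixesAll T l = true ∧ l.getD y.val 0 = w := by
  have h := beq_iff_eq.1 (tabOk_of_sublist hT)
  have hy : (orbMasks T).getD y.val 0 = tabMask T y.val := by
    rw [h, List.getD_eq_getElem _ _ (by simp), List.getElem_map, List.getElem_range]
  have hl := len_ok
  rw [lenOk, List.all_eq_true] at hl
  rw [← hy, orbMasks, testBit_foldl _ _ (fun l hl' => Nat.eq_of_beq_eq_true
    (hl l (List.mem_filter.1 hl').1)) (by simp) y.val w y.isLt]
  have h0 : (List.replicate 24 0).getD y.val 0 = 0 := by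
    rw [List.getD_eq_getElem _ _ (by simp), List.getElem_replicate]
  rw [h0]
  simp [List.mem_filter, and_assoc]

theorem chain_ok : chainOk gens = true ∧ gens.all inG24 = true := by
  have h := ok_true
  simp only [ok, Bool.and_eq_true] at h
  exact ⟨h.1.1.1, h.1.2⟩

theorem toList_getD_fin (σ : Equiv.Perm GolayPt) (i : Fin 24) :
    (toList σ).getD i.val 0 = (idx (σ (pt i))).val := by
  have := toList_getD σ (pt i)
  rwa [idx_pt] at this

/-- A permutation normalizing the group of `E` with the listed points fixed preserves orbit lengths. -/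
theorem orbLen_le {P : Subgroup (Equiv.Perm GolayPt)}
    (hPE : ∀ π : Equiv.Perm GolayPt, π ∈ P ↔ toList π ∈ elts gens)
    (hEP : ∀ l ∈ elts gens, ∃ π : Equiv.Perm GolayPt, toList π = l)
    {σ : Equiv.Perm GolayPt} (hσ : ∀ π ∈ P, σ * π * σ⁻¹ ∈ P) {T : List ℕ}
    (hTs : T.Sublist [0, 1, 5]) (hT : ∀ t ∈ T, ∀ i : Fin 24, i.val = t → σ (pt i) = pt i) (hT24 : ∀ t ∈ T, t < 24) (y : Fin 24) :
    orbLen T y.val ≤ orbLen T (idx (σ (pt y))).val := by
  unfold orbLen
  rw [← List.toFinset_card_of_nodup ((List.nodup_finRange 24).filter _),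
    ← List.toFinset_card_of_nodup ((List.nodup_finRange 24).filter _)]
  refine Finset.card_le_card_of_injOn (fun w => idx (σ (pt w))) ?_ ?_
  · intro w hw
    simp only [Finset.mem_coe, List.mem_toFinset, List.mem_filter, List.mem_finRange, true_and,
      mem_tabMask hTs] at hw ⊢
    obtain ⟨l, hl, hfix, hlw⟩ := hw
    obtain ⟨π, rfl⟩ := hEP l hl
    rw [fixesAll, List.all_eq_true] at hfix
    refine ⟨toList (σ * π * σ⁻¹), (hPE _).1 (hσ π ((hPE π).2 hl)), ?_, ?_⟩
    · rw [fixesAll, List.all_eq_true]
      intro t ht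
      have h1 := Nat.eq_of_beq_eq_true (hfix t ht)
      set i : Fin 24 := ⟨t, hT24 t ht⟩
      rw [show t = i.val from rfl, toList_getD_fin] at h1
      rw [show t = i.val from rfl, toList_getD_fin]
      have h2 : σ (pt i) = pt i := hT t ht i rfl
      have h3 : π (pt i) = pt i := by rw [← pt_idx (π (pt i)), Fin.ext h1]
      rw [Equiv.Perm.mul_apply, Equiv.Perm.mul_apply, Equiv.Perm.inv_eq_iff_eq.2 h2.symm, h3, h2,
        idx_pt]
      exact Nat.beq_refl _
    · have h1 := hlw
      rw [toList_getD_fin] at h1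
      rw [toList_getD_fin, Equiv.Perm.mul_apply, Equiv.Perm.mul_apply, pt_idx,
        Equiv.Perm.inv_def, Equiv.symm_apply_apply, ← pt_idx (π (pt y)), Fin.ext h1]
  · intro a _ b _ h
    exact ptEquiv.injective (σ.injective (idx_injective h))

theorem normalizer_eq : ∃ P : Subgroup M24, Nat.card P = 2 ^ 10 ∧
    Subgroup.normalizer (P : Set M24) = P := by
  obtain ⟨hch, hin⟩ := chain_ok
  obtain ⟨P₀, hP₀, hP₀card, hP₀cl⟩ := exists_chain gens hch
  have hP₀le : P₀ ≤ M24 := by
    rw [hP₀cl, Subgroup.closure_le]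
    intro σ hσ
    exact (mem_M24_iff' σ).mpr (List.all_eq_true.1 hin _ hσ)
  refine ⟨P₀.subgroupOf M24, (Nat.card_congr (Subgroup.subgroupOfEquivOfLe hP₀le).toEquiv).trans
    (hP₀card.trans (by rfl)), le_antisymm (fun s hs => ?_) Subgroup.le_normalizer⟩
  let Nm : Subgroup (Equiv.Perm GolayPt) := Subgroup.normalizer (P₀ : Set (Equiv.Perm GolayPt))
  have hsN : (s : Equiv.Perm GolayPt) ∈ Nm := by
    rw [Subgroup.mem_normalizer_iff]
    intro π
    constructor
    · intro hπ
      exact (Subgroup.mem_normalizer_iff.1 hs ⟨π, hP₀le hπ⟩).1 hπ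
    · intro h
      have hπ : π ∈ M24 := by
        have := M24.mul_mem (M24.mul_mem (M24.inv_mem s.2) (hP₀le h)) s.2
        simpa [mul_assoc] using this
      exact (Subgroup.mem_normalizer_iff.1 hs ⟨π, hπ⟩).2 h
  have hck := checks
  simp only [Bool.and_eq_true] at hck
  obtain ⟨⟨⟨hs0, hs1⟩, hs2⟩, hcand⟩ := hck
  -- moving one more point back
  have hinv : ∀ σ ∈ Nm, ∀ fix : List ℕ, (∀ t ∈ fix, ∀ i : Fin 24, i.val = t → σ (pt i) = pt i) →
      (∀ t ∈ fix, t < 24) → fix.Sublist [0, 1, 5] → ∀ x : Fin 24, sameInv fix x.val (idx (σ (pt x))).val = true := by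
    intro σ hσ fix hfix h24 hfs x
    rw [sameInv, List.all_eq_true]
    intro T hT
    have hsub := (List.mem_sublists.1 hT).subset
    have hconj : ∀ ρ ∈ Nm, ∀ π ∈ P₀, ρ * π * ρ⁻¹ ∈ P₀ :=
      fun ρ hρ π hπ => (Subgroup.mem_normalizer_iff.1 hρ π).1 hπ
    have hTs := (List.mem_sublists.1 hT).trans hfs
    suffices he : orbLen T (idx (σ (pt x))).val = orbLen T x.val by
      rw [he]
      exact Nat.beq_refl _
    refine le_antisymm ?_ ?_
    · have h := orbLen_le hP₀.1 hP₀.2 (hconj σ⁻¹ (Nm.inv_mem hσ)) (T := T) hTs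
        (fun t ht i hi => Equiv.Perm.inv_eq_iff_eq.2 (hfix t (hsub ht) i hi).symm)
        (fun t ht => h24 t (hsub ht)) (idx (σ (pt x)))
      rwa [pt_idx, Equiv.Perm.inv_def, Equiv.symm_apply_apply, idx_pt] at h
    · exact orbLen_le hP₀.1 hP₀.2 (hconj σ hσ) hTs (fun t ht i hi => hfix t (hsub ht) i hi)
        (fun t ht => h24 t (hsub ht)) x
  have hstep : ∀ (fix : List ℕ) (x : Fin 24), stepOk fix x.val = true → (∀ t ∈ fix, t < 24) →
      fix.Sublist [0, 1, 5] →
      ∀ σ ∈ Nm, (∀ t ∈ fix, ∀ i : Fin 24, i.val = t → σ (pt i) = pt i) →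
        ∃ π ∈ P₀, ∀ t ∈ fix ++ [x.val], ∀ i : Fin 24, i.val = t → (π⁻¹ * σ) (pt i) = pt i := by
    intro fix x hok h24 hfs σ hσ hfix
    have h := List.all_eq_true.1 hok (idx (σ (pt x))).val (List.mem_range.2 (Fin.isLt _))
    rw [Bool.or_eq_true, Bool.not_eq_true', hinv σ hσ fix hfix h24 hfs x] at h
    obtain ⟨l, hl, hlf, hlx⟩ := (mem_tabMask hfs x _).1 (h.resolve_left (by simp))
    simp only [fixesAll, List.all_eq_true] at hlf
    obtain ⟨π, rfl⟩ := hP₀.2 l hl
    refine ⟨π, (hP₀.1 π).2 hl, fun t ht i hi => ?_⟩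
    rw [Equiv.Perm.mul_apply, Equiv.Perm.inv_eq_iff_eq]
    rcases List.mem_append.1 ht with ht | ht
    · have h1 := Nat.eq_of_beq_eq_true (hlf t ht)
      rw [← hi, toList_getD_fin] at h1
      rw [hfix t ht i hi]
      exact (by rw [← pt_idx (π (pt i)), Fin.ext h1] : π (pt i) = pt i).symm
    · rw [List.mem_singleton] at ht
      obtain rfl : i = x := Fin.ext (hi.trans ht)
      have h1 := hlx
      rw [toList_getD_fin] at h1
      exact idx_injective (Fin.ext h1).symm
  have hP₀N : P₀ ≤ Nm := Subgroup.le_normalizer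
  obtain ⟨π₁, hπ₁, hf₁⟩ := hstep [] 0 hs0 (by simp) (by simp) _ hsN (by simp)
  obtain ⟨π₂, hπ₂, hf₂⟩ := hstep [0] 1 hs1 (by simp) (by simp) _
    (Nm.mul_mem (Nm.inv_mem (hP₀N hπ₁)) hsN) hf₁
  obtain ⟨π₃, hπ₃, hf₃⟩ := hstep [0, 1] 5 hs2 (by simp) (by simp) _
    (Nm.mul_mem (Nm.inv_mem (hP₀N hπ₂)) (Nm.mul_mem (Nm.inv_mem (hP₀N hπ₁)) hsN)) hf₂
  set τ := π₃⁻¹ * (π₂⁻¹ * (π₁⁻¹ * (s : Equiv.Perm GolayPt))) with hτ
  have hτN : τ ∈ Nm := Nm.mul_mem (Nm.inv_mem (hP₀N hπ₃))
    (Nm.mul_mem (Nm.inv_mem (hP₀N hπ₂)) (Nm.mul_mem (Nm.inv_mem (hP₀N hπ₁)) hsN))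
  have hτM : τ ∈ M24 := M24.mul_mem (M24.inv_mem (hP₀le hπ₃))
    (M24.mul_mem (M24.inv_mem (hP₀le hπ₂)) (M24.mul_mem (M24.inv_mem (hP₀le hπ₁)) s.2))
  have hso := search_ok
  simp only [Bool.and_eq_true, beq_iff_eq] at hso
  have hmem := mem_searchImg_start (σ := τ) (x := 1) (t := 1) hτM
    (by rw [mul_one, mul_inv_cancel]) toList_one toList_one hso.1 ?_
  · rw [hso.2, List.mem_singleton, ← toList_one] at hmem
    have h1 : τ = 1 := toList_injective hmem
    rw [hτ, inv_mul_eq_one, eq_inv_mul_iff_mul_eq, eq_inv_mul_iff_mul_eq] at h1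
    show (s : Equiv.Perm GolayPt) ∈ P₀
    rw [← h1]
    exact P₀.mul_mem hπ₁ (P₀.mul_mem hπ₂ hπ₃)
  · intro st hst c hc
    have h := List.all_eq_true.1 hcand st hst
    simp only [Bool.and_eq_true] at h
    obtain ⟨hlen, h⟩ := h
    obtain ⟨c', hc'⟩ := List.length_eq_one_iff.1 (Nat.eq_of_beq_eq_true hlen)
    rw [hc', List.head?_cons, Option.some_inj] at hc
    subst hc
    have hx : c' < 24 := by
      have hall : stages.all (fun s => s.1.all (fun c => Nat.blt c 24)) = true := by decide +kernel
      have h2 := List.all_eq_true.1 (List.all_eq_true.1 hall st hst) c' (hc' ▸ List.mem_singleton_self _)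
      exact Nat.le_of_ble_eq_true h2
    set x : Fin 24 := ⟨c', hx⟩
    rw [show c' = x.val from rfl, toList_getD_fin]
    have h2 := List.all_eq_true.1 h (idx (τ (pt x))).val (List.mem_range.2 (Fin.isLt _))
    rw [hc'] at h2
    simp only [List.headI_cons] at h2
    rw [show c' = x.val from rfl,
      hinv τ hτN [0, 1, 5] hf₃ (by simp) (List.Sublist.refl _) x] at h2
    simp only [Bool.not_true, Bool.or_false, Bool.or_eq_true, Bool.and_eq_true,
      List.contains_iff_mem, Bool.not_eq_true'] at h2
    rcases h2 with h2 | ⟨h2, hne⟩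
    · exact h2
    · exfalso
      set y : Fin 24 := idx (τ (pt x))
      have hy : τ (pt y) = pt y := hf₃ y.val (by simpa using h2) y rfl
      have he : pt y = τ (pt x) := pt_idx _
      have hxy : pt y = pt x := τ.injective (hy.trans he)
      rw [(ptEquiv.injective hxy : y = x)] at hne
      exact Bool.noConfusion ((Nat.beq_refl _).symm.trans hne)

end CfsgLib.Large.M24SelfNorm
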