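import Cfsg.Agent.Lib.Large.WcFactor
import Cfsg.Agent.Lib.LocalEven.PIrreducible
import Cfsg.Agent.Lib.Components.Basic

/-!
The residual of the weak closure of a large subgroup above a quasisimple section on a module.
-/

set_option autoImplicit false

namespace CfsgLib.Large.QuasiSection

open Cfsg Subgroup CfsgLib.SubJoin
open scoped commutatorElement

/-- A normal quasisimple subgroup is contained in, or centralizes, a subgroup it normalizes. -/
theorem le_or_centralizes {G : Type*} [Group G] {O M : Subgroup G} [hOn : O.Normal]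
    (hO : IsQuasisimple O) (hM : O ≤ normalizer (M : Set G)) :
    O ≤ M ∨ O ≤ centralizer (M : Set G) := by
  haveI : (M.subgroupOf O).Normal := normal_subgroupOf_of_le_normalizer hM
  rcases CfsgLib.Components.quasisimple_normal_eq_top_or_le_center hO (M.subgroupOf O) with h | h
  · exact Or.inl (subgroupOf_eq_top.1 h)
  refine Or.inr ?_
  have hle : ⁅O, M⁆ ≤ centralizer (O : Set G) := by
    refine commutator_le.2 fun o ho m hm => ?_
    have h1 : ⁅o, m⁆ ∈ M := by
      rw [commutatorElement_def]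
      exact mul_mem (conj_mem_of_normalizer (hM ho) hm) (inv_mem hm)
    have h2 : ⁅o, m⁆ ∈ O := by
      rw [commutatorElement_def, mul_assoc o m, mul_assoc]
      exact mul_mem ho (hOn.conj_mem _ (inv_mem ho) m)
    rw [mem_centralizer_iff]
    intro x hx
    exact congrArg Subtype.val
      (mem_center_iff.1 (h (x := ⟨_, h2⟩) (mem_subgroupOf.2 h1)) ⟨x, hx⟩)
  have h3 : ⁅⁅O, M⁆, O⁆ = ⊥ := commutator_eq_bot_iff_le_centralizer.2 hle
  have h4 : ⁅⁅M, O⁆, O⁆ = ⊥ := by rw [commutator_comm M O]; exact h3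
  have h5 := commutator_commutator_eq_bot_of_rotate (H₁ := O) (H₂ := O) (H₃ := M) h3 h4
  have hperf : ⁅O, O⁆ = O := by
    have h6 := congrArg (Subgroup.map O.subtype) (CfsgLib.Components.quasisimple_commutator_eq_top hO)
    rwa [_root_.commutator_def, Subgroup.map_commutator, ← MonoidHom.range_eq_map, range_subtype] at h6
  rw [hperf] at h5
  exact commutator_eq_bot_iff_le_centralizer.1 h5

/-- A perfect central extension of a quasisimple group is quasisimple. -/
theorem isQuasisimple_of_central {X Y : Type*} [Group X] [Group Y] (hX : _root_.commutator X = ⊤)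
    (f : X →* Y) (hf : Function.Surjective f) (hk : f.ker ≤ center X) (hY : IsQuasisimple Y) :
    IsQuasisimple X := by
  have hcen : center X = (center Y).comap f := by
    refine le_antisymm (fun x hx => ?_) fun x hx => ?_
    · rw [mem_comap, mem_center_iff]
      intro y
      obtain ⟨z, rfl⟩ := hf y
      rw [← map_mul, ← map_mul, mem_center_iff.1 hx z]
    · set T := (center Y).comap f
      have h1 : ⁅T, (⊤ : Subgroup X)⁆ ≤ center X := le_trans (commutator_le.2 fun t ht z _ => by
        rw [MonoidHom.mem_ker, map_commutatorElement, commutatorElement_eq_one_iff_mul_comm]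
        exact (mem_center_iff.1 ht (f z)).symm) hk
      have h2 : ⁅⁅T, (⊤ : Subgroup X)⁆, (⊤ : Subgroup X)⁆ = ⊥ :=
        commutator_eq_bot_iff_le_centralizer.2 (h1.trans (center_le_centralizer _))
      have h3 := commutator_commutator_eq_bot_of_rotate (H₁ := (⊤ : Subgroup X)) (H₂ := ⊤) (H₃ := T)
        (by rw [commutator_comm ⊤ T]; exact h2) h2
      rw [← _root_.commutator_def, hX, commutator_eq_bot_iff_le_centralizer] at h3
      rw [mem_center_iff]
      intro z
      exact (mem_centralizer_iff.1 (h3 (mem_top z)) x hx).symm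
  refine ⟨Group.isPerfect_def.mpr hX, ?_⟩
  haveI := hY.2
  let g : X →* Y ⧸ center Y := (QuotientGroup.mk' (center Y)).comp f
  have hg : Function.Surjective g := (QuotientGroup.mk'_surjective _).comp hf
  have hgk : center X = g.ker := by
    rw [hcen]; ext x
    rw [mem_comap, MonoidHom.mem_ker]
    exact (QuotientGroup.eq_one_iff _).symm
  exact ((QuotientGroup.quotientMulEquivOfEq hgk).trans
    (QuotientGroup.quotientKerEquivOfSurjective g hg)).isSimpleGroup

variable {p : ℕ} {G : Type*} [Group G] [Finite G] [Fact p.Prime]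

theorem map_resOf {H : Type*} [Group H] [Finite H] (f : G →* H) (A : Subgroup G) :
    resOf p (A.map f) = (resOf p A).map f := by
  have hA : (A.map f) = (f.comp A.subtype).range := by
    rw [MonoidHom.range_eq_map, ← Subgroup.map_map, ← MonoidHom.range_eq_map, range_subtype]
  rw [resOf, resOf, Subgroup.map_map, ← CfsgLib.PIrr.map_pResidual (f.subgroupMap A)
    (f.subgroupMap_surjective A), Subgroup.map_map]
  rfl

theorem resOf_le_resOf_map {A : Subgroup G} {E : Subgroup G} (hA : A ≤ E) :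
    resOf p A = (resOf p (A.subgroupOf E)).map E.subtype := by
  rw [← map_resOf, Subgroup.map_subgroupOf_eq_of_le hA]

theorem main {Q U E : Subgroup G} (hQp : IsPGroup p Q) (hQ1 : Q ≠ ⊥) (hQ : IsLarge Q)
    (hU : IsElementaryAbelian p U) (hU1 : U ≠ ⊥) (hQE : Q ≤ E)
    (hEU : E ≤ normalizer (U : Set G)) (hQn : ¬ E ≤ normalizer (Q : Set G))
    [hn : ((centralizer (U : Set G)).subgroupOf E).Normal]
    (hred : pCore p (E ⧸ (centralizer (U : Set G)).subgroupOf E) = ⊥)
    (hqs : IsQuasisimple ((pResidual p E ⊔ (centralizer (U : Set G)).subgroupOf E).map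
      (QuotientGroup.mk' ((centralizer (U : Set G)).subgroupOf E)))) :
    let Er := resOf p (weakClosure Q E)
    let C := E ⊓ centralizer (U : Set G)
    resOf p E ⊔ C = Er ⊔ C ∧ ⁅Er, Er⁆ = Er ∧ resOf p Er = Er ∧
      (∀ hn2 : ((centralizer (U : Set G)).subgroupOf Er).Normal,
        IsQuasisimple (Er ⧸ (centralizer (U : Set G)).subgroupOf Er)) ∧
      IsQuasisimple (Er ⧸ pCore p Er) ∧
      ∀ Y : Subgroup G, Y ≤ E → IsPGroup p Y → ¬ Y ≤ centralizer (U : Set G) → ⁅Er, Y⁆ = Er := by
  intro Er C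
  set W := weakClosure Q E with hW
  set Cs := (centralizer (U : Set G)).subgroupOf E with hCs
  set π := QuotientGroup.mk' Cs with hπ
  have hπs : Function.Surjective π := QuotientGroup.mk'_surjective _
  set O := (pResidual p E ⊔ Cs).map π with hOdef
  have hOeq : O = pResidual p (E ⧸ Cs) := by
    rw [hOdef, Subgroup.map_sup, (Subgroup.map_eq_bot_iff _).2 (QuotientGroup.ker_mk' Cs).ge,
      sup_bot_eq, CfsgLib.PIrr.map_pResidual π hπs]
  haveI hOn : O.Normal := hOeq ▸ CfsgLib.PRed.pResidual_normal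
  have hUp : IsPGroup p U := isPGroup_of_elementary hU
  have hwc := large_wc hQ hQp hQ1
  have hCN : C ≤ normalizer (Q : Set G) :=
    inf_le_right.trans (large_centralizer_normalizes hQ hQp hUp hU1 (hQE.trans hEU))
  have hQC : ¬ Q ≤ C := fun h => hQn (hEU.trans (hQ.2 U
    (le_centralizer_iff.1 (h.trans inf_le_right)) hU1))
  have hEC : E ≤ normalizer (C : Set G) :=
    (le_inf le_normalizer (hEU.trans (normalizer_le_normalizer_centralizer U))).trans
      normalizer_le_normalizer_inf
  have hWE : W ≤ E := weakClosure_le_self _ _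
  have hQW : Q ≤ W := le_weakClosure hQE
  have hEW : E ≤ normalizer (W : Set G) :=
    le_normalizer.trans (normalizer_le_normalizer_weakClosure Q E)
  have hErW : Er ≤ W := resOf_le p W
  have hErE : Er ≤ E := hErW.trans hWE
  have hEEr : E ≤ normalizer (Er : Set G) := hEW.trans (WcFactor.le_normalizer_resOf W)
  obtain ⟨hWQ, hErQ⟩ := WcFactor.residual_weakClosure (p := p) hwc hQE
  -- images
  have hmemC : ∀ {x : G} (hx : x ∈ E), π ⟨x, hx⟩ = 1 ↔ x ∈ C := fun {x} hx => by
    rw [hπ, QuotientGroup.mk'_apply, QuotientGroup.eq_one_iff, hCs, mem_subgroupOf]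
    exact ⟨fun h => ⟨hx, h⟩, fun h => h.2⟩
  set Wb := (W.subgroupOf E).map π with hWb
  have hErb : (Er.subgroupOf E).map π = resOf p Wb := by
    rw [hWb, map_resOf]
    congr 1
    refine Subgroup.map_injective E.subtype_injective ?_
    rw [Subgroup.map_subgroupOf_eq_of_le hErE, ← resOf_le_resOf_map hWE]
  have hOW : O ≤ Wb := by
    haveI : (W.subgroupOf E).Normal := normal_subgroupOf_of_le_normalizer hEW
    haveI : Wb.Normal := Subgroup.Normal.map inferInstance _ hπs
    rcases le_or_centralizes hqs (M := Wb) (by rw [normalizer_eq_top]; exact le_top) with h | h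
    · exact h
    exfalso
    apply hQn
    -- `O^p(E)` and a Sylow subgroup normalize `Q`
    set P := resOf p E with hP
    have hPQ : P ≤ normalizer ((Q ⊔ C : Subgroup G) : Set G) := by
      intro x hx
      refine mem_normalizer_of_conj_mem ?_
      suffices hs : Q ⊔ C ≤ (Q ⊔ C).comap (MulAut.conj x).toMonoidHom from fun y hy => hs hy
      have hxE : x ∈ E := resOf_le p E hx
      refine sup_le (fun q hq => ?_)
        (fun c hc => mem_sup_right (conj_mem_of_normalizer (hEC hxE) hc))
      have hxO : π ⟨x, hxE⟩ ∈ O := by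
        obtain ⟨y, hy, hyx⟩ := hx
        exact mem_map_of_mem π (mem_sup_left ((Subtype.ext hyx : y = ⟨x, hxE⟩) ▸ hy))
      have h1 := mem_centralizer_iff.1 (h hxO) (π ⟨q, hQE hq⟩) ⟨⟨q, hQE hq⟩, hQW hq, rfl⟩
      have h2 : π ⟨q⁻¹ * (x * q * x⁻¹), mul_mem (inv_mem (hQE hq))
          (mul_mem (mul_mem hxE (hQE hq)) (inv_mem hxE))⟩ = 1 := by
        have : (⟨q⁻¹ * (x * q * x⁻¹), mul_mem (inv_mem (hQE hq))
            (mul_mem (mul_mem hxE (hQE hq)) (inv_mem hxE))⟩ : E) =
            ⟨q, hQE hq⟩⁻¹ * (⟨x, hxE⟩ * ⟨q, hQE hq⟩ * ⟨x, hxE⟩⁻¹) := rfl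
        rw [this, map_mul, map_mul, map_mul, map_inv, map_inv, ← h1, mul_inv_cancel_right,
          inv_mul_cancel]
      show x * q * x⁻¹ ∈ Q ⊔ C
      rw [← mul_inv_cancel_left q (x * q * x⁻¹)]
      exact mul_mem (mem_sup_left hq) (mem_sup_right ((hmemC _).1 h2))
    have hPn : P ≤ normalizer (Q : Set G) := fun x hx =>
      mem_normalizer_iff_cj.2 (wc_eq_of_le hwc
        (isPGroup_sup (isPGroup_cj hQp x) hQp (((map_mono le_sup_left).trans_eq
          (cj_eq_of_mem_normalizer (hPQ hx))).trans (sup_le le_normalizer hCN)))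
        le_sup_right le_sup_left)
    obtain ⟨T, hT⟩ := (hQp.comap_subtype (K := E)).exists_le_sylow
    have hE2 : E = (T : Subgroup E).map E.subtype ⊔ P := by
      have := congrArg (Subgroup.map E.subtype) (CfsgLib.PRed.sylow_sup_pResidual T)
      rw [Subgroup.map_sup, ← MonoidHom.range_eq_map, range_subtype] at this
      exact this.symm
    rw [hE2]
    exact sup_le (wc_le_normalizer hwc (T.2.map _) fun q hq => ⟨⟨q, hQE hq⟩, hT hq, rfl⟩) hPn
  have hErO : (Er.subgroupOf E).map π = O := by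
    refine le_antisymm ?_ ?_
    · rw [hErb, hOeq, ← resOf_top]
      exact resOf_mono le_top
    · have h1 : resOf p O = O := by rw [hOeq, ← resOf_top, resOf_resOf]
      rw [hErb, ← h1]
      exact resOf_mono hOW
  have hsup : resOf p E ⊔ C = Er ⊔ C := by
    refine le_antisymm (sup_le ?_ le_sup_right) (sup_le_sup_right (resOf_mono hWE) _)
    intro x hx
    obtain ⟨z, hz, rfl⟩ := hx
    have hzO : π z ∈ O := mem_map_of_mem π (mem_sup_left hz)
    rw [← hErO] at hzO
    obtain ⟨e, he, hez⟩ := hzO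
    have h1 : ((e⁻¹ * z : E) : G) ∈ C := (hmemC (e⁻¹ * z).2).1
      (by rw [map_mul, map_inv, hez, inv_mul_cancel])
    have := mul_mem (mem_sup_left (he : (e : G) ∈ Er) : (e : G) ∈ Er ⊔ C) (mem_sup_right h1)
    simpa using this
  -- `C` centralizes `W` modulo `R`
  set R := pCoreOf p C with hR
  have hER : E ≤ normalizer (R : Set G) := hEC.trans (normalizer_le_normalizer_pCoreOf C)
  have hRp : IsPGroup p R := isPGroup_pCoreOf C
  have hQCR : ⁅Q, C⁆ ≤ R := by
    refine le_trans (le_inf (CfsgLib.Coprime.commutator_le_of_normalizes hCN) ?_)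
      (le_pCoreOf inf_le_right ((le_inf hCN le_normalizer).trans normalizer_le_normalizer_inf)
        hQp.to_inf_left)
    rw [commutator_comm]
    exact CfsgLib.Coprime.commutator_le_of_normalizes (hQE.trans hEC)
  have hWC : ⁅W, C⁆ ≤ R := by
    let D : Subgroup G :=
      { carrier := {g | g ∈ E ∧ ∀ e ∈ C, ⁅g, e⁆ ∈ R}
        one_mem' := ⟨one_mem _, fun e _ => by simp⟩
        mul_mem' := fun {a b} ha hb => ⟨mul_mem ha.1 hb.1, fun e he => by
          rw [show ⁅a * b, e⁆ = a * ⁅b, e⁆ * a⁻¹ * ⁅a, e⁆ by group]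
          exact mul_mem (conj_mem_of_normalizer (hER ha.1) (hb.2 e he)) (ha.2 e he)⟩
        inv_mem' := fun {a} ha => ⟨inv_mem ha.1, fun e he => by
          rw [show ⁅a⁻¹, e⁆ = a⁻¹ * (⁅a, e⁆)⁻¹ * a⁻¹⁻¹ by group]
          exact conj_mem_of_normalizer (hER (inv_mem ha.1)) (inv_mem (ha.2 e he))⟩ }
    have hD : W ≤ D := by
      refine WcFactor.weakClosure_le_of_normal hwc hQE
        (fun q hq => ⟨hQE hq, fun e he => hQCR (commutator_mem_commutator hq he)⟩) ?_
      refine le_normalizer_iff.2 fun x hx g hg => ⟨mul_mem (mul_mem hx hg.1) (inv_mem hx), fun e he => ?_⟩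
      rw [show ⁅x * g * x⁻¹, e⁆ = x * ⁅g, x⁻¹ * e * x⁻¹⁻¹⁆ * x⁻¹ by group]
      exact conj_mem_of_normalizer (hER hx) (hg.2 _ (conj_mem_of_normalizer (hEC (inv_mem hx)) he))
    exact commutator_le.2 fun g hg e he => (hD hg).2 e he
  -- absorbing `C`
  have hErres : resOf p Er = Er := resOf_resOf p W
  have habs : ∀ N A : Subgroup G, N ≤ Er → Er ≤ normalizer (N : Set G) → A ≤ W → ⁅Er, A⁆ = Er →
      A ≤ normalizer (N : Set G) → ⁅N, A⁆ ≤ N → Er ≤ N ⊔ C → Er ≤ N := by
    intro N A hN hEN hA hEA hAN hNA hNC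
    refine hErres.ge.trans (WcFactor.resOf_le_of_le_sup (D := Er ⊓ R) (hRp.to_le inf_le_right)
      (inf_le_left.trans hEN) ?_)
    refine hEA.ge.trans (commutator_le.2 fun e he a ha => ?_)
    obtain ⟨n, hn', c, hc, rfl⟩ := CfsgLib.Coprime.exists_mul_of_mem_sup ((hN.trans hErE).trans hEC)
      (hNC he)
    have hcE : c ∈ Er := (Er.mul_mem_cancel_left (hN hn')).1 he
    have haE : a ∈ normalizer (Er : Set G) := hEEr (hWE (hA ha))
    rw [show ⁅n * c, a⁆ = n * ⁅c, a⁆ * n⁻¹ * ⁅n, a⁆ by group]
    refine mul_mem (mem_sup_right ⟨Er.mul_mem (Er.mul_mem (hN hn') ?_) (Er.inv_mem (hN hn')), ?_⟩)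
      (mem_sup_left (hNA (commutator_mem_commutator hn' ha)))
    · rw [show ⁅c, a⁆ = c * (a * c⁻¹ * a⁻¹) by group]
      exact mul_mem hcE (conj_mem_of_normalizer haE (inv_mem hcE))
    · refine conj_mem_of_normalizer (hER (hErE (hN hn'))) ?_
      rw [← inv_mem_iff, commutatorElement_inv]
      exact hWC (commutator_mem_commutator (hA ha) hc)
  have hOperf : ⁅O, O⁆ = O := by
    have h6 := congrArg (Subgroup.map O.subtype) (CfsgLib.Components.quasisimple_commutator_eq_top hqs)
    rwa [_root_.commutator_def, Subgroup.map_commutator, ← MonoidHom.range_eq_map, range_subtype] at h6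
  have hlift : ∀ N : Subgroup G, N ≤ Er → O ≤ (N.subgroupOf E).map π → Er ≤ N ⊔ C := by
    intro N hN hON x hx
    have hxO : π ⟨x, hErE hx⟩ ∈ O :=
      hErO.le (mem_map_of_mem π (show (⟨x, hErE hx⟩ : E) ∈ Er.subgroupOf E from hx))
    obtain ⟨n, hn', hnx⟩ := hON hxO
    have h1 : ((n⁻¹ * ⟨x, hErE hx⟩ : E) : G) ∈ C := (hmemC (n⁻¹ * ⟨x, hErE hx⟩).2).1
      (by rw [map_mul, map_inv, hnx, inv_mul_cancel])
    have := mul_mem (mem_sup_left (hn' : (n : G) ∈ N) : (n : G) ∈ N ⊔ C) (mem_sup_right h1)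
    simpa using this
  have hperfect : ⁅Er, Er⁆ = Er := by
    have hD : ⁅Er, Er⁆ ≤ Er := CfsgLib.Coprime.commutator_le_of_normalizes le_normalizer
    refine le_antisymm hD ?_
    have hnD : ∀ A : Subgroup G, A ≤ E → A ≤ normalizer ((⁅Er, Er⁆ : Subgroup G) : Set G) :=
      fun A hA => (hA.trans hEEr).trans (by
        refine le_normalizer_iff.2 fun x hx d hd => ?_
        suffices hs : ⁅Er, Er⁆ ≤ (⁅Er, Er⁆).comap (MulAut.conj x).toMonoidHom from hs hd
        refine commutator_le.2 fun a ha b hb => ?_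
        show MulAut.conj x ⁅a, b⁆ ∈ ⁅Er, Er⁆
        rw [map_commutatorElement]
        exact commutator_mem_commutator (conj_mem_of_normalizer hx ha) (conj_mem_of_normalizer hx hb))
    refine habs _ Q hD (hnD Er hErE) hQW hErQ (hnD Q hQE)
      (CfsgLib.Coprime.commutator_le_of_normalizes (hnD Q hQE)) (hlift _ hD ?_)
    have hcomm : (⁅Er, Er⁆).subgroupOf E = ⁅Er.subgroupOf E, Er.subgroupOf E⁆ := by
      refine Subgroup.map_injective E.subtype_injective ?_
      rw [Subgroup.map_commutator, Subgroup.map_subgroupOf_eq_of_le (hD.trans hErE),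
        Subgroup.map_subgroupOf_eq_of_le hErE]
    rw [hcomm, Subgroup.map_commutator, hErO, hOperf]
  -- the two quotients
  let φ : Er →* E ⧸ Cs := π.comp (Subgroup.inclusion hErE)
  have hφr : φ.range = O := by
    rw [← hErO]
    ext y
    constructor
    · rintro ⟨x, rfl⟩; exact ⟨⟨x, hErE x.2⟩, x.2, rfl⟩
    · rintro ⟨z, hz, rfl⟩; exact ⟨⟨z, hz⟩, rfl⟩
  have hφk : φ.ker = (centralizer (U : Set G)).subgroupOf Er := by
    ext x
    rw [MonoidHom.mem_ker, mem_subgroupOf]
    exact ⟨fun h => ((hmemC (hErE x.2)).1 h).2, fun h => (hmemC (hErE x.2)).2 ⟨hErE x.2, h⟩⟩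
  have hErC : ⁅Er, Er ⊓ C⁆ ≤ pCoreOf p Er := by
    refine le_trans (le_inf (CfsgLib.Coprime.commutator_le_of_normalizes
      (inf_le_left.trans le_normalizer)) ?_) (le_pCoreOf inf_le_left
        ((le_inf le_normalizer (hErE.trans hER)).trans normalizer_le_normalizer_inf)
        (hRp.to_le inf_le_right))
    exact (commutator_mono hErW inf_le_right).trans hWC
  have hOpC : pCoreOf p Er ≤ C := by
    have h1 : pCoreOf p Er ≤ pCoreOf p E :=
      le_pCoreOf ((pCoreOf_le Er).trans hErE) (hEEr.trans (normalizer_le_normalizer_pCoreOf Er))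
        (isPGroup_pCoreOf Er)
    refine h1.trans fun x hx => ?_
    have hxE := pCoreOf_le E hx
    refine (hmemC hxE).1 ?_
    have h2 : π ⟨x, hxE⟩ ∈ pCore p (E ⧸ Cs) := CfsgLib.PRed.pCore_map_le π hπs
      ⟨⟨x, hxE⟩, by
        obtain ⟨y, hy, hyx⟩ := hx
        exact (Subtype.ext hyx : y = ⟨x, hxE⟩) ▸ hy, rfl⟩
    rwa [hred, mem_bot] at h2
  refine ⟨hsup, hperfect, hErres, fun hn2 => ?_, ?_, ?_⟩
  · exact CfsgLib.Components.isQuasisimple_of_mulEquiv hqs
      ((MulEquiv.subgroupCongr hφr).symm.trans ((QuotientGroup.quotientKerEquivRange φ).symm.trans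
        (QuotientGroup.quotientMulEquivOfEq hφk)))
  · let ψ : Er →* φ.range := φ.rangeRestrict
    have hle : pCore p Er ≤ ψ.ker := fun x hx => by
      rw [MonoidHom.ker_rangeRestrict, hφk, mem_subgroupOf]
      exact (hOpC ⟨x, hx, rfl⟩).2
    let f : Er ⧸ pCore p Er →* φ.range := QuotientGroup.lift _ ψ hle
    refine isQuasisimple_of_central ?_ f ?_ ?_
      (CfsgLib.Components.isQuasisimple_of_mulEquiv hqs (MulEquiv.subgroupCongr hφr).symm)
    · have hc : _root_.commutator Er = ⊤ := by
        refine Subgroup.map_injective Er.subtype_injective ?_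
        rw [_root_.commutator_def, Subgroup.map_commutator, ← MonoidHom.range_eq_map, range_subtype]
        exact hperfect
      have h := congrArg (Subgroup.map (QuotientGroup.mk' (pCore p Er))) hc
      rw [_root_.commutator_def, Subgroup.map_commutator,
        Subgroup.map_top_of_surjective _ (QuotientGroup.mk'_surjective _)] at h
      rw [_root_.commutator_def]
      exact h
    · exact QuotientGroup.lift_surjective_of_surjective _ _ φ.rangeRestrict_surjective _
    · intro a ha
      rw [mem_center_iff]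
      intro b
      obtain ⟨x, rfl⟩ := QuotientGroup.mk'_surjective _ a
      obtain ⟨y, rfl⟩ := QuotientGroup.mk'_surjective _ b
      have hx : (x : G) ∈ C := by
        have h1 : x ∈ φ.ker := by rw [← MonoidHom.ker_rangeRestrict]; exact ha
        rw [hφk] at h1
        exact ⟨hErE x.2, h1⟩
      rw [← commutatorElement_eq_one_iff_mul_comm, ← map_commutatorElement]
      refine (QuotientGroup.eq_one_iff _).2 ?_
      obtain ⟨z, hz, hzz⟩ := hErC (commutator_mem_commutator y.2 ⟨x.2, hx⟩)
      exact (Subtype.ext hzz : z = ⁅y, x⁆) ▸ hz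
  · intro Y hYE hY hYU
    set N := ⁅Er, Y⁆ with hNdef
    have hN : N ≤ Er := CfsgLib.Coprime.commutator_le_of_normalizes (hYE.trans hEEr)
    refine le_antisymm hN ?_
    have hEN : Er ≤ normalizer (N : Set G) := CfsgLib.Coprime.le_normalizer_commutator_left Er Y
    set Nb := (N.subgroupOf E).map π
    have hOnN : O ≤ normalizer (Nb : Set (E ⧸ Cs)) := by
      rw [← hErO]
      refine (Subgroup.map_mono ?_).trans (Subgroup.le_normalizer_map π)
      exact le_normalizer_iff.2 fun x hx n hn' =>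
        (conj_mem_of_normalizer (x := (n : G)) (hEN hx) hn' : (x : G) * n * (x : G)⁻¹ ∈ N)
    rcases le_or_centralizes hqs hOnN with h | h
    · exact habs N Er hN hEN hErW hperfect hEN (CfsgLib.Coprime.commutator_le_of_normalizes hEN)
        (hlift N hN h)
    exfalso
    -- the image of `Y` centralizes `O`
    set Yb := (Y.subgroupOf E).map π
    have hOY : Yb ≤ centralizer (O : Set (E ⧸ Cs)) := by
      have h1 : ⁅O, Yb⁆ ≤ Nb := by
        rw [← hErO, ← Subgroup.map_commutator]
        refine Subgroup.map_mono (commutator_le.2 fun a ha b hb => ?_)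
        exact commutator_mem_commutator ha hb
      have h2 : ⁅⁅O, Yb⁆, O⁆ = ⊥ := commutator_eq_bot_iff_le_centralizer.2
        (h1.trans (le_centralizer_iff.1 h))
      have h3 : ⁅⁅Yb, O⁆, O⁆ = ⊥ := by rw [commutator_comm Yb O]; exact h2
      have h5 := commutator_commutator_eq_bot_of_rotate (H₁ := O) (H₂ := O) (H₃ := Yb) h2 h3
      rw [hOperf, commutator_eq_bot_iff_le_centralizer] at h5
      exact le_centralizer_iff.1 h5
    set K := centralizer (O : Set (E ⧸ Cs)) with hK
    haveI : K.Normal := inferInstance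
    -- `K` is nilpotent
    let f : K →* (E ⧸ Cs) ⧸ O := (QuotientGroup.mk' O).comp K.subtype
    have hfk : f.ker ≤ center K := by
      intro x hx
      rw [mem_center_iff]
      intro y
      have hxO : (x : E ⧸ Cs) ∈ O := (QuotientGroup.eq_one_iff _).1 hx
      exact Subtype.ext (mem_centralizer_iff.1 y.2 _ hxO).symm
    have hqp : IsPGroup p ((E ⧸ Cs) ⧸ O) := by
      haveI : (pResidual p (E ⧸ Cs)).Normal := CfsgLib.PRed.pResidual_normal
      exact (CfsgLib.PRed.isPGroup_quotient_pResidual (p := p) (G := E ⧸ Cs)).of_equiv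
        (QuotientGroup.quotientMulEquivOfEq hOeq.symm)
    haveI : Group.IsNilpotent f.range := (hqp.to_subgroup f.range).isNilpotent
    haveI : Group.IsNilpotent K :=
      Subgroup.isNilpotent_of_ker_le_center f.rangeRestrict (by rwa [MonoidHom.ker_rangeRestrict])
    obtain ⟨P, hP⟩ := (((hY.comap_subtype (K := E)).map π).comap_subtype (K := K)).exists_le_sylow
    haveI : (P : Subgroup K).Normal := inferInstance
    haveI : (P : Subgroup K).Characteristic := P.characteristic_of_normal inferInstance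
    haveI : ((P : Subgroup K).map K.subtype).Normal := inferInstance
    have hPbot := CfsgLib.PRed.le_pCore (p := p) ‹((P : Subgroup K).map K.subtype).Normal› (P.2.map _)
    rw [hred, le_bot_iff] at hPbot
    refine hYU fun y hy => ((hmemC (hYE hy)).1 ?_).2
    have hy1 : π ⟨y, hYE hy⟩ ∈ Yb := mem_map_of_mem π (show (⟨y, hYE hy⟩ : E) ∈ Y.subgroupOf E from hy)
    have : π ⟨y, hYE hy⟩ ∈ (P : Subgroup K).map K.subtype :=
      ⟨⟨_, hOY hy1⟩, hP hy1, rfl⟩
    rwa [hPbot, mem_bot] at this

end CfsgLib.Large.QuasiSection
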