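import Cfsg.Agent.Lib.SuzukiGroup.Group
import Cfsg.Agent.Lib.Large.Basic
import Cfsg.Agent.Lib.Recog.SuzukiFixedPointFree

/-!
Elements of odd prime order of `Sz(q)` are inverted by involutions (helper62).

If `k` has no eigenvalue in `F` it is inverted by some element of `Sp4(F)` and commutes with no
involution of `Sp4(F)`; so the set of inverting elements has odd cardinality, and the involutory
automorphism `g ↦ (g*)^(θ⁻¹)` of `Sp4(F)` fixes one of them, which lies in `Sz(q)`.
-/

set_option autoImplicit false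

open scoped Matrix

namespace CfsgLib.Large.SzReal

open Cfsg.Lie (altForm4 star4 Sp4 Sz pairOf)
open CfsgLib.SuzukiGroup Module

variable {F : Type*} [Field F]

/-- the form as a bilinear form -/
def form : LinearMap.BilinForm F (Fin 4 → F) :=
  LinearMap.mk₂ F altForm4 (fun a b c => by simp [altForm4]; ring)
    (fun c a b => by simp [altForm4]; ring) (fun a b c => by simp [altForm4]; ring)
    (fun c a b => by simp [altForm4]; ring)

theorem form_apply (u v : Fin 4 → F) : form u v = altForm4 u v := rfl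

theorem form_comm (u v : Fin 4 → F) : form u v = form v u :=
  CfsgLib.Recog.SuzukiFixedPointFree.altForm4_comm u v

theorem form_isRefl : (form : LinearMap.BilinForm F (Fin 4 → F)).IsRefl := fun u v h => by
  rw [form_comm]; exact h

theorem eq_zero_of_form (v : Fin 4 → F) (h : ∀ u, form v u = 0) : v = 0 := by
  by_contra hv
  obtain ⟨u, hu⟩ := CfsgLib.Recog.SuzukiFixedPointFree.exists_pair hv
  exact one_ne_zero (hu.symm.trans (h u))

theorem form_nondegenerate : (form : LinearMap.BilinForm F (Fin 4 → F)).Nondegenerate :=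
  ⟨eq_zero_of_form, fun v h => eq_zero_of_form v fun u => (form_comm v u).trans (h u)⟩

theorem form_pres {g : GL (Fin 4) F} (hg : g ∈ Sp4 F) (u v : Fin 4 → F) :
    form ((g : Matrix (Fin 4) (Fin 4) F) *ᵥ u) ((g : Matrix (Fin 4) (Fin 4) F) *ᵥ v) = form u v :=
  hg u v

variable [CharP F 2]

/-- Plücker coordinates of a pair of vectors -/
def wedge (u x : Fin 4 → F) : Fin 4 → F := fun r =>
  u (pairOf r).1 * x (pairOf r).2 - u (pairOf r).2 * x (pairOf r).1

theorem star4_mulVec_wedge {A : Matrix (Fin 4) (Fin 4) F} (hA : ColSymp A) {u x : Fin 4 → F}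
    (h : altForm4 u x = 0) : star4 A *ᵥ wedge u x = wedge (A *ᵥ u) (A *ᵥ x) := by
  ext p
  have ha := row_symp hA (pairOf p).1 (pairOf p).2
  rw [if_neg (pairOf_isotropic p)] at ha
  simp only [altForm4, Matrix.transpose_apply] at ha h
  generalize hk : (pairOf p).1 = k at ha
  generalize hl : (pairOf p).2 = l at ha
  simp only [wedge, star4, Matrix.mulVec, dotProduct, Fin.sum_univ_four, Matrix.of_apply, hk, hl]
  simp only [pairOf, Matrix.cons_val_zero, Matrix.cons_val_one, Matrix.cons_val]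
  grind

theorem star4_star4 {A : Matrix (Fin 4) (Fin 4) F} (hA : ColSymp A) :
    star4 (star4 A) = A.map (fun a => a ^ 2) := by
  have r := row_symp hA
  have r01 := r 0 1
  have r02 := r 0 2
  have r03 := r 0 3
  have r12 := r 1 2
  have r13 := r 1 3
  have r23 := r 2 3
  simp [altForm4, Matrix.transpose_apply] at r01 r02 r03 r12 r13 r23
  ext p q
  fin_cases p <;> fin_cases q <;>
    simp [star4, pairOf, Matrix.of_apply, Matrix.map_apply] <;> grind

theorem altForm4_wedge {u x u' x' : Fin 4 → F} (h : altForm4 u x = 0) (h' : altForm4 u' x' = 0) :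
    altForm4 (wedge u x) (wedge u' x') =
      altForm4 u u' * altForm4 x x' + altForm4 u x' * altForm4 x u' := by
  simp only [altForm4, wedge, pairOf, Matrix.cons_val_zero, Matrix.cons_val_one,
    Matrix.cons_val] at h h' ⊢
  grind

theorem colSymp_star4 {A : Matrix (Fin 4) (Fin 4) F} (hA : ColSymp A) : ColSymp (star4 A) := by
  intro i j
  have hw : ∀ r : Fin 4, (fun k => star4 A k r) =
      wedge (fun k => A k (pairOf r).1) (fun k => A k (pairOf r).2) := fun r => rfl
  rw [hw, hw, altForm4_wedge ((hA _ _).trans (if_neg (pairOf_isotropic i)))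
    ((hA _ _).trans (if_neg (pairOf_isotropic j))), hA, hA, hA, hA]
  fin_cases i <;> fin_cases j <;> simp [pairOf]

theorem wedge_eq_zero {u x : Fin 4 → F} (h : altForm4 u x = 0) (hw : wedge u x = 0) :
    ∀ i j, u i * x j = u j * x i := by
  have h0 := congrFun hw 0
  have h1 := congrFun hw 1
  have h2 := congrFun hw 2
  have h3 := congrFun hw 3
  simp [wedge, pairOf, altForm4, sub_eq_zero] at h h0 h1 h2 h3
  have h4 : u 0 * x 3 = u 3 * x 0 := by grind
  have h5 : u 1 * x 2 = u 2 * x 1 := by grind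
  intro i j
  fin_cases i <;> fin_cases j <;> simp <;> grind

variable {θ : F →+* F} {k : GL (Fin 4) F}

/-- `k` has no eigenvector in `F⁴` -/
def NoEig (k : GL (Fin 4) F) : Prop :=
  ∀ (v : Fin 4 → F) (c : F), (k : Matrix (Fin 4) (Fin 4) F) *ᵥ v = c • v → v = 0

/-- `S` is invariant under `k` -/
def Inv (k : GL (Fin 4) F) (S : Submodule F (Fin 4 → F)) : Prop :=
  ∀ v ∈ S, (k : Matrix (Fin 4) (Fin 4) F) *ᵥ v ∈ S

omit [CharP F 2] in
theorem mulVec_injective (k : GL (Fin 4) F) {v w : Fin 4 → F}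
    (h : (k : Matrix (Fin 4) (Fin 4) F) *ᵥ v = (k : Matrix (Fin 4) (Fin 4) F) *ᵥ w) : v = w := by
  have h1 := congrArg (fun z => ((k⁻¹ : GL (Fin 4) F) : Matrix (Fin 4) (Fin 4) F) *ᵥ z) h
  simpa [Matrix.mulVec_mulVec] using h1

omit [CharP F 2] in
theorem Inv.exists_preimage {S : Submodule F (Fin 4 → F)} (hS : Inv k S) {v : Fin 4 → F}
    (hv : v ∈ S) : ∃ w ∈ S, (k : Matrix (Fin 4) (Fin 4) F) *ᵥ w = v := by
  let f : ↥S →ₗ[F] ↥S := (Matrix.mulVecLin (k : Matrix (Fin 4) (Fin 4) F)).restrict hS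
  have hf : Function.Injective f := fun a b h =>
    Subtype.ext (mulVec_injective k (congrArg Subtype.val h))
  obtain ⟨w, hw⟩ := (LinearMap.injective_iff_surjective.1 hf) ⟨v, hv⟩
  exact ⟨w, w.2, congrArg Subtype.val hw⟩

omit [CharP F 2] in
theorem Inv.orthogonal {S : Submodule F (Fin 4 → F)} (hk : k ∈ Sp4 F) (hS : Inv k S) :
    Inv k ((form).orthogonal S) := by
  intro v hv
  rw [LinearMap.BilinForm.mem_orthogonal_iff] at hv ⊢
  intro n hn
  obtain ⟨w, hw, rfl⟩ := hS.exists_preimage hn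
  rw [form_pres hk]
  exact hv w hw

omit [CharP F 2] in
theorem finrank_ne_one (hne : NoEig k) {S : Submodule F (Fin 4 → F)} (hS : Inv k S) :
    finrank F S ≠ 1 := by
  intro h
  obtain ⟨v, hv, hv0⟩ := Submodule.exists_mem_ne_zero_of_ne_bot
    (fun e : S = ⊥ => by rw [e, finrank_bot] at h; omega)
  obtain ⟨c, hc⟩ := (finrank_eq_one_iff_of_nonzero' (⟨v, hv⟩ : ↥S)
    (fun e => hv0 (congrArg Subtype.val e))).1 h ⟨_, hS v hv⟩
  exact hv0 (hne v c (congrArg Subtype.val hc).symm)

/-- no invariant totally isotropic plane -/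
theorem not_isotropic (hθ : Function.Bijective θ) (hk : Rel θ (k : Matrix (Fin 4) (Fin 4) F))
    (hne : NoEig k) {S : Submodule F (Fin 4 → F)} (hS : Inv k S) (h2 : finrank F S ≤ 2)
    (hiso : ∀ a ∈ S, ∀ b ∈ S, form a b = 0) : S = ⊥ := by
  by_contra hb
  have h2' : finrank F S = 2 := by
    have h1 := finrank_ne_one hne hS
    have h0 : finrank F S ≠ 0 := fun e => hb (Submodule.finrank_eq_zero.1 e)
    omega
  obtain ⟨u, hu, hu0⟩ := Submodule.exists_mem_ne_zero_of_ne_bot hb
  obtain ⟨x, hx⟩ : ∃ x, x = (k : Matrix (Fin 4) (Fin 4) F) *ᵥ u := ⟨_, rfl⟩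
  have hxS : x ∈ S := hx ▸ hS u hu
  have hind : LinearIndependent F ![u, x] := by
    rw [LinearIndependent.pair_iff' hu0]
    intro a ha
    exact hu0 (hne u a (by rw [← hx]; exact ha.symm))
  have hsp : Submodule.span F (Set.range ![u, x]) = S := by
    refine Submodule.eq_of_le_of_finrank_le (Submodule.span_le.2 ?_) ?_
    · rintro _ ⟨i, rfl⟩
      fin_cases i <;> simpa
    · rw [finrank_span_eq_card hind, h2']; simp
  have hkx := hS x hxS
  rw [← hsp, Submodule.mem_span_range_iff_exists_fun] at hkx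
  obtain ⟨c, hc⟩ := hkx
  simp [Fin.sum_univ_two] at hc
  have hω := star4_mulVec_wedge hk.1 (u := u) (x := x) (hiso u hu x hxS)
  rw [hk.2, ← hx, ← hc] at hω
  have hω' : (k : Matrix (Fin 4) (Fin 4) F).map θ *ᵥ wedge u x = c 0 • wedge u x := by
    rw [hω]
    ext r
    simp [wedge]
    grind
  have hw0 : wedge u x ≠ 0 := by
    intro e
    obtain ⟨i, hi⟩ := Function.ne_iff.1 hu0
    have h3 := wedge_eq_zero (hiso u hu x hxS) e i
    refine hu0 (hne u (x i / u i) ?_)
    ext j
    rw [← hx, Pi.smul_apply, smul_eq_mul, div_mul_eq_mul_div, eq_div_iff hi]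
    linear_combination h3 j
  let e : F ≃+* F := RingEquiv.ofBijective θ hθ
  have hv := hne (fun i => e.symm (wedge u x i)) (e.symm (c 0)) (by
    ext i
    apply e.injective
    have h4 := congrFun hω' i
    simp only [Matrix.mulVec, dotProduct, Matrix.map_apply, Pi.smul_apply, smul_eq_mul] at h4 ⊢
    rw [map_sum, map_mul, RingEquiv.apply_symm_apply, RingEquiv.apply_symm_apply, ← h4]
    refine Finset.sum_congr rfl fun j _ => ?_
    rw [map_mul, RingEquiv.apply_symm_apply]
    rfl)
  refine hw0 (funext fun i => ?_)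
  have h5 := congrArg e (congrFun hv i)
  simpa using h5

/-- no involution of `Sp4` commutes with `k` -/
theorem eq_one_of_commute (hθ : Function.Bijective θ)
    (hk : Rel θ (k : Matrix (Fin 4) (Fin 4) F)) (hne : NoEig k) {t : GL (Fin 4) F}
    (ht : t ∈ Sp4 F) (ht2 : t * t = 1) (htk : t * k = k * t) : t = 1 := by
  let N : (Fin 4 → F) →ₗ[F] (Fin 4 → F) :=
    Matrix.mulVecLin (t : Matrix (Fin 4) (Fin 4) F) + LinearMap.id
  have hN : ∀ y, N y = (t : Matrix (Fin 4) (Fin 4) F) *ᵥ y + y := fun y => rfl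
  set S := LinearMap.range N with hS
  have hinv : Inv k S := by
    rintro _ ⟨y, rfl⟩
    refine ⟨(k : Matrix (Fin 4) (Fin 4) F) *ᵥ y, ?_⟩
    rw [hN, hN, Matrix.mulVec_add, Matrix.mulVec_mulVec, Matrix.mulVec_mulVec, ← Units.val_mul,
      ← Units.val_mul, htk]
  have hiso : ∀ a ∈ S, ∀ b ∈ S, form a b = 0 := by
    rintro _ ⟨y, rfl⟩ _ ⟨z, rfl⟩
    have h1 : form y ((t : Matrix (Fin 4) (Fin 4) F) *ᵥ z) =
        form ((t : Matrix (Fin 4) (Fin 4) F) *ᵥ y) z := by
      rw [← form_pres ht y, Matrix.mulVec_mulVec, ← Units.val_mul, ht2, Units.val_one,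
        Matrix.one_mulVec]
    rw [hN, hN]
    simp only [map_add, LinearMap.add_apply]
    rw [form_pres ht, h1]
    grind
  have hle : finrank F S ≤ 2 := by
    have h1 : S ≤ form.orthogonal S := fun a ha =>
      LinearMap.BilinForm.mem_orthogonal_iff.2 fun n hn => hiso n hn a ha
    have h2 := Submodule.finrank_mono h1
    rw [LinearMap.BilinForm.finrank_orthogonal form_nondegenerate, Module.finrank_pi] at h2
    simp at h2
    omega
  have hbot := not_isotropic hθ hk hne hinv hle hiso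
  rw [LinearMap.range_eq_bot] at hbot
  refine Units.ext (Matrix.toLin'.injective (LinearMap.ext fun y => ?_))
  have h3 := LinearMap.congr_fun hbot y
  rw [hN, LinearMap.zero_apply] at h3
  rw [Matrix.toLin'_apply, Matrix.toLin'_apply, Units.val_one, Matrix.one_mulVec]
  exact CharTwo.add_eq_zero.1 h3

omit [CharP F 2] in
theorem form_pow_pres (hk : k ∈ Sp4 F) (n : ℕ) (u v : Fin 4 → F) :
    form (((k ^ n : GL (Fin 4) F) : Matrix (Fin 4) (Fin 4) F) *ᵥ u)
      (((k ^ n : GL (Fin 4) F) : Matrix (Fin 4) (Fin 4) F) *ᵥ v) = form u v :=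
  form_pres (pow_mem hk n) u v

/-- the span of an orbit -/
def orb (k : GL (Fin 4) F) (u : Fin 4 → F) : Submodule F (Fin 4 → F) :=
  Submodule.span F (Set.range fun n : ℕ => ((k ^ n : GL (Fin 4) F) : Matrix (Fin 4) (Fin 4) F) *ᵥ u)

omit [CharP F 2] in
theorem mem_orb (k : GL (Fin 4) F) (u : Fin 4 → F) (n : ℕ) :
    ((k ^ n : GL (Fin 4) F) : Matrix (Fin 4) (Fin 4) F) *ᵥ u ∈ orb k u :=
  Submodule.subset_span ⟨n, rfl⟩

omit [CharP F 2] in
theorem inv_orb (k : GL (Fin 4) F) (u : Fin 4 → F) : Inv k (orb k u) := by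
  intro v hv
  have h1 : Submodule.map (Matrix.mulVecLin (k : Matrix (Fin 4) (Fin 4) F)) (orb k u) ≤ orb k u := by
    rw [orb, Submodule.map_span, Submodule.span_le]
    rintro _ ⟨_, ⟨n, rfl⟩, rfl⟩
    rw [Matrix.mulVecLin_apply, Matrix.mulVec_mulVec, ← Units.val_mul, ← pow_succ']
    exact mem_orb k u (n + 1)
  exact h1 ⟨v, hv, rfl⟩

omit [CharP F 2] in
theorem orb_le {S : Submodule F (Fin 4 → F)} (hS : Inv k S) {u : Fin 4 → F} (hu : u ∈ S) :
    orb k u ≤ S := by
  refine Submodule.span_le.2 ?_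
  rintro _ ⟨n, rfl⟩
  induction n with
  | zero => simpa using hu
  | succ n ih =>
    have h := hS _ ih
    rwa [Matrix.mulVec_mulVec, ← Units.val_mul, ← pow_succ'] at h

/-- `k` is conjugate to its inverse in `Sp4` -/
theorem exists_reversing [Finite F] (hθ : Function.Bijective θ)
    (hk : Rel θ (k : Matrix (Fin 4) (Fin 4) F)) (hne : NoEig k) :
    ∃ g ∈ Sp4 F, g * k * g⁻¹ = k⁻¹ := by
  have hkS : k ∈ Sp4 F := (mem_sp4_iff k).2 hk.1
  -- generators of pairwise orthogonal orbits
  obtain ⟨G, hspan, horth⟩ : ∃ G : Bool → (Fin 4 → F),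
      orb k (G false) ⊔ orb k (G true) = ⊤ ∧
        ∀ n m : ℕ, form (((k ^ n : GL (Fin 4) F) : Matrix (Fin 4) (Fin 4) F) *ᵥ G false)
          (((k ^ m : GL (Fin 4) F) : Matrix (Fin 4) (Fin 4) F) *ᵥ G true) = 0 := by
    obtain ⟨u, hu⟩ : ∃ u : Fin 4 → F, u ≠ 0 := exists_ne 0
    have hI := inv_orb k u
    have hI' := hI.orthogonal hkS
    have hdim : finrank F (form.orthogonal (orb k u)) = 4 - finrank F (orb k u) := by
      rw [LinearMap.BilinForm.finrank_orthogonal form_nondegenerate, Module.finrank_pi]; simp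
    have hpos : orb k u ≠ ⊥ := fun e => hu (by
      have h := mem_orb k u 0
      rw [e, Submodule.mem_bot] at h
      simpa using h)
    have hle4 : finrank F (orb k u) ≤ 4 := by
      have h := Submodule.finrank_le (orb k u)
      simpa [Module.finrank_pi] using h
    have h0 : finrank F (orb k u) ≠ 0 := fun e => hpos (Submodule.finrank_eq_zero.1 e)
    have h1 := finrank_ne_one hne hI
    have h3 := finrank_ne_one hne hI'
    rw [hdim] at h3
    obtain h4 | h2 : finrank F (orb k u) = 4 ∨ finrank F (orb k u) = 2 := by omega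
    · refine ⟨fun b => if b then 0 else u, ?_, fun n m => by simp⟩
      have h8 : orb k u = ⊤ := Submodule.eq_top_of_finrank_eq (by rw [h4, Module.finrank_pi]; simp)
      simp [h8]
    · have hdis : orb k u ⊓ form.orthogonal (orb k u) = ⊥ := by
        refine not_isotropic hθ hk hne (fun v hv => ⟨hI v hv.1, hI' v hv.2⟩)
          ((Submodule.finrank_mono inf_le_left).trans h2.le) fun a ha b hb => ?_
        exact LinearMap.BilinForm.mem_orthogonal_iff.1 hb.2 a ha.1
      obtain ⟨w, hw, hw0⟩ := Submodule.exists_mem_ne_zero_of_ne_bot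
        (fun e : form.orthogonal (orb k u) = ⊥ => by rw [e, finrank_bot] at hdim; omega)
      refine ⟨fun b => if b then w else u, ?_, fun n m => ?_⟩
      · have hw2 : orb k w = form.orthogonal (orb k u) := by
          refine Submodule.eq_of_le_of_finrank_le (orb_le hI' hw) ?_
          have h5 := finrank_ne_one hne (inv_orb k w)
          have h6 : finrank F (orb k w) ≠ 0 := fun e => hw0 (by
            have h := mem_orb k w 0
            rw [Submodule.finrank_eq_zero.1 e, Submodule.mem_bot] at h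
            simpa using h)
          omega
        simp only [if_true, Bool.false_eq_true, if_false]
        rw [hw2]
        refine Submodule.eq_top_of_finrank_eq ?_
        have h7 := Submodule.finrank_sup_add_finrank_inf_eq (orb k u) (form.orthogonal (orb k u))
        rw [hdis, finrank_bot] at h7
        rw [Module.finrank_pi]
        simp
        omega
      · simp only [if_true, Bool.false_eq_true, if_false]
        exact LinearMap.BilinForm.mem_orthogonal_iff.1 (orb_le hI' hw (mem_orb k w m)) _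
          (mem_orb k u n)
  -- the two maps `(b, n) ↦ k^n G b` and `(b, n) ↦ k^{-n} G b`
  let L1 : ((Bool × ℕ) →₀ F) →ₗ[F] (Fin 4 → F) := Finsupp.linearCombination F fun p =>
    ((k ^ p.2 : GL (Fin 4) F) : Matrix (Fin 4) (Fin 4) F) *ᵥ G p.1
  let L2 : ((Bool × ℕ) →₀ F) →ₗ[F] (Fin 4 → F) := Finsupp.linearCombination F fun p =>
    ((k⁻¹ ^ p.2 : GL (Fin 4) F) : Matrix (Fin 4) (Fin 4) F) *ᵥ G p.1
  have hinvpow : ∀ n : ℕ, ∃ m : ℕ, k⁻¹ ^ n = k ^ m := by
    intro n
    refine ⟨(orderOf k - 1) * n, ?_⟩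
    rw [pow_mul]
    congr 1
    exact inv_eq_of_mul_eq_one_right (by
      rw [← pow_succ', Nat.sub_add_cancel (orderOf_pos k), pow_orderOf_eq_one])
  have hbase : ∀ p q : Bool × ℕ,
      form (((k⁻¹ ^ p.2 : GL (Fin 4) F) : Matrix (Fin 4) (Fin 4) F) *ᵥ G p.1)
        (((k⁻¹ ^ q.2 : GL (Fin 4) F) : Matrix (Fin 4) (Fin 4) F) *ᵥ G q.1) =
      form (((k ^ p.2 : GL (Fin 4) F) : Matrix (Fin 4) (Fin 4) F) *ᵥ G p.1)
        (((k ^ q.2 : GL (Fin 4) F) : Matrix (Fin 4) (Fin 4) F) *ᵥ G q.1) := by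
    rintro ⟨b, n⟩ ⟨b', n'⟩
    obtain ⟨m, hm⟩ := hinvpow n
    obtain ⟨m', hm'⟩ := hinvpow n'
    cases b <;> cases b'
    case false.true => simp only [hm, hm', horth]
    case true.false =>
      simp only [hm, hm']
      rw [form_comm, horth, form_comm, horth]
    all_goals
      simp only
      rw [← form_pow_pres hkS (n + n')]
      simp only [Matrix.mulVec_mulVec, ← Units.val_mul]
      rw [show k ^ (n + n') * k⁻¹ ^ n = k ^ n' by rw [inv_pow, mul_inv_eq_iff_eq_mul, ← pow_add, add_comm],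
        show k ^ (n + n') * k⁻¹ ^ n' = k ^ n by rw [inv_pow, mul_inv_eq_iff_eq_mul, ← pow_add]]
      exact form_comm _ _
  have hform : ∀ a b, form (L2 a) (L2 b) = form (L1 a) (L1 b) := by
    intro a b
    simp only [L1, L2, Finsupp.linearCombination_apply, Finsupp.sum, map_sum, LinearMap.sum_apply,
      map_smul, LinearMap.smul_apply, hbase]
  have hs1 : Function.Surjective L1 := by
    rw [← LinearMap.range_eq_top, eq_top_iff, ← hspan, sup_le_iff]
    constructor <;> rw [orb, Submodule.span_le] <;> rintro _ ⟨n, rfl⟩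
    · exact ⟨Finsupp.single (false, n) 1, by simp [L1]⟩
    · exact ⟨Finsupp.single (true, n) 1, by simp [L1]⟩
  have hs2 : Function.Surjective L2 := by
    rw [← LinearMap.range_eq_top, eq_top_iff, ← hspan, sup_le_iff]
    constructor <;> rw [orb, Submodule.span_le] <;> rintro _ ⟨n, rfl⟩
    all_goals
      obtain ⟨m, hm⟩ : ∃ m : ℕ, k ^ n = k⁻¹ ^ m := by
        refine ⟨(orderOf k - 1) * n, ?_⟩
        rw [pow_mul]
        congr 1
        rw [inv_pow, eq_inv_iff_mul_eq_one, ← pow_succ',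
          Nat.sub_add_cancel (orderOf_pos k), pow_orderOf_eq_one]
    · exact ⟨Finsupp.single (false, m) 1, by simp [L2, hm]⟩
    · exact ⟨Finsupp.single (true, m) 1, by simp [L2, hm]⟩
  have hker : LinearMap.ker L1 ≤ LinearMap.ker L2 := by
    intro a ha
    rw [LinearMap.mem_ker] at ha ⊢
    refine eq_zero_of_form _ fun v => ?_
    obtain ⟨b, rfl⟩ := hs2 v
    rw [hform, ha, map_zero, LinearMap.zero_apply]
  let φ : (Fin 4 → F) →ₗ[F] (Fin 4 → F) :=
    (Submodule.liftQ _ L2 hker) ∘ₗ (L1.quotKerEquivOfSurjective hs1).symm.toLinearMap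
  have hφ : ∀ a, φ (L1 a) = L2 a := fun a => by
    simp only [φ, LinearMap.comp_apply, LinearEquiv.coe_coe,
      LinearMap.quotKerEquivOfSurjective_symm_apply, Submodule.mkQ_apply, Submodule.liftQ_apply]
  have hiso : ∀ u v, form (φ u) (φ v) = form u v := by
    intro u v
    obtain ⟨a, rfl⟩ := hs1 u
    obtain ⟨b, rfl⟩ := hs1 v
    rw [hφ, hφ, hform]
  have hinj : Function.Injective φ := by
    rw [← LinearMap.ker_eq_bot, Submodule.eq_bot_iff]
    intro v hv
    refine eq_zero_of_form v fun u => ?_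
    rw [← hiso, LinearMap.mem_ker.1 hv, map_zero, LinearMap.zero_apply]
  have hu : IsUnit (LinearMap.toMatrix' φ) := by
    rw [← Matrix.mulVec_injective_iff_isUnit]
    intro u v h
    exact hinj (by simpa [LinearMap.toMatrix'_mulVec] using h)
  have hgv : ∀ v, (hu.unit : Matrix (Fin 4) (Fin 4) F) *ᵥ v = φ v := fun v => by
    rw [IsUnit.unit_spec, LinearMap.toMatrix'_mulVec]
  refine ⟨hu.unit, fun u v => ?_, ?_⟩
  · show form ((hu.unit : Matrix (Fin 4) (Fin 4) F) *ᵥ u) ((hu.unit : Matrix (Fin 4) (Fin 4) F) *ᵥ v) = _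
    rw [hgv, hgv, hiso]; rfl
  · have hcomm : φ ∘ₗ Matrix.mulVecLin (k : Matrix (Fin 4) (Fin 4) F) ∘ₗ L1 =
        Matrix.mulVecLin ((k⁻¹ : GL (Fin 4) F) : Matrix (Fin 4) (Fin 4) F) ∘ₗ φ ∘ₗ L1 := by
      refine Finsupp.lhom_ext' fun p => LinearMap.ext_ring ?_
      obtain ⟨b, n⟩ := p
      have e1 : (k : Matrix (Fin 4) (Fin 4) F) *ᵥ L1 (Finsupp.single (b, n) 1) =
          L1 (Finsupp.single (b, n + 1) 1) := by
        simp [L1, Matrix.mulVec_mulVec, ← Units.val_mul, ← pow_succ']
      simp only [LinearMap.comp_apply, Finsupp.lsingle_apply, Matrix.mulVecLin_apply]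
      rw [e1, hφ, hφ]
      simp only [L2, Finsupp.linearCombination_single, one_smul, Matrix.mulVec_mulVec]
      rw [← Units.val_mul, ← pow_succ']
    rw [mul_inv_eq_iff_eq_mul]
    refine Units.ext (Matrix.toLin'.injective (LinearMap.ext fun v => ?_))
    obtain ⟨a, rfl⟩ := hs1 v
    rw [Matrix.toLin'_apply, Matrix.toLin'_apply, Units.val_mul, Units.val_mul,
      ← Matrix.mulVec_mulVec, ← Matrix.mulVec_mulVec, hgv, hgv]
    exact LinearMap.congr_fun hcomm a

/-- parity: an involutory automorphism fixing `k` fixes an involution reversing `k` -/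
theorem exists_fixed_inverting {H : Type*} [Group H] [Finite H] (τ : H → H)
    (hτm : ∀ g h, τ (g * h) = τ g * τ h) (hττ : ∀ g, τ (τ g) = g) {k g₀ : H} (hk : τ k = k)
    (hodd : ∀ c : H, c * k = k * c → c * c = 1 → c = 1) (hg₀ : g₀ * k * g₀⁻¹ = k⁻¹) :
    ∃ t : H, τ t = t ∧ t * t = 1 ∧ t * k * t = k⁻¹ := by
  classical
  haveI := Fintype.ofFinite H
  haveI : Fact (Nat.Prime 2) := ⟨Nat.prime_two⟩
  have hτ1 : τ 1 = 1 := by
    have h := hτm 1 1
    rw [one_mul] at h
    exact right_eq_mul.1 h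
  have hki : τ k⁻¹ = k⁻¹ := by
    refine eq_inv_of_mul_eq_one_left ?_
    conv_lhs => arg 2; rw [← hk]
    rw [← hτm, inv_mul_cancel, hτ1]
  let C : Subgroup H := Subgroup.centralizer {k}
  have hC : ¬ 2 ∣ Nat.card C := by
    intro hd
    obtain ⟨c, hc⟩ := exists_prime_orderOf_dvd_card' (G := ↥C) 2 hd
    have h1 : c * c = 1 := by rw [← pow_two, ← hc, pow_orderOf_eq_one]
    have h2 := hodd c (Subgroup.mem_centralizer_singleton_iff.1 c.2) (congrArg Subtype.val h1)
    have h3 : c = 1 := Subtype.ext h2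
    rw [h3, orderOf_one] at hc
    omega
  have hg₀' : g₀ * k = k⁻¹ * g₀ := mul_inv_eq_iff_eq_mul.1 hg₀
  have hcard : Fintype.card {g : H // g * k = k⁻¹ * g} = Nat.card C := by
    rw [← Nat.card_eq_fintype_card]
    refine Nat.card_congr
      { toFun := fun g => ⟨g₀⁻¹ * g.1, Subgroup.mem_centralizer_singleton_iff.2 ?_⟩
        invFun := fun c => ⟨g₀ * c.1, ?_⟩
        left_inv := fun g => Subtype.ext (mul_inv_cancel_left _ _)
        right_inv := fun c => Subtype.ext (inv_mul_cancel_left _ _) }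
    · rw [mul_assoc, g.2, ← mul_assoc, ← mul_assoc]
      congr 1
      rw [inv_mul_eq_iff_eq_mul, ← mul_assoc, hg₀', mul_assoc, mul_inv_cancel, mul_one]
    · rw [mul_assoc, Subgroup.mem_centralizer_singleton_iff.1 c.2, ← mul_assoc, hg₀', mul_assoc]
  let σ : Equiv.Perm {g : H // g * k = k⁻¹ * g} := Function.Involutive.toPerm
    (fun g => ⟨τ g.1, by
      have h := congrArg τ g.2
      rwa [hτm, hτm, hk, hki] at h⟩)
    (fun g => Subtype.ext (hττ g.1))
  obtain ⟨⟨g, hg⟩, hgfix⟩ := Equiv.Perm.exists_fixed_point_of_prime (p := 2) (n := 1)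
    (by rw [hcard]; exact hC) (σ := σ) (by
      ext x
      simp only [σ, pow_one, pow_two, Equiv.Perm.mul_apply, Function.Involutive.coe_toPerm]
      exact hττ x.1)
  have hgS : τ g = g := congrArg Subtype.val hgfix
  have hsq : g * g ∈ C := Subgroup.mem_centralizer_singleton_iff.2 (by
    have h1 : g * k⁻¹ = k * g := by
      rw [mul_inv_eq_iff_eq_mul, mul_assoc, hg, mul_inv_cancel_left]
    calc g * g * k = g * (k⁻¹ * g) := by rw [mul_assoc, hg]
      _ = g * k⁻¹ * g := (mul_assoc _ _ _).symm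
      _ = k * (g * g) := by rw [h1, mul_assoc])
  obtain ⟨n, hn⟩ : Odd (orderOf (g * g)) := by
    rw [← Nat.not_even_iff_odd, even_iff_two_dvd]
    intro h
    refine hC (h.trans ?_)
    exact (Subgroup.orderOf_coe (⟨g * g, hsq⟩ : ↥C)).symm ▸ orderOf_dvd_natCard _
  have hfix : ∀ m : ℕ, τ (g ^ m) = g ^ m := fun m => by
    induction m with
    | zero => simpa using hτ1
    | succ m ih => rw [pow_succ, hτm, ih, hgS]
  have hinv : g ^ (2 * n + 1) * g ^ (2 * n + 1) = 1 := by
    rw [← pow_add, ← two_mul, pow_mul, pow_two, ← hn, pow_orderOf_eq_one]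
  refine ⟨g ^ (2 * n + 1), hfix _, hinv, ?_⟩
  have h2 : Commute ((g * g) ^ n) k :=
    Commute.pow_left (Subgroup.mem_centralizer_singleton_iff.1 hsq) n
  have hpow : g ^ (2 * n + 1) * k = k⁻¹ * g ^ (2 * n + 1) := by
    rw [pow_succ', pow_mul, pow_two, mul_assoc, h2.eq, ← mul_assoc, hg, mul_assoc]
  rw [hpow, mul_assoc, hinv, mul_one]

/-- an element without eigenvalue is reversed by an element of `Sz` -/
theorem exists_reversing_sz [Fintype F] {e : ℕ} (P : Params F e) (hk : k ∈ Sz F e)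
    (hne : NoEig k) :
    ∃ t ∈ Sz F e, t * t = 1 ∧ t * k * t = k⁻¹ := by
  classical
  have hbij : Function.Bijective P.θ :=
    Finite.injective_iff_bijective.1 P.θ.injective
  let ε : F ≃+* F := RingEquiv.ofBijective P.θ hbij
  have hkR := (mem_iff P k).1 hk
  obtain ⟨g₀, hg₀, hg₀k⟩ := exists_reversing hbij hkR hne
  -- the automorphism
  let τm : Matrix (Fin 4) (Fin 4) F → Matrix (Fin 4) (Fin 4) F := fun A =>
    (star4 A).map ε.symm
  have hτmul : ∀ A B, ColSymp A → ColSymp B → τm (A * B) = τm A * τm B := fun A B hA hB => by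
    simp only [τm]
    rw [star4_mul hA hB]
    exact Matrix.map_mul (f := ε.symm.toRingHom)
  have hτ1 : τm 1 = 1 := by
    simp only [τm]
    rw [CfsgLib.Suzuki.star4_one]
    exact Matrix.map_one _ (map_zero _) (map_one _)
  have hcs : ∀ A, ColSymp A → ColSymp (τm A) := fun A hA i j => by
    have h1 := congrArg ε.symm (colSymp_star4 hA i j)
    simp only [altForm4, map_add, map_mul, apply_ite ε.symm, map_one, map_zero] at h1
    exact h1
  have hττ : ∀ A, ColSymp A → τm (τm A) = A := by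
    intro A hA
    ext i j
    simp only [τm]
    have h1 : star4 ((star4 A).map ε.symm) = (star4 (star4 A)).map ε.symm := by
      ext p r; simp [star4, Matrix.map_apply]
    rw [h1, star4_star4 hA]
    simp only [Matrix.map_apply]
    apply ε.injective
    apply ε.injective
    rw [RingEquiv.apply_symm_apply, RingEquiv.apply_symm_apply]
    exact (P.sq _).symm
  have hcol : ∀ g : ↥(Sp4 F), ColSymp ((g : GL (Fin 4) F) : Matrix (Fin 4) (Fin 4) F) := fun g =>
    (mem_sp4_iff _).1 g.2
  let τ : ↥(Sp4 F) → ↥(Sp4 F) := fun g =>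
    ⟨⟨τm ((g : GL (Fin 4) F) : Matrix (Fin 4) (Fin 4) F),
        τm ((g⁻¹ : ↥(Sp4 F)) : GL (Fin 4) F), by
          rw [← hτmul _ _ (hcol g) (hcol g⁻¹), ← Units.val_mul, ← Subgroup.coe_mul]
          simp [hτ1], by
          rw [← hτmul _ _ (hcol g⁻¹) (hcol g), ← Units.val_mul, ← Subgroup.coe_mul]
          simp [hτ1]⟩, (mem_sp4_iff _).2 (hcs _ (hcol g))⟩
  have hτm : ∀ g h, τ (g * h) = τ g * τ h := fun g h =>
    Subtype.ext (Units.ext (hτmul _ _ (hcol g) (hcol h)))
  have hτfix : ∀ g : ↥(Sp4 F), τ g = g ↔ (g : GL (Fin 4) F) ∈ Sz F e := by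
    intro g
    rw [mem_iff P, CfsgLib.SuzukiGroup.Rel, and_iff_right (hcol g), Subtype.ext_iff, Units.ext_iff]
    show τm _ = _ ↔ _
    constructor
    · intro h
      conv_rhs => rw [← h]
      ext i j
      simp only [τm, Matrix.map_apply]
      exact (RingEquiv.apply_symm_apply ε _).symm
    · intro h
      ext i j
      simp only [τm, Matrix.map_apply]
      rw [h, Matrix.map_apply]
      exact RingEquiv.symm_apply_apply ε _
  obtain ⟨t, ht, ht2, htk⟩ := exists_fixed_inverting τ hτm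
    (fun g => Subtype.ext (Units.ext (hττ _ (hcol g))))
    (k := ⟨k, (mem_sp4_iff k).2 hkR.1⟩) (g₀ := ⟨g₀, hg₀⟩) ((hτfix _).2 hk)
    (fun c hck hc2 => Subtype.ext (eq_one_of_commute hbij hkR hne c.2
      (congrArg Subtype.val hc2) (congrArg Subtype.val hck)))
    (Subtype.ext hg₀k)
  exact ⟨t, (hτfix t).1 ht, congrArg Subtype.val ht2, congrArg Subtype.val htk⟩

/-- an element of odd prime order of `Sz` is inverted by an element squaring to one -/
theorem exists_inverting [Fintype F] {e : ℕ} (P : Params F e) (k : ↥(Sz F e))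
    (hr : (orderOf k).Prime) (h2 : orderOf k ≠ 2) :
    ∃ t : ↥(Sz F e), t * t = 1 ∧ t * k * t = k⁻¹ := by
  classical
  set r := orderOf k with hrdef
  haveI : Fact r.Prime := ⟨hr⟩
  by_cases hq : r ∣ Fintype.card F - 1
  · -- `k` is conjugate into the torus
    let f : Fˣ →* ↥(Sz F e) :=
      { toFun := dEl P, map_one' := dEl_one P, map_mul' := fun x y => (dEl_mul P x y).symm }
    have hinj : Function.Injective f := fun x y h => Units.ext (by
      have h1 := congrFun (congrFun (congrArg mat h) 0) 0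
      simpa [f, mat, dEl, dMat] using h1)
    set q := Fintype.card F with hqdef
    have hcard : Nat.card ↥f.range = q - 1 := by
      rw [← Nat.card_congr (MonoidHom.ofInjective hinj).toEquiv, Nat.card_units, Nat.card_eq_fintype_card]
    have hq1 : 1 < q := Fintype.one_lt_card
    obtain ⟨T⟩ := (inferInstance : Nonempty (Sylow r ↥f.range))
    have hidx : ¬ r ∣ f.range.index := by
      intro hd
      have h1 := f.range.index_mul_card
      rw [hcard, card_sz P, ← hqdef] at h1
      have h3 : f.range.index = q ^ 2 * (q ^ 2 + 1) :=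
        Nat.eq_of_mul_eq_mul_right (by omega : 0 < q - 1) (h1.trans (by ring))
      rw [h3] at hd
      have hq' : (q - 1) + 1 = q := by omega
      rcases hr.dvd_mul.1 hd with h | h
      · have h4 : r ∣ q := hr.dvd_of_dvd_pow h
        have h5 : r ∣ q - (q - 1) := Nat.dvd_sub h4 hq
        rw [show q - (q - 1) = 1 by omega] at h5
        exact hr.one_lt.ne' (Nat.dvd_one.1 h5)
      · have h6 : r ∣ q ^ 2 + 1 - (q - 1) * (q + 1) := Nat.dvd_sub h (hq.mul_right _)
        rw [show q ^ 2 + 1 - (q - 1) * (q + 1) = 2 by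
          obtain ⟨a, ha⟩ : ∃ a, q = a + 1 := ⟨q - 1, by omega⟩
          rw [ha]
          rw [show a + 1 - 1 = a by omega, show (a + 1) ^ 2 + 1 = a * (a + 1 + 1) + 2 by ring]
          omega] at h6
        exact h2 ((Nat.prime_dvd_prime_iff_eq hr Nat.prime_two).1 h6)
    have hT : IsPGroup r ↥((T : Subgroup ↥f.range).map f.range.subtype) := T.2.map _
    have hTidx : ¬ r ∣ ((T : Subgroup ↥f.range).map f.range.subtype).index := by
      rw [Subgroup.index_map_subtype]
      intro h
      rcases hr.dvd_mul.1 h with h | h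
      · exact T.not_dvd_index h
      · exact hidx h
    obtain ⟨g, hg⟩ := exists_conj_sylow (hT.toSylow hTidx)
      (show IsPGroup r ↥(Subgroup.zpowers k) from IsPGroup.of_card (n := 1)
        (by rw [pow_one, Nat.card_zpowers]))
    obtain ⟨_, ⟨⟨_, x, rfl⟩, -, rfl⟩, hx⟩ := hg (Subgroup.mem_zpowers k)
    refine ⟨g * jEl P * g⁻¹, ?_, ?_⟩
    · calc g * jEl P * g⁻¹ * (g * jEl P * g⁻¹) = g * (jEl P * jEl P) * g⁻¹ := by group
        _ = 1 := by rw [jEl_mul_self]; group
    · have h7 : k = g * f x * g⁻¹ := hx.symm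
      have h8 : jEl P * f x * jEl P = (f x)⁻¹ := by
        show jEl P * dEl P x * jEl P = _
        rw [jEl_mul_dEl, mul_assoc, jEl_mul_self, mul_one]
        exact (inv_eq_of_mul_eq_one_right (show dEl P x * dEl P x⁻¹ = 1 by
          rw [dEl_mul, mul_inv_cancel, dEl_one])).symm
      calc g * jEl P * g⁻¹ * k * (g * jEl P * g⁻¹) = g * (jEl P * f x * jEl P) * g⁻¹ := by
            rw [h7]; group
        _ = k⁻¹ := by rw [h8, h7]; group
  · -- no eigenvalue
    have hkR := (mem_iff P (k : GL (Fin 4) F)).1 k.2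
    have hne : NoEig (k : GL (Fin 4) F) := by
      intro v c hc
      by_contra hv
      have hc0 : c ≠ 0 := by
        rintro rfl
        rw [zero_smul] at hc
        exact hv (mulVec_injective _ (hc.trans (Matrix.mulVec_zero _).symm))
      have hpow : ∀ n : ℕ, (((k : GL (Fin 4) F) ^ n : GL (Fin 4) F) : Matrix (Fin 4) (Fin 4) F) *ᵥ v
          = c ^ n • v := by
        intro n
        induction n with
        | zero => simp
        | succ n ih =>
          rw [pow_succ', Units.val_mul, ← Matrix.mulVec_mulVec, ih, Matrix.mulVec_smul, hc,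
            smul_smul, ← pow_succ]
      have hcr : c ^ r = 1 := by
        have h1 := hpow r
        rw [← Subgroup.coe_pow, hrdef, pow_orderOf_eq_one, OneMemClass.coe_one, Units.val_one,
          Matrix.one_mulVec] at h1
        obtain ⟨i, hi⟩ := Function.ne_iff.1 hv
        have h2 := congrFun h1 i
        rw [Pi.smul_apply, smul_eq_mul] at h2
        exact (mul_eq_right₀ hi).1 h2.symm
      have hc1 : c = 1 := by
        rcases (Nat.dvd_prime hr).1 (orderOf_dvd_of_pow_eq_one hcr) with h | h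
        · exact orderOf_eq_one_iff.1 h
        · exact absurd (h ▸ orderOf_dvd_of_pow_eq_one (FiniteField.pow_card_sub_one_eq_one c hc0)) hq
      rw [hc1, one_smul] at hc
      have h3 := CfsgLib.Recog.SuzukiFixedPointFree.eq_one_of_fixes (θ := P.θ)
        ((CfsgLib.Suzuki.mem_sz_iff P.pow_eq _).1 k.2)
        (by rw [Subgroup.orderOf_coe]; exact hr.odd_of_ne_two h2) hv hc
      exact hr.one_lt.ne' (by rw [hrdef, orderOf_eq_one_iff]; exact Subtype.ext h3)
    obtain ⟨t, ht, ht2, htk⟩ := exists_reversing_sz P k.2 hne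
    exact ⟨⟨t, ht⟩, Subtype.ext ht2, Subtype.ext htk⟩

end CfsgLib.Large.SzReal
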