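import Cfsg.Prelude.Def_LocalStructure
import Cfsg.Agent.Lib.LocalEven.Amalgam
import Cfsg.Agent.Lib.Transfer.Basic
import Cfsg.Agent.Lib.Large.Tools

/-!
The iterated closures `V_δ^{(n)}` on the coset graph of an amalgam (helper62).
-/

set_option autoImplicit false

open scoped commutatorElement

namespace CfsgLib.Large.VIter

open Cfsg CfsgLib.LocalEven

variable {X : Type*} [Group X] {p : ℕ} {M₁ M₂ : Subgroup X}

/-- translation by a group element, as a graph homomorphism -/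
def smulHom (g : X) : cosetGraph M₁ M₂ →g cosetGraph M₁ M₂ where
  toFun a := g • a
  map_rel' h := cg_adj_smul g h

theorem dist_smul (hc : (cosetGraph M₁ M₂).Connected) (g : X) (a b : CosetVertex M₁ M₂) :
    (cosetGraph M₁ M₂).dist (g • a) (g • b) = (cosetGraph M₁ M₂).dist a b := by
  have key : ∀ (h : X) (c d : CosetVertex M₁ M₂),
      (cosetGraph M₁ M₂).dist (h • c) (h • d) ≤ (cosetGraph M₁ M₂).dist c d := by
    intro h c d
    obtain ⟨w, hw⟩ := (hc.preconnected c d).exists_walk_length_eq_dist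
    rw [← hw, ← SimpleGraph.Walk.length_map (f := smulHom h) w]
    exact SimpleGraph.dist_le _
  refine le_antisymm (key g a b) ?_
  have h := key g⁻¹ (g • a) (g • b)
  simpa using h

theorem vertexZ_smul (g : X) (a : CosetVertex M₁ M₂) :
    (vertexZ p a).map (MulAut.conj g).toMonoidHom = vertexZ p (g • a) := by
  rw [vertexZ, vertexZ, MulAction.stabilizer_smul_eq_stabilizer_map_conj,
    sylowCenterClosure_map_conj]

theorem vIter_smul (hc : (cosetGraph M₁ M₂).Connected) (g : X) (n : ℕ) (a : CosetVertex M₁ M₂) :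
    (vertexVIter p M₁ M₂ n a).map (MulAut.conj g).toMonoidHom = vertexVIter p M₁ M₂ n (g • a) := by
  rw [vertexVIter, Subgroup.map_iSup]
  refine le_antisymm (iSup_le fun μ => ?_) (iSup_le fun μ => ?_)
  · rw [vertexZ_smul]
    exact le_iSup_of_le ⟨g • μ.1, by rw [dist_smul hc]; exact μ.2⟩ le_rfl
  · refine le_iSup_of_le ⟨g⁻¹ • μ.1, ?_⟩ ?_
    · have h := dist_smul hc g a (g⁻¹ • μ.1)
      rw [smul_inv_smul] at h
      rw [← h]
      exact μ.2
    · rw [vertexZ_smul, smul_inv_smul]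

theorem stabilizer_le_normalizer_vIter (hc : (cosetGraph M₁ M₂).Connected) (n : ℕ)
    (a : CosetVertex M₁ M₂) :
    MulAction.stabilizer X a ≤ Subgroup.normalizer (vertexVIter p M₁ M₂ n a : Set X) := fun g hg => by
  rw [mem_normalizer_iff_cj, vIter_smul hc, MulAction.mem_stabilizer_iff.1 hg]

theorem vIter_le (hc : (cosetGraph M₁ M₂).Connected) {a b : CosetVertex M₁ M₂} {m n : ℕ}
    (h : (cosetGraph M₁ M₂).dist a b + m ≤ n) :
    vertexVIter p M₁ M₂ m b ≤ vertexVIter p M₁ M₂ n a :=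
  iSup_le fun ν => le_iSup_of_le (⟨ν.1, by
    have h1 := hc.dist_triangle (u := a) (v := b) (w := ν.1)
    have h2 := ν.2
    omega⟩ : {μ : CosetVertex M₁ M₂ // (cosetGraph M₁ M₂).dist a μ ≤ n}) le_rfl

theorem exists_adj (a : CosetVertex M₁ M₂) : ∃ b, (cosetGraph M₁ M₂).Adj a b := by
  obtain ⟨x, rfl | rfl⟩ := cg_vertex_cases a
  · exact ⟨_, cg_adj_iff.2 ⟨x, Or.inl ⟨rfl, rfl⟩⟩⟩
  · exact ⟨_, cg_adj_iff.2 ⟨x, Or.inr ⟨rfl, rfl⟩⟩⟩

variable [Fact p.Prime]

/-- `N_{G_λ}(T) ≤ G_μ` for a Sylow subgroup `T` of the edge stabilizer -/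
theorem normalizer_le_edge (h : IsSpeAmalgamPair p M₁ M₂) {δ μ : CosetVertex M₁ M₂}
    (hμ : (cosetGraph M₁ M₂).Adj δ μ) {T : Subgroup X} (hT : IsSylIn p T (edgeStabilizer δ μ)) :
    MulAction.stabilizer X δ ⊓ Subgroup.normalizer (T : Set X) ≤ edgeStabilizer δ μ := by
  have key : ∀ (x : X) (T : Subgroup X),
      IsSylIn p T ((M₁ ⊓ M₂).map (MulAut.conj x).toMonoidHom) →
      ∀ g, g ∈ Subgroup.normalizer (T : Set X) →
        (g ∈ M₁.map (MulAut.conj x).toMonoidHom ∨ g ∈ M₂.map (MulAut.conj x).toMonoidHom) →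
        g ∈ (M₁ ⊓ M₂).map (MulAut.conj x).toMonoidHom := by
    intro x T hT g hg hgM
    have hT' := hT.map_conj x⁻¹
    rw [map_conj_inv_map_conj] at hT'
    obtain ⟨S, hS⟩ := hT'.exists_sylow
    obtain ⟨heq, hle⟩ := h.2.1 S
    rw [hS] at heq hle
    have hg' : x⁻¹ * g * x ∈
        Subgroup.normalizer ((T.map (MulAut.conj x⁻¹).toMonoidHom : Subgroup X) : Set X) := by
      refine Subgroup.le_normalizer_map _ ⟨g, hg, ?_⟩
      simp [mul_assoc]
    rw [mem_cj]
    rcases hgM with h1 | h1 <;> rw [mem_cj] at h1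
    · exact hle ⟨h1, hg'⟩
    · exact hle (heq.ge ⟨h1, hg'⟩)
  intro g hg
  obtain ⟨hgδ, hgT⟩ := Subgroup.mem_inf.1 hg
  have hμ0 := hμ
  rw [cg_adj_iff] at hμ0
  obtain ⟨x, ⟨rfl, rfl⟩ | ⟨rfl, rfl⟩⟩ := hμ0
  · rw [cg_edgeStab_inl_inr] at hT ⊢
    rw [cg_stab_inl] at hgδ
    exact key x T hT g hgT (Or.inl hgδ)
  · rw [cg_edgeStab_comm, cg_edgeStab_inl_inr] at hT ⊢
    rw [cg_stab_inr] at hgδ
    exact key x T hT g hgT (Or.inr hgδ)

/-- `G_λ` is generated by `O^p(L_λ)` and an edge stabilizer -/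
theorem stabilizer_le_sup (h : IsSpeAmalgamPair p M₁ M₂) {δ μ : CosetVertex M₁ M₂}
    (hμ : (cosetGraph M₁ M₂).Adj δ μ) :
    MulAction.stabilizer X δ ≤
      (pResidual p ↥(pElementClosure p (MulAction.stabilizer X δ))).map
        (pElementClosure p (MulAction.stabilizer X δ)).subtype ⊔ edgeStabilizer δ μ := by
  have hfin := CharPPair.finite_stab h.1 δ
  have hfe := CharPPair.finite_edge h.1 δ μ
  obtain ⟨T, hT⟩ := exists_isSylIn p (edgeStabilizer δ μ)
  have hTδ := CharPPair.isSylIn_edge h.1 hμ hT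
  set L := pElementClosure p (MulAction.stabilizer X δ) with hL
  have hLle : L ≤ MulAction.stabilizer X δ := pElementClosure_le p _
  haveI : Finite ↥L := finite_of_le hLle
  have hTL : T ≤ L := le_pElementClosure hTδ.1 hTδ.2.1
  intro g hg
  obtain ⟨e, he, n, hn, rfl⟩ := exists_mul_normalizer_sylow hTδ hg
  refine mul_mem ?_ ((le_sup_right : edgeStabilizer δ μ ≤ _) (normalizer_le_edge h hμ hT hn))
  obtain ⟨P, hP⟩ := (hTδ.mono hTL hLle).exists_sylow
  have h1 : (⟨e, he⟩ : ↥L) ∈ ((P : Subgroup ↥L) ⊔ pResidual p ↥L : Subgroup ↥L) := by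
    rw [CfsgLib.Transfer.sylow_sup_pResidual]; exact Subgroup.mem_top _
  have h2 : e ∈ ((P : Subgroup ↥L) ⊔ pResidual p ↥L).map L.subtype := ⟨_, h1, rfl⟩
  rw [Subgroup.map_sup, hP] at h2
  exact sup_le (hT.1.trans le_sup_right) le_sup_left h2

/-- the key contradiction: `V_λ^{(n)}` is not `V_μ^{(n-1)}` for all neighbours -/
theorem vIter_ne (h : IsSpeAmalgamPair p M₁ M₂) {δ μ : CosetVertex M₁ M₂}
    (hμ : (cosetGraph M₁ M₂).Adj δ μ) {n : ℕ}
    (hVQ : vertexVIter p M₁ M₂ (n + 1) δ ≤ vertexQ p δ) :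
    ¬ vertexVIter p M₁ M₂ (n + 1) δ ≤ vertexVIter p M₁ M₂ n μ := by
  intro hle
  have hc := CharPPair.connected h.1
  set T := vertexVIter p M₁ M₂ (n + 1) δ with hTdef
  have hd1 : (cosetGraph M₁ M₂).dist δ μ = 1 := SimpleGraph.dist_eq_one_iff_adj.2 hμ
  have heq : T = vertexVIter p M₁ M₂ n μ := le_antisymm hle (vIter_le hc (by omega))
  have hTe : T ≤ edgeStabilizer δ μ := le_inf (hVQ.trans (CfsgLib.LocalEven.pCoreOf_le p _))
    ((hVQ.trans (CharPPair.vertexQ_le_nk h.1 δ)).trans (nk_le_stab_neighbour hμ))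
  have hbot : T = ⊥ := by
    refine cg_normalizer_transitive_trivial h.1.1.1 h.1.1.2.2.2 δ μ hμ T hTe
      (fun ν ν' hν hν' => ?_) (fun ν ν' hν hν' => ?_)
    · obtain ⟨g, hg, hgν⟩ := cg_neighbours_transitive δ ν ν' hν hν'
      exact ⟨g, Subgroup.mem_inf.2 ⟨stabilizer_le_normalizer_vIter hc _ _ hg, hg⟩, hgν⟩
    · obtain ⟨g, hg, hgν⟩ := cg_neighbours_transitive μ ν ν' hν hν'
      refine ⟨g, Subgroup.mem_inf.2 ⟨?_, hg⟩, hgν⟩
      rw [heq]
      exact stabilizer_le_normalizer_vIter hc _ _ hg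
  have hfin := CharPPair.finite_stab h.1 δ
  obtain ⟨S, hS⟩ := exists_isSylIn p (MulAction.stabilizer X δ)
  have hS1 : S ≠ ⊥ := by
    intro e
    obtain ⟨P, hP⟩ := hS.exists_sylow
    have hdvd : p ∣ Nat.card ↥(MulAction.stabilizer X δ) := by
      obtain ⟨x, rfl | rfl⟩ := cg_vertex_cases δ
      · rw [cg_stab_inl, Subgroup.card_map_of_injective (MulAut.conj x).injective]
        exact h.1.2.2.2.1
      · rw [cg_stab_inr, Subgroup.card_map_of_injective (MulAut.conj x).injective]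
        exact h.1.2.2.2.2.1
    exact P.ne_bot_of_dvd_card hdvd (Subgroup.map_injective
      (MulAction.stabilizer X δ).subtype_injective (hP.trans (e.trans (Subgroup.map_bot _).symm)))
  haveI : Finite ↥S := finite_of_le hS.1
  have hzne : zOf S ≠ ⊥ := by
    intro e
    haveI : Nontrivial ↥S := (Subgroup.nontrivial_iff_ne_bot S).2 hS1
    haveI := hS.2.1.center_nontrivial
    obtain ⟨z, hz⟩ := exists_ne (1 : ↥(Subgroup.center ↥S))
    have hz' : ((z : ↥S) : X) ∈ zOf S := ⟨(z : ↥S).2, fun s hs =>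
      congrArg Subtype.val (Subgroup.mem_center_iff.1 z.2 ⟨s, hs⟩)⟩
    rw [e, Subgroup.mem_bot] at hz'
    exact hz (Subtype.ext (Subtype.ext hz'))
  haveI : Finite ↥(zOf S) := finite_of_le (inf_le_left : zOf S ≤ S)
  have hne := omegaOne_ne_bot (p := p) (hS.2.1.to_le inf_le_left : IsPGroup p ↥(zOf S)) hzne
  refine hne (le_bot_iff.1 ((omegaOne_zOf_le_sylowCenterClosure hS).trans ?_))
  rw [← hbot]
  exact le_iSup_of_le ⟨δ, by simp⟩ le_rfl

/-- `V_λ^{(n+1)}` is generated by the translates of `V_μ^{(n)}` under `G_λ` -/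
theorem vIter_succ_le (h : IsSpeAmalgamPair p M₁ M₂) {δ μ : CosetVertex M₁ M₂}
    (hμ : (cosetGraph M₁ M₂).Adj δ μ) (n : ℕ) :
    vertexVIter p M₁ M₂ (n + 1) δ ≤
      ⨆ g : MulAction.stabilizer X δ, vertexVIter p M₁ M₂ n ((g : X) • μ) := by
  have hc := CharPPair.connected h.1
  have hfin := CharPPair.finite_stab h.1 δ
  refine iSup_le fun ν => ?_
  rcases Nat.eq_zero_or_pos ((cosetGraph M₁ M₂).dist δ ν.1) with h0 | hpos
  · have hνδ : δ = ν.1 := (hc.dist_eq_zero_iff).1 h0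
    rw [← hνδ]
    refine iSup_le fun S => ?_
    have hS := isSylIn_of_sylow S
    have hfe := CharPPair.finite_edge h.1 δ μ
    obtain ⟨T, hT⟩ := exists_isSylIn p (edgeStabilizer δ μ)
    obtain ⟨g, hg, hgS⟩ := (CharPPair.isSylIn_edge h.1 hμ hT).conjugate hS
    refine le_iSup_of_le ⟨g, hg⟩ ?_
    have hadj : (cosetGraph M₁ M₂).Adj δ (g • μ) := by
      have := cg_adj_smul g hμ
      rwa [MulAction.mem_stabilizer_iff.1 hg] at this
    have hT2 : IsSylIn p T (MulAction.stabilizer X μ) :=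
      CharPPair.isSylIn_edge h.1 hμ.symm (by rwa [cg_edgeStab_comm])
    have hT3 : IsSylIn p (T.map (MulAut.conj g).toMonoidHom) (MulAction.stabilizer X (g • μ)) := by
      rw [MulAction.stabilizer_smul_eq_stabilizer_map_conj]; exact hT2.map_conj g
    refine le_iSup_of_le ⟨g • μ, by simp⟩ ?_
    refine le_trans (le_of_eq ?_) (omegaOne_zOf_le_sylowCenterClosure hT3)
    rw [hgS]
  · obtain ⟨w, hw, hd⟩ := cg_exists_neighbour_dist hc (show (cosetGraph M₁ M₂).dist δ ν.1 ≠ 0 by omega)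
    obtain ⟨g, hg, rfl⟩ := cg_neighbours_transitive δ μ w hμ hw
    refine le_iSup_of_le ⟨g, hg⟩ (le_iSup_of_le ⟨ν.1, ?_⟩ le_rfl)
    have := ν.2
    show (cosetGraph M₁ M₂).dist (g • μ) ν.1 ≤ n
    omega

/-- a bound for `[V, O^p(L_λ)]` which normalizes `V_μ` bounds all of `V_λ` -/
theorem vIter_le_of_commutator (h : IsSpeAmalgamPair p M₁ M₂) {δ μ : CosetVertex M₁ M₂}
    (hμ : (cosetGraph M₁ M₂).Adj δ μ) (n : ℕ) (W : Subgroup X) (hUW : vertexVIter p M₁ M₂ n μ ≤ W)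
    (hW : MulAction.stabilizer X δ ⊓ MulAction.stabilizer X μ ≤ Subgroup.normalizer (W : Set X))
    (hR : ⁅vertexVIter p M₁ M₂ (n + 1) δ,
      (pResidual p ↥(pElementClosure p (MulAction.stabilizer X δ))).map
        (pElementClosure p (MulAction.stabilizer X δ)).subtype⁆ ≤ W)
    (hWV : W ≤ vertexVIter p M₁ M₂ (n + 1) δ) :
    vertexVIter p M₁ M₂ (n + 1) δ ≤ W := by
  have hc := CharPPair.connected h.1
  have hsup : MulAction.stabilizer X δ ≤ Subgroup.normalizer (W : Set X) := by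
    refine (stabilizer_le_sup h hμ).trans (sup_le ?_ hW)
    intro r hr
    have key : ∀ s ∈ (pResidual p ↥(pElementClosure p (MulAction.stabilizer X δ))).map
        (pElementClosure p (MulAction.stabilizer X δ)).subtype, ∀ w ∈ W, s * w * s⁻¹ ∈ W := by
      intro s hs w hw
      have h2 : s * w * s⁻¹ * w⁻¹ ∈ W := by
        rw [show s * w * s⁻¹ * w⁻¹ = ⁅w, s⁆⁻¹ by rw [commutatorElement_def]; group]
        exact inv_mem (hR (Subgroup.commutator_mem_commutator (hWV hw) hs))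
      simpa using mul_mem h2 hw
    rw [Subgroup.mem_normalizer_iff]
    intro w
    refine ⟨key r hr w, fun hw => ?_⟩
    have := key r⁻¹ (inv_mem hr) _ hw
    simpa [mul_assoc] using this
  refine (vIter_succ_le h hμ n).trans (iSup_le fun g => ?_)
  rw [← vIter_smul hc]
  refine (Subgroup.map_mono hUW).trans (le_of_eq ?_)
  exact cj_eq_of_mem_normalizer (hsup g.2)

/-- in a finite `p`-group, `V = U [V, Q]` forces `V = U` -/
theorem le_of_le_sup_commutator {Q V U : Subgroup X} [Finite Q] (hQ : IsPGroup p Q) (hVQ : V ≤ Q)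
    (hUV : U ≤ V) (hUn : Q ≤ Subgroup.normalizer (U : Set X)) (h : V ≤ U ⊔ ⁅V, Q⁆) : V ≤ U := by
  haveI := hQ.isNilpotent
  haveI : (U.subgroupOf Q).Normal := Subgroup.normal_subgroupOf_of_le_normalizer hUn
  have hQQ : ⁅V, Q⁆ ≤ Q := (Subgroup.commutator_mono hVQ le_rfl).trans (Subgroup.commutator_le_self Q)
  have hstep : ∀ L : Subgroup ↥Q, L.Normal →
      V.subgroupOf Q ≤ U.subgroupOf Q ⊔ L →
      V.subgroupOf Q ≤ U.subgroupOf Q ⊔ ⁅L, (⊤ : Subgroup ↥Q)⁆ := by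
    intro L hL hle
    haveI := hL
    have h1 : (U ⊔ ⁅V, Q⁆).subgroupOf Q ≤ U.subgroupOf Q ⊔ ⁅V.subgroupOf Q, ⊤⁆ := by
      rw [Subgroup.subgroupOf_sup (hUV.trans hVQ) hQQ]
      refine sup_le_sup_left (le_of_eq ?_) _
      apply Subgroup.map_injective Q.subtype_injective
      rw [Subgroup.map_commutator, Subgroup.subgroupOf_map_subtype, Subgroup.subgroupOf_map_subtype,
        inf_eq_left.2 hQQ, inf_eq_left.2 hVQ, ← MonoidHom.range_eq_map, Subgroup.range_subtype]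
    refine ((Subgroup.comap_mono h).trans h1).trans (sup_le le_sup_left ?_)
    rw [Subgroup.commutator_le]
    intro v hv q _
    obtain ⟨u, hu, l, hl, rfl⟩ := Subgroup.mem_sup_of_normal_right.1 (hle hv)
    rw [show ⁅u * l, q⁆ = (u * ⁅l, q⁆ * u⁻¹) * ⁅u, q⁆ by simp only [commutatorElement_def]; group]
    refine mul_mem ((le_sup_right : _ ≤ U.subgroupOf Q ⊔ ⁅L, ⊤⁆) ?_)
      ((le_sup_left : _ ≤ U.subgroupOf Q ⊔ ⁅L, ⊤⁆) ?_)
    · exact (inferInstance : (⁅L, (⊤ : Subgroup ↥Q)⁆).Normal).conj_mem _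
        (Subgroup.commutator_mem_commutator hl (Subgroup.mem_top q)) u
    · rw [commutatorElement_def, mul_assoc, mul_assoc]
      refine mul_mem hu ?_
      rw [← mul_assoc]
      exact (inferInstance : (U.subgroupOf Q).Normal).conj_mem _ (inv_mem hu) q
  have hall : ∀ i, V.subgroupOf Q ≤ U.subgroupOf Q ⊔ Subgroup.lowerCentralSeries (⊤ : Subgroup ↥Q) i := by
    intro i
    induction i with
    | zero => rw [Subgroup.lowerCentralSeries_zero, sup_top_eq]; exact le_top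
    | succ i ih =>
      rw [Subgroup.lowerCentralSeries_succ]
      exact hstep _ inferInstance ih
  obtain ⟨i, hi⟩ := Subgroup.nilpotent_iff_lowerCentralSeries.1 hQ.isNilpotent
  have h2 := hall i
  rw [hi, sup_bot_eq] at h2
  intro v hv
  exact h2 (x := ⟨v, hVQ hv⟩) hv

end CfsgLib.Large.VIter
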