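import Cfsg.Agent.Lib.Large.FrakM
import Cfsg.Agent.Lib.LocalEven.SubnormalJoin
import Cfsg.Agent.Lib.LocalEven.PReducedSubnormal
import Cfsg.Agent.Lib.H82.ThreeSubgroup
import Cfsg.Agent.Lib.Coprime.Commutator

/-!
Factorizations `H° = H₁ H₂` of a weak closure with `[H₁, H₂] ≤ N(Q)`.
-/

set_option autoImplicit false

namespace CfsgLib.Large.WcFactor

open Cfsg Subgroup CfsgLib.SubJoin
open scoped commutatorElement

variable {p : ℕ} {G : Type*} [Group G] [Finite G] [Fact p.Prime]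

theorem resOf_le_of_le_sup {A N D : Subgroup G} (hD : IsPGroup p D)
    (hDN : D ≤ normalizer (N : Set G)) (h : A ≤ N ⊔ D) : resOf p A ≤ N := by
  rw [resOf, CfsgLib.PRed.pResidual_map_subtype_eq, closure_le]
  rintro g ⟨hg, hgp⟩
  obtain ⟨d, hd, n, hn, rfl⟩ := CfsgLib.Coprime.exists_mul_of_mem_sup hDN
    (sup_comm N D ▸ h hg : g ∈ D ⊔ N)
  have hpow : ∀ m : ℕ, (d ^ m)⁻¹ * (d * n) ^ m ∈ N := by
    intro m
    induction m with
    | zero => simp
    | succ m ih =>
      have e : (d ^ (m + 1))⁻¹ * (d * n) ^ (m + 1) = d⁻¹ * ((d ^ m)⁻¹ * (d * n) ^ m) * d * n := by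
        rw [pow_succ, pow_succ]; simp [mul_assoc]
      rw [e]
      have h1 := conj_mem_of_normalizer ((normalizer (N : Set G)).inv_mem (hDN hd)) ih
      rw [inv_inv] at h1
      exact N.mul_mem h1 hn
  obtain ⟨k, hk⟩ := hD.exists_pow_pow_eq_one ⟨d, hd⟩
  have hdk : d ^ p ^ k = 1 := by simpa [Subtype.ext_iff] using hk
  have h2 := hpow (p ^ k)
  rw [hdk, inv_one, one_mul] at h2
  obtain ⟨m, hm⟩ := exists_pow_eq_self_of_coprime (Nat.Coprime.pow_left k hgp.symm)
  rw [SetLike.mem_coe, ← hm]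
  exact N.pow_mem h2 m

/-- The weak closure of a weakly closed `Q` in `L` is its normal closure there. -/
theorem weakClosure_le_of_normal {Q L N : Subgroup G} (h : IsWeaklyClosedSubgroup p Q)
    (hQL : Q ≤ L) (hQN : Q ≤ N) (hLN : L ≤ normalizer (N : Set G)) : weakClosure Q L ≤ N :=
  weakClosure_le fun g hg => by
    obtain ⟨k, hk, hkg⟩ := wc_exists_mem h hQL hg
    rw [hkg]
    exact (map_mono hQN).trans_eq (cj_eq_of_mem_normalizer (hLN hk))

theorem le_normalizer_resOf (A : Subgroup G) :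
    normalizer (A : Set G) ≤ normalizer (resOf p A : Set G) := by
  refine le_normalizer_iff.2 fun x hx k hk => ?_
  suffices hs : resOf p A ≤ (resOf p A).comap (MulAut.conj x).toMonoidHom from hs hk
  conv_lhs => rw [resOf, CfsgLib.PRed.pResidual_map_subtype_eq]
  refine (closure_le _).2 fun g hg => mem_resOf (conj_mem_of_normalizer hx hg.1) ?_
  rw [orderOf_injective (MulAut.conj x).toMonoidHom (MulAut.conj x).injective]
  exact hg.2

/-- `W = O^p(W) Q` and `[O^p(W), Q] = O^p(W)` for `W` generated by conjugates of `Q`. -/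
theorem residual_weakClosure {Q L : Subgroup G} (h : IsWeaklyClosedSubgroup p Q) (hQL : Q ≤ L) :
    weakClosure Q L = resOf p (weakClosure Q L) ⊔ Q ∧
      ⁅resOf p (weakClosure Q L), Q⁆ = resOf p (weakClosure Q L) := by
  set W := weakClosure Q L
  set K := resOf p W
  have hQ := wc_isPGroup h
  have hQW : Q ≤ W := le_weakClosure hQL
  have hWK : W ≤ normalizer (K : Set G) := le_normalizer.trans (le_normalizer_resOf W)
  have hWW : weakClosure Q W = W := le_antisymm (weakClosure_le_self _ _)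
    (weakClosure_le fun g hg => cj_le_weakClosure (cj_le_weakClosure hg))
  obtain ⟨P, hQP⟩ := (hQ.comap_subtype (K := W)).exists_le_sylow
  have hWP : W = (P : Subgroup W).map W.subtype ⊔ K := by
    have := congrArg (Subgroup.map W.subtype) (CfsgLib.PRed.sylow_sup_pResidual P)
    rw [Subgroup.map_sup, ← MonoidHom.range_eq_map, range_subtype] at this
    exact this.symm
  have hPp : IsPGroup p ((P : Subgroup W).map W.subtype) := P.2.map _
  have hQP' : Q ≤ (P : Subgroup W).map W.subtype := fun x hx => ⟨⟨x, hQW hx⟩, hQP hx, rfl⟩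
  have hKQn : W ≤ normalizer ((K ⊔ Q : Subgroup G) : Set G) := by
    conv_lhs => rw [hWP]
    refine sup_le ?_ (le_sup_left.trans le_normalizer)
    exact CfsgLib.Large.le_normalizer_sup ((Subgroup.map_subtype_le _).trans hWK)
      (wc_le_normalizer h hPp hQP')
  have hW : W = K ⊔ Q := by
    refine le_antisymm ?_ (sup_le (resOf_le p W) hQW)
    conv_lhs => rw [← hWW]
    exact weakClosure_le_of_normal h hQW le_sup_right hKQn
  refine ⟨hW, le_antisymm (CfsgLib.Coprime.commutator_le_of_normalizes (hQW.trans hWK)) ?_⟩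
  have hn : W ≤ normalizer ((⁅K, Q⁆ : Subgroup G) : Set G) := by
    conv_lhs => rw [hW]
    exact sup_le (CfsgLib.Coprime.le_normalizer_commutator_left K Q)
      (CfsgLib.Coprime.le_normalizer_commutator_right K Q)
  have hn2 : W ≤ normalizer ((⁅K, Q⁆ ⊔ Q : Subgroup G) : Set G) := by
    conv_lhs => rw [hW]
    refine sup_le (le_normalizer_iff.2 fun k hk x hx => ?_) (le_sup_right.trans le_normalizer)
    suffices hs : ⁅K, Q⁆ ⊔ Q ≤ (⁅K, Q⁆ ⊔ Q).comap (MulAut.conj k).toMonoidHom from hs hx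
    refine sup_le (fun c hc => mem_sup_left
      (conj_mem_of_normalizer (CfsgLib.Coprime.le_normalizer_commutator_left K Q hk) hc))
      (fun q hq => ?_)
    show k * q * k⁻¹ ∈ ⁅K, Q⁆ ⊔ Q
    have : k * q * k⁻¹ = ⁅k, q⁆ * q := by rw [commutatorElement_def]; group
    rw [this]
    exact mul_mem (mem_sup_left (commutator_mem_commutator hk hq)) (mem_sup_right hq)
  have hall : W ≤ ⁅K, Q⁆ ⊔ Q := by
    conv_lhs => rw [← hWW]
    exact weakClosure_le_of_normal h hQW le_sup_right hn2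
  exact resOf_le_of_le_sup hQ (hQW.trans hn) hall

theorem commutator_sup_le {A B X R : Subgroup G} (hA : ⁅A, X⁆ ≤ R) (hB : ⁅B, X⁆ ≤ R)
    (hn : A ≤ normalizer (R : Set G)) : ∀ a ∈ A, ∀ b ∈ B, ∀ x ∈ X, ⁅a * b, x⁆ ∈ R := by
  intro a ha b hb x hx
  rw [show ⁅a * b, x⁆ = a * ⁅b, x⁆ * a⁻¹ * ⁅a, x⁆ by group]
  exact mul_mem (conj_mem_of_normalizer (hn ha) (hB (commutator_mem_commutator hb hx)))
    (hA (commutator_mem_commutator ha hx))

/-- One factor of the weak closure. -/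
theorem factor {Q Hc H₁ H₂ : Subgroup G} (h : IsWeaklyClosedSubgroup p Q)
    (hHc : Hc = weakClosure Q ⊤) (h1 : H₁ ≤ Hc) (hn₁ : Hc ≤ normalizer (H₁ : Set G))
    (h2 : H₂ ≤ Hc) (hn₂ : Hc ≤ normalizer (H₂ : Set G)) (hprod : H₁ ⊔ H₂ = Hc)
    (hcomm : ⁅H₁, H₂⁆ ≤ normalizer (Q : Set G)) :
    let K := resOf p (weakClosure Q (H₁ ⊔ Q))
    ⁅K, Q⁆ = K ∧ ⁅K, H₁⁆ = K ∧ K ≤ ⁅H₁, H₁⁆ ∧ Hc ≤ normalizer (K : Set G) ∧ K ≤ H₁ ∧
      ⁅K, H₂⁆ ≤ pCoreOf p Hc ∧ H₁ ≤ normalizer ((K ⊔ Q : Subgroup G) : Set G) := by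
  intro K
  have hQ := wc_isPGroup h
  have hQc : Q ≤ Hc := hHc ▸ le_weakClosure le_top
  set L := H₁ ⊔ Q with hL
  have hQL : Q ≤ L := le_sup_right
  set W := weakClosure Q L with hW
  obtain ⟨hWKQ, hKQ⟩ := residual_weakClosure h hQL
  have hWL : W ≤ L := weakClosure_le_self _ _
  have hKW : K ≤ W := resOf_le p W
  have hLW : L ≤ normalizer (W : Set G) :=
    le_normalizer.trans (normalizer_le_normalizer_weakClosure Q L)
  have hLK : L ≤ normalizer (K : Set G) := hLW.trans (le_normalizer_resOf W)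
  have hK1 : K ≤ H₁ := resOf_le_of_le_sup hQ (hQc.trans hn₁) hWL
  set E := ⁅H₁, H₂⁆ with hE
  have hE1 : E ≤ H₁ := CfsgLib.Coprime.commutator_le_of_normalizes (h2.trans hn₁)
  have hE2 : E ≤ H₂ := by
    rw [hE, commutator_comm]
    exact CfsgLib.Coprime.commutator_le_of_normalizes (h1.trans hn₂)
  have hEn : Hc ≤ normalizer (E : Set G) := by
    rw [← hprod]
    exact sup_le (CfsgLib.Coprime.le_normalizer_commutator_left _ _)
      (CfsgLib.Coprime.le_normalizer_commutator_right _ _)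
  set R := pCoreOf p Hc with hR
  have hRn : Hc ≤ normalizer (R : Set G) := le_normalizer_pCoreOf Hc
  -- `Q`, hence `H°`, centralizes `E` modulo `R`
  have hQE : ⁅Q, E⁆ ≤ R := by
    have hle : ⁅Q, E⁆ ≤ Q ⊓ E := by
      refine le_inf ?_ (by
        rw [commutator_comm]; exact CfsgLib.Coprime.commutator_le_of_normalizes (hQc.trans hEn))
      exact CfsgLib.Coprime.commutator_le_of_normalizes hcomm
    refine hle.trans ?_
    have h3 : Q ⊓ E ≤ pCoreOf p E :=
      le_pCoreOf inf_le_right ((le_inf hcomm le_normalizer).trans normalizer_le_normalizer_inf)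
        hQ.to_inf_left
    exact h3.trans (le_pCoreOf ((pCoreOf_le E).trans (hE1.trans h1))
      (hEn.trans (normalizer_le_normalizer_pCoreOf E)) (isPGroup_pCoreOf E))
  have hHE : ⁅Hc, E⁆ ≤ R := by
    set C : Subgroup G :=
      { carrier := {g | g ∈ Hc ∧ ∀ e ∈ E, ⁅g, e⁆ ∈ R}
        one_mem' := ⟨one_mem _, fun e _ => by simp⟩
        mul_mem' := fun {a b} ha hb => ⟨mul_mem ha.1 hb.1, fun e he => by
          rw [show ⁅a * b, e⁆ = a * ⁅b, e⁆ * a⁻¹ * ⁅a, e⁆ by group]
          exact mul_mem (conj_mem_of_normalizer (hRn ha.1) (hb.2 e he)) (ha.2 e he)⟩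
        inv_mem' := fun {a} ha => ⟨inv_mem ha.1, fun e he => by
          rw [show ⁅a⁻¹, e⁆ = a⁻¹ * (⁅a, e⁆)⁻¹ * a⁻¹⁻¹ by group]
          exact conj_mem_of_normalizer (hRn (inv_mem ha.1)) (inv_mem (ha.2 e he))⟩ } with hC
    have hCn : Hc ≤ normalizer (C : Set G) := by
      refine le_normalizer_iff.2 fun x hx g hg => ⟨mul_mem (mul_mem hx hg.1) (inv_mem hx), fun e he => ?_⟩
      have he' : x⁻¹ * e * x⁻¹⁻¹ ∈ E := conj_mem_of_normalizer (hEn (inv_mem hx)) he
      rw [show ⁅x * g * x⁻¹, e⁆ = x * ⁅g, x⁻¹ * e * x⁻¹⁻¹⁆ * x⁻¹ by group]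
      exact conj_mem_of_normalizer (hRn hx) (hg.2 _ he')
    have hle : Hc ≤ C := by
      have hwQ : weakClosure Q Hc = Hc := le_antisymm (weakClosure_le_self _ _)
        (by
          conv_lhs => rw [hHc]
          refine weakClosure_le fun g _ => cj_le_weakClosure ?_
          rw [hHc]
          exact cj_le_weakClosure le_top)
      conv_lhs => rw [← hwQ]
      exact weakClosure_le_of_normal h hQc
        (fun q hq => ⟨hQc hq, fun e he => hQE (commutator_mem_commutator hq he)⟩) hCn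
    exact commutator_le.2 fun g hg e he => (hle hg).2 e he
  -- `[K, H₁] = K`
  set D := ⁅K, H₁⁆ with hD
  have hDK : D ≤ K :=
    CfsgLib.Coprime.commutator_le_of_normalizes ((le_sup_left : H₁ ≤ L).trans hLK)
  have hLD : L ≤ normalizer (D : Set G) := by
    refine le_normalizer_iff.2 fun x hx d hd => ?_
    suffices hs : D ≤ D.comap (MulAut.conj x).toMonoidHom from hs hd
    refine commutator_le.2 fun k hk g hg => ?_
    show MulAut.conj x ⁅k, g⁆ ∈ D
    rw [map_commutatorElement]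
    exact commutator_mem_commutator (conj_mem_of_normalizer (hLK hx) hk)
      (conj_mem_of_normalizer (((le_sup_left.trans_eq hprod).trans hn₁ |> fun a =>
        sup_le a (hQc.trans hn₁)) hx) hg)
  have hKD : ⁅K, Q⁆ ≤ D ⊔ (E ⊓ K) := by
    refine commutator_le.2 fun k hk q hq => ?_
    obtain ⟨a, ha, b, hb, rfl⟩ := CfsgLib.Coprime.exists_mul_of_mem_sup
      (h1.trans hn₂) (hprod.symm ▸ hQc hq : q ∈ H₁ ⊔ H₂)
    have hka : ⁅k, a⁆ ∈ D := commutator_mem_commutator hk ha
    have hkE : a * ⁅k, b⁆ * a⁻¹ ∈ E :=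
      conj_mem_of_normalizer (hEn (h1 ha)) (commutator_mem_commutator (hK1 hk) hb)
    have he : ⁅k, a * b⁆ = ⁅k, a⁆ * (a * ⁅k, b⁆ * a⁻¹) := by group
    rw [he]
    refine mul_mem (mem_sup_left hka) (mem_sup_right ⟨hkE, ?_⟩)
    have h4 : ⁅k, a * b⁆ ∈ K := hKQ.le (commutator_mem_commutator hk hq)
    rw [he] at h4
    exact (K.mul_mem_cancel_left (hDK hka)).1 h4
  have hKH : ⁅K, H₁⁆ = K := by
    refine le_antisymm hDK ?_
    have hK2 : K ≤ D ⊔ R := by
      refine hKQ.ge.trans ?_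
      refine commutator_le.2 fun k hk q hq => ?_
      obtain ⟨d, hd, e, he, rfl⟩ := CfsgLib.Coprime.exists_mul_of_mem_sup
        (inf_le_right.trans ((hKW.trans hWL).trans hLD))
        (sup_comm D (E ⊓ K) ▸ hKD (hKQ.ge hk) : k ∈ (E ⊓ K) ⊔ D)
      rw [show ⁅d * e, q⁆ = d * (e * (q * e⁻¹ * q⁻¹)) * d⁻¹ * ⁅d, q⁆ by group]
      refine mul_mem (mem_sup_left (conj_mem_of_normalizer ((hKW.trans hWL).trans hLD hd.2)
        (mul_mem he (conj_mem_of_normalizer (hLD (hQL hq)) (inv_mem he))))) (mem_sup_right ?_)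
      rw [← inv_mem_iff, commutatorElement_inv]
      exact hHE (commutator_mem_commutator (hQc hq) hd.1)
    calc K = resOf p K := (resOf_resOf p W).symm
      _ ≤ D := by
        refine resOf_le_of_le_sup (D := K ⊓ R) ((isPGroup_pCoreOf Hc).to_le inf_le_right)
          ((inf_le_left).trans ((hKW.trans hWL).trans hLD)) fun x hx => ?_
        obtain ⟨d, hd, r, hr, rfl⟩ := CfsgLib.Coprime.exists_mul_of_mem_sup
          ((hDK.trans hK1).trans (h1.trans hRn)) (hK2 hx)
        exact mul_mem (mem_sup_left hd) (mem_sup_right ⟨(K.mul_mem_cancel_left (hDK hd)).1 hx, hr⟩)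
  -- `[K, H₂] ≤ R`
  have hKH2 : ⁅K, H₂⁆ ≤ R := by
    have hmap : ∀ A : Subgroup G, A ≤ Hc → (A.subgroupOf Hc).map Hc.subtype = A :=
      fun A hA => Subgroup.map_subgroupOf_eq_of_le hA
    have lift : ∀ A B : Subgroup G, A ≤ Hc → B ≤ Hc → ∀ C : Subgroup G,
        ⁅A, B⁆ ≤ C → ⁅A.subgroupOf Hc, B.subgroupOf Hc⁆ ≤ C.subgroupOf Hc := fun A B hA hB C hC => by
      refine le_trans ?_ (Subgroup.comap_mono hC)
      rw [← Subgroup.map_le_iff_le_comap, Subgroup.map_commutator, hmap A hA, hmap B hB]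
    haveI : (R.subgroupOf Hc).Normal := normal_subgroupOf_of_le_normalizer hRn
    have three : ∀ X Y Z : Subgroup G, X ≤ Hc → Y ≤ Hc → Z ≤ Hc →
        ⁅⁅Y, Z⁆, X⁆ ≤ R → ⁅⁅Z, X⁆, Y⁆ ≤ R → ⁅⁅X, Y⁆, Z⁆ ≤ R := by
      intro X Y Z hX hY hZ h5 h6
      have hXY : ∀ {A B : Subgroup G}, A ≤ Hc → B ≤ Hc → ⁅A, B⁆ ≤ Hc := fun hA hB =>
        commutator_le.2 fun a ha b hb => by
          rw [commutatorElement_def]
          exact mul_mem (mul_mem (mul_mem (hA ha) (hB hb)) (inv_mem (hA ha))) (inv_mem (hB hb))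
      have key := CfsgLib.ThreeSub82.commutator_commutator_le_of_rotate (R.subgroupOf Hc)
        (A := X.subgroupOf Hc) (B := Y.subgroupOf Hc) (C := Z.subgroupOf Hc)
        ((commutator_mono (lift Y Z hY hZ _ le_rfl) le_rfl).trans
          (lift _ X (hXY hY hZ) hX _ h5))
        ((commutator_mono (lift Z X hZ hX _ le_rfl) le_rfl).trans
          (lift _ Y (hXY hZ hX) hY _ h6))
      have h7 := Subgroup.map_mono (f := Hc.subtype) key
      rw [Subgroup.map_commutator, Subgroup.map_commutator, hmap X hX, hmap Y hY, hmap Z hZ,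
        hmap R (pCoreOf_le Hc)] at h7
      exact h7
    have hKc : K ≤ Hc := hK1.trans h1
    have hE' : ⁅K, H₂⁆ ≤ E := commutator_mono hK1 le_rfl
    have h22 : ⁅⁅H₂, H₂⁆, K⁆ ≤ R := by
      refine three H₂ H₂ K h2 h2 hKc ?_ ?_
      · rw [commutator_comm, commutator_comm H₂ K]
        exact (commutator_mono le_rfl hE').trans ((commutator_mono h2 le_rfl).trans hHE)
      · rw [commutator_comm]
        exact (commutator_mono le_rfl hE').trans ((commutator_mono h2 le_rfl).trans hHE)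
    have h2K : ⁅⁅H₂, K⁆, Q⁆ ≤ R := by
      rw [commutator_comm, commutator_comm H₂ K]
      exact (commutator_mono le_rfl hE').trans ((commutator_mono hQc le_rfl).trans hHE)
    have hQH2 : ⁅⁅Q, H₂⁆, K⁆ ≤ R := by
      have hEK : ⁅E, K⁆ ≤ R := by
        rw [commutator_comm]
        exact (commutator_mono hKc le_rfl).trans hHE
      have hle : ⁅Q, H₂⁆ ≤ E ⊔ ⁅H₂, H₂⁆ := by
        refine commutator_le.2 fun q hq x hx => ?_
        obtain ⟨a, ha, b, hb, rfl⟩ := CfsgLib.Coprime.exists_mul_of_mem_sup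
          (h1.trans hn₂) (hprod.symm ▸ hQc hq : q ∈ H₁ ⊔ H₂)
        rw [show ⁅a * b, x⁆ = a * ⁅b, x⁆ * a⁻¹ * ⁅a, x⁆ by group,
          show a * ⁅b, x⁆ * a⁻¹ = ⁅a, ⁅b, x⁆⁆ * ⁅b, x⁆ by group]
        have hbx : ⁅b, x⁆ ∈ H₂ := by
          rw [commutatorElement_def]
          exact mul_mem (mul_mem (mul_mem hb hx) (inv_mem hb)) (inv_mem hx)
        exact mul_mem (mul_mem (mem_sup_left (commutator_mem_commutator ha hbx))
          (mem_sup_right (commutator_mem_commutator hb hx)))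
          (mem_sup_left (commutator_mem_commutator ha hx))
      refine (commutator_mono hle le_rfl).trans (commutator_le.2 fun g hg k hk => ?_)
      obtain ⟨e, he, f, hf, rfl⟩ := CfsgLib.Coprime.exists_mul_of_mem_sup (H := E) (N := ⁅H₂, H₂⁆)
        (fun e he => le_normalizer_iff.2 (fun y hy c hc =>
          conj_mem_of_normalizer (CfsgLib.Coprime.le_normalizer_commutator_left H₂ H₂ hy) hc)
          (hE2 he)) hg
      exact commutator_sup_le hEK h22 (hE1.trans (h1.trans hRn)) e he f hf k hk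
    exact (commutator_mono hKQ.ge le_rfl).trans (three K Q H₂ hKc hQc h2 hQH2 h2K)
  have hKn : Hc ≤ normalizer (K : Set G) := by
    rw [← hprod]
    refine sup_le ((le_sup_left : H₁ ≤ L).trans hLK) fun x hx => mem_normalizer_of_conj_mem ?_
    have hKR : ∀ k ∈ K, x * k * x⁻¹ ∈ K ⊔ R := fun k hk => by
      rw [show x * k * x⁻¹ = ⁅k, x⁆⁻¹ * k by group]
      exact mul_mem (mem_sup_right (inv_mem (hKH2 (commutator_mem_commutator hk hx))))
        (mem_sup_left hk)
    have hRK : R ⊓ L ≤ normalizer (K : Set G) := inf_le_right.trans hLK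
    have hle : (K.map (MulAut.conj x).toMonoidHom) ≤ K ⊔ (R ⊓ L) := by
      rintro _ ⟨k, hk, rfl⟩
      show x * k * x⁻¹ ∈ _
      have hx1 : x * k * x⁻¹ ∈ H₁ := conj_mem_of_normalizer (hn₁ (h2 hx)) (hK1 hk)
      obtain ⟨a, ha, r, hr, hk'⟩ := CfsgLib.Coprime.exists_mul_of_mem_sup
        ((hK1.trans h1).trans hRn) (hKR k hk)
      rw [hk']
      refine mul_mem (mem_sup_left ha) (mem_sup_right ⟨hr, ?_⟩)
      have : r = a⁻¹ * (x * k * x⁻¹) := by rw [hk']; group
      rw [this]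
      exact mem_sup_left (H₁.mul_mem (inv_mem (hK1 ha)) hx1)
    have h8 : resOf p (K.map (MulAut.conj x).toMonoidHom) ≤ K :=
      resOf_le_of_le_sup ((isPGroup_pCoreOf Hc).to_le inf_le_left) hRK hle
    intro k hk
    apply h8
    have hres : K = Subgroup.closure {g : G | g ∈ K ∧ (orderOf g).Coprime p} := by
      rw [← CfsgLib.PRed.pResidual_map_subtype_eq]; exact (resOf_resOf p W).symm
    have : K ≤ (resOf p (K.map (MulAut.conj x).toMonoidHom)).comap (MulAut.conj x).toMonoidHom := by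
      conv_lhs => rw [hres]
      refine (closure_le _).2 fun g hg => mem_resOf ⟨g, hg.1, rfl⟩ ?_
      rw [orderOf_injective (MulAut.conj x).toMonoidHom (MulAut.conj x).injective]
      exact hg.2
    exact this hk
  refine ⟨hKQ, hKH, ?_, hKn, hK1, hKH2, ?_⟩
  · conv_lhs => rw [← hKH]
    exact commutator_mono hK1 le_rfl
  · rw [← hWKQ]
    exact le_sup_left.trans hLW

end CfsgLib.Large.WcFactor
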